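import Cfsg.Agent.H41.LFi.Check

/-!
Kernel checks for the elements fixing the root of the first class and inducing the identity on its
orthogonal modulo the root.
-/

set_option autoImplicit false
set_option Elab.async false
set_option maxRecDepth 100000
set_option maxHeartbeats 4000000

namespace Cfsg.Agent.H41.LFi

open Cfsg.Agent.Compute Cfsg.Agent.H41.SUSix

/-- The image of the basis attached to the value `y` at the first vector. -/
noncomputable def radImg (y k : ℕ) : ℕ :=
  cond (Nat.beq k 0) y (cond (Nat.beq k 1) (Nat.xor y 5)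
    (Nat.xor (bC k) (scalC (mulC (getP 2 y k) (getP 2 y k)) 5)))

/-- The enumeration. -/
noncomputable def radC (y : ℕ) : Bool :=
  Nat.beq y 1 || Nat.beq y 4 ||
    !Nat.beq (clsC (Nat.xor (radImg y 0) (radImg y 2))) 2 ||
    !Nat.beq (clsC (Nat.xor (radImg y 1) (radImg y 3))) 2 ||
    !Nat.beq (clsC (Nat.xor (scalC 2 (radImg y 0)) (radImg y 2))) 2

theorem rad_ok : allN 4096 radC = true := by decide +kernel

theorem rad_test : clsC (Nat.xor (bC 0) (bC 2)) = 2 ∧ clsC (Nat.xor (bC 1) (bC 3)) = 2 ∧
    clsC (Nat.xor (scalC 2 (bC 0)) (bC 2)) = 2 := by decide +kernel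

end Cfsg.Agent.H41.LFi
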