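import Cfsg.Agent.H41.LFi.Orbits
import Cfsg.Agent.H41.LFi.RadCheck
import Cfsg.Agent.Unitary.Simple
import Cfsg.Agent.H27.RankSixMinus

/-!
The stabiliser of the root of the first class is the special unitary group in dimension four.
-/

set_option autoImplicit false
set_option maxRecDepth 20000

namespace Cfsg.Agent.H41.LFi

open Cfsg Cfsg.Agent.Compute Cfsg.Agent.Unitary Cfsg.Agent.H41.SUSix Matrix

/-- The root of the first class. -/
noncomputable def r5 : Vec := dV 5

theorem r5_eq : r5 = eb 0 + eb 1 := by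
  have h : ∀ i : Fin 6, dV 5 i = (eb 0 + eb 1) i := by decide +kernel
  exact funext h

/-- The stabiliser in the special unitary group. -/
noncomputable def S5 : Subgroup ↥SG where
  carrier := {g | g ∈ Kg ∧ ap g r5 = r5}
  one_mem' := ⟨one_mem _, ap_one _⟩
  mul_mem' := fun {a b} ha hb => ⟨mul_mem ha.1 hb.1, by rw [ap_mul, hb.2, ha.2]⟩
  inv_mem' := fun {a} ha => ⟨inv_mem ha.1, by
    conv_lhs => rw [← ha.2]
    exact ap_inv_ap _ _⟩

theorem map_S5 : S5.map lin = stabK r5 := by
  ext k
  constructor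
  · rintro ⟨g, hg, rfl⟩
    exact ⟨Subgroup.mem_map_of_mem _ hg.1, hg.2⟩
  · rintro ⟨⟨g, hg, rfl⟩, h⟩
    exact ⟨g, ⟨hg, h⟩, rfl⟩

theorem card_S5 : Nat.card S5 = 25920 := by
  rw [Nat.card_congr (S5.equivMapOfInjective lin lin_injective).toEquiv, map_S5]
  exact card_stab_two

/-- An embedding of the four-dimensional space. -/
def emb4 (u : Fin 4 → K4) : Vec := Matrix.vecCons 0 (Matrix.vecCons 0 u)

/-- The block on the last four coordinates. -/
def blockM (g : ↥SG) : Matrix (Fin 4) (Fin 4) K4 :=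
  Matrix.of fun i j => mat g i.succ.succ j.succ.succ

theorem herm_two (x y : Vec) : hermForm 6 K4 2 x y =
    x 0 * y 0 ^ 2 + (x 1 * y 1 ^ 2 +
      hermForm 4 K4 2 (fun i => x i.succ.succ) (fun i => y i.succ.succ)) := by
  rw [hermForm, Fin.sum_univ_succ, Fin.sum_univ_succ]
  rfl

theorem k4_two : ∀ a : K4, a + a = 0 := by decide +kernel

theorem herm_r5 (x : Vec) : hermForm 6 K4 2 x r5 = x 0 + x 1 := by
  have h : (fun i : Fin 4 => r5 i.succ.succ) = 0 := by
    funext i
    have : ∀ i : Fin 4, dV 5 i.succ.succ = 0 := by decide +kernel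
    exact this i
  have h0 : r5 0 = 1 ∧ r5 1 = 1 := by
    have : dV 5 (0 : Fin 6) = 1 ∧ dV 5 (1 : Fin 6) = 1 := by decide +kernel
    exact this
  rw [herm_two, h, h0.1, h0.2]
  simp [hermForm]

theorem r5_val : ∀ r : Fin 6, r5 r = if r.1 < 2 then 1 else 0 := by
  have : ∀ r : Fin 6, dV 5 r = if r.1 < 2 then 1 else 0 := by decide +kernel
  exact this

theorem emb4_single (j : Fin 4) : emb4 (Pi.single j 1) = eb j.succ.succ := by
  have : ∀ (j : Fin 4) (k : Fin 6), emb4 (Pi.single j 1) k = eb j.succ.succ k := by decide +kernel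
  exact funext (this j)

theorem split_perp {x : Vec} (h : x 0 = x 1) :
    x = x 0 • r5 + emb4 (fun i => x i.succ.succ) := by
  funext k
  fin_cases k <;> simp [r5_val, emb4, h] <;> rfl

/-- The image of an embedded vector lies in the orthogonal of the root. -/
theorem img_perp {g : ↥SG} (hg : g ∈ S5) (u : Fin 4 → K4) :
    ap g (emb4 u) 0 = ap g (emb4 u) 1 := by
  have h := herm_ap g (emb4 u) r5
  rw [hg.2, herm_r5, herm_r5] at h
  have h' : ap g (emb4 u) 0 + ap g (emb4 u) 1 = 0 := h.trans (by simp [emb4])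
  have key : ∀ a b : K4, a + b = 0 → a = b := by decide +kernel
  exact key _ _ h'

theorem blockM_mulVec (g : ↥SG) (u : Fin 4 → K4) :
    blockM g *ᵥ u = fun i : Fin 4 => ap g (emb4 u) i.succ.succ := by
  funext i
  rw [ap_def, Matrix.mulVec, Matrix.mulVec, dotProduct, dotProduct, Fin.sum_univ_succ (n := 5),
    Fin.sum_univ_succ (n := 4)]
  simp [blockM, emb4]

theorem blockM_preserves {g : ↥SG} (hg : g ∈ S5) : Preserves 2 (blockM g) := by
  intro u v
  have h := herm_ap g (emb4 u) (emb4 v)
  rw [herm_two, herm_two (emb4 u), img_perp hg u, img_perp hg v, ← add_assoc, k4_two, zero_add] at h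
  rw [blockM_mulVec, blockM_mulVec, h]
  simp [emb4]

theorem blockM_mul {g : ↥SG} (hg : g ∈ S5) {h : ↥SG} (hh : h ∈ S5) :
    blockM (g * h) = blockM g * blockM h := by
  refine Matrix.ext_iff_mulVec.2 fun u => ?_
  rw [← Matrix.mulVec_mulVec, blockM_mulVec, blockM_mulVec h, blockM_mulVec g]
  funext i
  conv_lhs => rw [ap_mul, split_perp (img_perp hh u), ap_add, ap_smul, hg.2]
  rw [Pi.add_apply, Pi.smul_apply, r5_val, if_neg (by simp), smul_zero, zero_add]

/-- The change of basis. -/
def baseP : Mat := Matrix.of fun r c =>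
  if c = 0 then (if r.1 < 2 then 1 else 0)
  else if c = 1 then (if r = 0 then 1 else 0) else (if r = c then 1 else 0)

theorem det_baseP : baseP.det = 1 := by decide +kernel

/-- The matrix of an element in the changed basis. -/
def triM (g : ↥SG) : Mat := Matrix.of fun r c =>
  if r = 0 then (mat g * baseP) 1 c
  else if r = 1 then (mat g * baseP) 0 c + (mat g * baseP) 1 c else (mat g * baseP) r c

theorem baseP_triM (g : ↥SG) : baseP * triM g = mat g * baseP := by
  refine Matrix.ext fun r c => ?_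
  rw [Matrix.mul_apply]
  simp only [Fin.sum_univ_six]
  fin_cases r <;> simp [baseP, triM] <;> rw [add_comm, add_assoc, k4_two, add_zero]

theorem mulP_col (g : ↥SG) (r : Fin 6) :
    (mat g * baseP) r 0 = ap g r5 r ∧
      ∀ c : Fin 6, c ≠ 0 → c ≠ 1 → (mat g * baseP) r c = mat g r c := by
  refine ⟨?_, fun c h0 h1 => ?_⟩
  · rw [ap_def, Matrix.mulVec, dotProduct, Matrix.mul_apply]
    refine Finset.sum_congr rfl fun k _ => ?_
    have h : ∀ k : Fin 6, baseP k 0 = dV 5 k := by decide +kernel
    rw [h]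
    rfl
  · rw [Matrix.mul_apply]
    simp [baseP, h0, h1]

theorem triM_row_zero (g : ↥SG) (c : Fin 6) : triM g 0 c = (mat g * baseP) 1 c := rfl

theorem triM_row_one (g : ↥SG) (c : Fin 6) :
    triM g 1 c = (mat g * baseP) 0 c + (mat g * baseP) 1 c := rfl

theorem triM_row_rest (g : ↥SG) (i : Fin 4) (c : Fin 6) :
    triM g i.succ.succ c = (mat g * baseP) i.succ.succ c := by
  rw [triM, Matrix.of_apply, if_neg (Fin.succ_ne_zero _), if_neg]
  intro e
  rw [Fin.ext_iff] at e
  simp at e

theorem mulP_rest (g : ↥SG) (r : Fin 6) (j : Fin 4) :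
    (mat g * baseP) r j.succ.succ = mat g r j.succ.succ :=
  (mulP_col g r).2 _ (Fin.succ_ne_zero _) fun e => by rw [Fin.ext_iff] at e; simp at e

theorem det_blockM {g : ↥SG} (hg : g ∈ S5) : (blockM g).det = 1 := by
  have hdet : (triM g).det = 1 := by
    have h := congrArg Matrix.det (baseP_triM g)
    rwa [Matrix.det_mul, Matrix.det_mul, det_baseP, det_mat, one_mul, one_mul] at h
  have hP0 : ∀ r, (mat g * baseP) r 0 = r5 r := fun r => by rw [(mulP_col g r).1, hg.2]
  have c00 : triM g 0 0 = 1 := by rw [triM_row_zero, hP0, r5_val]; rfl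
  have c0 : ∀ i : Fin 5, triM g i.succ 0 = 0 := by
    intro i
    refine Fin.cases ?_ (fun j => ?_) i
    · show triM g 1 0 = 0
      rw [triM_row_one, hP0, hP0, r5_val, r5_val]
      exact k4_two _
    · rw [triM_row_rest, hP0, r5_val, if_neg (by simp)]
  have hP1 : ∀ r, (mat g * baseP) r 1 = mat g r 0 := by
    intro r
    rw [Matrix.mul_apply, Fin.sum_univ_six]
    simp [baseP]
  rw [Matrix.det_succ_column_zero, Fin.sum_univ_succ] at hdet
  rw [Finset.sum_eq_zero (fun i _ => by rw [c0]; ring), add_zero, c00] at hdet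
  simp only [Fin.val_zero, pow_zero, one_mul, Fin.succAbove_zero] at hdet
  rw [Matrix.det_succ_row_zero, Fin.sum_univ_succ] at hdet
  have r1 : ∀ j : Fin 4, (triM g).submatrix Fin.succ Fin.succ 0 j.succ = 0 := by
    intro j
    show triM g 1 j.succ.succ = 0
    have hp := img_perp hg (Pi.single j 1)
    rw [emb4_single, eb, ap_def, Matrix.mulVec_single_one] at hp
    rw [triM_row_one, mulP_rest, mulP_rest]
    have hp' : mat g 0 j.succ.succ = mat g 1 j.succ.succ := hp
    rw [hp']
    exact k4_two _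
  rw [Finset.sum_eq_zero (fun j _ => by rw [r1]; ring), add_zero] at hdet
  have r00 : (triM g).submatrix Fin.succ Fin.succ 0 0 = 1 := by
    show triM g 1 1 = 1
    have h := herm_ap g (Pi.single 0 1) r5
    rw [hg.2, herm_r5, herm_r5, ap_def, Matrix.mulVec_single_one] at h
    rw [triM_row_one, hP1, hP1]
    refine h.trans ?_
    simp
  rw [r00] at hdet
  simp only [Fin.val_zero, pow_zero, one_mul, Fin.succAbove_zero] at hdet
  refine Eq.trans ?_ hdet
  congr 1
  refine Matrix.ext fun i j => ?_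
  show mat g i.succ.succ j.succ.succ = triM g i.succ.succ j.succ.succ
  rw [triM_row_rest, mulP_rest]

/-- The map to the special unitary group of dimension four. -/
noncomputable def toFour : ↥S5 →* ↥(Cfsg.SU 4 K4 2) :=
  MonoidHom.mk' (fun g => toSU (M := blockM g.1) (blockM_preserves g.2) (det_blockM g.2))
    fun g h => Subtype.ext (Subtype.ext (blockM_mul g.2 h.2))

theorem eq_one_of_blockM {g : ↥SG} (hg : g ∈ S5) (h : blockM g = 1) : g = 1 := by
  obtain ⟨hK, hfix⟩ := hg
  set y := eV (ap g (eb 0)) with hy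
  have hyl : y < 4096 := eV_lt _
  have hy0 : ap g (eb 0) = dV y := (dV_eV _).symm
  have himg : ∀ k : Fin 6, ap g (eb k) = dV (radImg y k) := by
    intro k
    refine Fin.cases ?_ (fun k' => Fin.cases ?_ (fun j => ?_) k') k
    · exact hy0
    · have e : ap g (eb 1) = dV y + r5 := by
        have e1 : eb 1 = eb 0 + r5 := by
          rw [r5_eq]
          funext i
          show eb 1 i = eb 0 i + (eb 0 i + eb 1 i)
          rw [← add_assoc, k4_two, zero_add]
        rw [e1, ap_add, hy0, hfix]
      rw [show (Fin.succ 0 : Fin 6) = 1 from rfl, e, show radImg y (1 : Fin 6) = Nat.xor y 5 from rfl,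
        dV_xor]
      rfl
    · -- the value is the basis vector plus a multiple of the root
      set x := ap g (eb j.succ.succ) with hx
      have hemb : eb j.succ.succ = emb4 (Pi.single j 1) := (emb4_single j).symm
      have hblock : (fun i : Fin 4 => x i.succ.succ) = Pi.single j 1 := by
        rw [hx, hemb, ← blockM_mulVec, h, Matrix.one_mulVec]
      have h01 : x 0 = x 1 := by rw [hx, hemb]; exact img_perp ⟨hK, hfix⟩ _
      have hform : x = eb j.succ.succ + x 0 • r5 := by
        conv_lhs => rw [split_perp h01, hblock, emb4_single]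
        exact add_comm _ _
      -- the scalar is read off from the image of the first vector
      have hh := herm_ap g (eb 0) (eb j.succ.succ)
      rw [← hx, hy0, hform] at hh
      have hc : x 0 = dV y j.succ.succ ^ 2 := by
        have hy1 : dV y 0 + dV y 1 = 1 := by
          have h2 := herm_ap g (eb 0) r5
          rw [hfix, hy0, herm_r5, herm_r5] at h2
          refine h2.trans ?_
          simp [eb]
        rw [herm_add_right SUSix.hK, herm_smul_right, herm_r5, hy1, mul_one] at hh
        have e2 : hermForm 6 K4 2 (dV y) (eb j.succ.succ) = dV y j.succ.succ := by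
          rw [eb, herm_single_right SUSix.hK]
          simp
        have e3 : hermForm 6 K4 2 (eb 0) (eb j.succ.succ) = 0 := by
          rw [eb, eb, herm_single_single SUSix.hK, if_neg (Fin.succ_ne_zero _).symm]
        rw [e2, e3] at hh
        have key : ∀ a b : K4, a + b ^ 2 = 0 → b = a ^ 2 := by decide +kernel
        exact key _ _ hh
      rw [hform, hc]
      have hk : radImg y j.succ.succ =
          Nat.xor (bC j.succ.succ) (scalC (mulC (getP 2 y j.succ.succ) (getP 2 y j.succ.succ)) 5) := rfl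
      rw [hk, dV_xor, dV_scalC (mulC_lt _ _), dV_bC, fe_mul _ (getP_lt 2 _ _) _ (getP_lt 2 _ _), sq]
      rfl
  have hclsC : ∀ v < 4096, clsC v = 2 → ∀ w < 4096, ap g (dV v) = dV w → clsC w = 2 := by
    intro v hv hc w hw e
    have := cls_lin hK (dV v)
    rw [e, cls, cls, eV_dV hv, eV_dV hw, hc] at this
    exact this
  have himgC : ∀ k : Fin 6, radImg y k < 4096 := by
    intro k
    refine Fin.cases hyl (fun k' => Fin.cases (xor_lt hyl (by norm_num)) (fun j => ?_) k') k
    exact xor_lt (bC_lt _) (scalC_lt _ _)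
  obtain ⟨t1, t2, t3⟩ := rad_test
  have l1 : clsC (Nat.xor (radImg y 0) (radImg y 2)) = 2 := by
    refine hclsC _ (xor_lt (bC_lt 0) (bC_lt 2)) t1 _ (xor_lt (himgC 0) (himgC 2)) ?_
    rw [dV_xor, dV_xor, ap_add, dV_bC 0, dV_bC 2, himg 0, himg 2]
    rfl
  have l2 : clsC (Nat.xor (radImg y 1) (radImg y 3)) = 2 := by
    refine hclsC _ (xor_lt (bC_lt 1) (bC_lt 3)) t2 _ (xor_lt (himgC 1) (himgC 3)) ?_
    rw [dV_xor, dV_xor, ap_add, dV_bC 1, dV_bC 3, himg 1, himg 3]
    rfl
  have l3 : clsC (Nat.xor (scalC 2 (radImg y 0)) (radImg y 2)) = 2 := by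
    refine hclsC _ (xor_lt (scalC_lt _ _) (bC_lt 2)) t3 _ (xor_lt (scalC_lt _ _) (himgC 2)) ?_
    rw [dV_xor, dV_xor, ap_add, dV_scalC (by norm_num), dV_scalC (by norm_num), ap_smul,
      show dV (bC 0) = eb 0 from dV_bC 0, dV_bC 2]
    rw [himg 0, himg 2]
    rfl
  have hr := (allN_iff _ _).1 rad_ok y hyl
  simp only [radC, l1, l2, l3, Nat.beq_refl, Bool.not_true, Bool.or_false, Bool.or_eq_true,
    Nat.beq_eq] at hr
  rcases hr with e | e
  · refine lin_injective (perm_ext_code (semi_lin g) (semi_lin 1) fun k hk => ?_)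
    rw [show dV (bC k) = eb ⟨k, hk⟩ from dV_bC ⟨k, hk⟩, lin_apply, lin_apply, ap_one, himg, e]
    have : ∀ k : Fin 6, dV (radImg 1 k) = eb k := by decide +kernel
    exact this _
  · exfalso
    have hg' : g = pmG (Equiv.swap 0 1) := by
      refine lin_injective (perm_ext_code (semi_lin g) (semi_lin _) fun k hk => ?_)
      rw [show dV (bC k) = eb ⟨k, hk⟩ from dV_bC ⟨k, hk⟩, lin_apply, lin_apply, himg, e, ap_def,
        mat_pmG, eb, mono_mulVec_single, one_mul]
      have : ∀ k : Fin 6, dV (radImg 4 k) = Pi.single (Equiv.swap (0 : Fin 6) 1 k) 1 := by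
        decide +kernel
      exact this _
    exact pm_swap_notMem (hg' ▸ hK)

theorem card_SU_four : Nat.card (Cfsg.SU 4 K4 2) = 25920 := by
  rw [H27.RankSixMinus.card_su_four SUSix.hK]
  norm_num

/-- The stabiliser is the simple unitary group in dimension four. -/
theorem stab_two_equiv : Nonempty (↥(stabK r5) ≃* Cfsg.PSU 4 K4 2) := by
  have hinj : Function.Injective toFour := by
    rw [← MonoidHom.ker_eq_bot_iff, Subgroup.eq_bot_iff_forall]
    intro g hg
    exact Subtype.ext (eq_one_of_blockM g.2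
      (congrArg (fun w : ↥(Cfsg.SU 4 K4 2) => mat w) (MonoidHom.mem_ker.1 hg)))
  have hb : Function.Bijective toFour :=
    (Nat.bijective_iff_injective_and_card _).2 ⟨hinj, by rw [card_S5, card_SU_four]⟩
  have hZ : Subgroup.center ↥(Cfsg.SU 4 K4 2) = ⊥ := by
    rw [← Subgroup.card_eq_one, card_center_SU SUSix.hK (by norm_num)]
    rfl
  exact ⟨((((MulEquiv.subgroupCongr map_S5).symm.trans
    (S5.equivMapOfInjective lin lin_injective).symm).trans (MulEquiv.ofBijective toFour hb)).trans
    (((QuotientGroup.quotientMulEquivOfEq hZ).trans QuotientGroup.quotientBot).symm))⟩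

theorem isSimple_stab_two : IsSimpleGroup ↥(stabK r5) := by
  haveI := isSimpleGroup_PSU (n := 4) SUSix.hK (by norm_num) (by norm_num)
  obtain ⟨e⟩ := stab_two_equiv
  haveI : Nontrivial ↥(stabK r5) := e.toEquiv.nontrivial
  exact IsSimpleGroup.isSimpleGroup_of_surjective e.symm.toMonoidHom e.symm.surjective

/-- The diagonal entries of a separating element. -/
def sepD : Vec := ![1, 1, ω₄, ω₄, ω₄, 1]

theorem sepD_facts : (∏ c, sepD c) = 1 ∧ (∀ c, sepD c ≠ ω₄ * ω₄) ∧ sepD 2 = ω₄ := by
  decide +kernel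

theorem sep_elt : ∃ k ∈ stabK r5, k (eb 2) = ω₄ • eb 2 ∧
    ∀ u, k u = (ω₄ * ω₄) • u → u = 0 := by
  obtain ⟨hp, hne, h2⟩ := sepD_facts
  refine ⟨lin (diagG sepD hp), ⟨Subgroup.mem_map_of_mem _ (D_le_K (diagG_mem _ hp)), ?_⟩, ?_, ?_⟩
  · show ap (diagG sepD hp) r5 = r5
    rw [ap_def, r5_eq, Matrix.mulVec_add, eb, eb, diagG, mat_monoG, mono_mulVec_single,
      mono_mulVec_single]
    rfl
  · rw [lin_apply, ap_def, eb, diagG, mat_monoG, mono_mulVec_single, h2]
    funext i
    simp [Pi.single_apply]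
  · intro u hu
    funext c
    have h := congrFun hu c
    rw [lin_apply, ap_def, diagG, mat_monoG] at h
    have e : (mono sepD 1 *ᵥ u) c = sepD c * u c := by
      conv_lhs => rw [show c = (1 : Equiv.Perm (Fin 6)) c from rfl]
      rw [mono_mulVec]
    rw [e, Pi.smul_apply, smul_eq_mul] at h
    have key : ∀ a b x : K4, a ≠ b → a * x = b * x → x = 0 := by decide +kernel
    exact key _ _ _ (hne c) h

end Cfsg.Agent.H41.LFi
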