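import Cfsg.Agent.H41.LFi.Check

/-!
Kernel checks for the subgroup of order 64 of the orthogonal of the root.
-/

set_option autoImplicit false
set_option Elab.async false
set_option maxRecDepth 100000
set_option maxHeartbeats 4000000

namespace Cfsg.Agent.H41.LFi

open Cfsg.Agent.Compute Cfsg.Agent.H41.SUSix

theorem d_add : allN 64 (fun m => allN 64 (fun n =>
    Nat.beq (Nat.xor (dC m) (dC n)) (dC (Nat.xor m n)))) = true := by decide +kernel

theorem d_roots : anyN 64 (fun m => Nat.beq (dC m) 85) = true ∧
    anyN 64 (fun m => Nat.beq (dC m) 170) = true ∧ scalC 2 85 = 170 ∧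
    allN 6 (fun k => Nat.beq (dC (Nat.pow 2 k)) (dgC k)) = true := by decide +kernel

theorem par_step : allN 64 (fun c => allN 6 (fun k => allN (Nat.pow 2 k) (fun m =>
    Nat.beq (parC c (Nat.add m (Nat.pow 2 k))) (Nat.xor (parC c m) (getP 1 c k))))) = true := by
  decide +kernel

theorem par_zero : allN 64 (fun c => Nat.beq (parC c 0) 0) = true := by decide +kernel

theorem dot85_herm : ∀ v : Fin 4096,
    ∑ i, dV v i * dV 85 i ^ 2 = fe (dot85 v) := by decide +kernel

end Cfsg.Agent.H41.LFi
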