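import Cfsg.Agent.H41.LFi.StabThree
import Cfsg.Agent.H41.LFi.DCheck

/-!
The subgroup of order 64 of the orthogonal of the root moved by the group of order 32.
-/

set_option autoImplicit false
set_option maxRecDepth 20000

namespace Cfsg.Agent.H41.LFi

open Cfsg Cfsg.Agent.Compute Cfsg.Agent.Unitary Cfsg.Agent.H41.SUSix Matrix

theorem xor_lt64 {i j : ℕ} (hi : i < 64) (hj : j < 64) : Nat.xor i j < 64 :=
  Nat.xor_lt_two_pow (n := 6) hi hj

theorem dC_xor {m n : ℕ} (hm : m < 64) (hn : n < 64) :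
    dC (Nat.xor m n) = Nat.xor (dC m) (dC n) := by
  have h := (allN_iff _ _).1 ((allN_iff _ _).1 d_add m hm) n hn
  rw [Nat.beq_eq] at h
  exact h.symm

theorem dC_lt {m : ℕ} (hm : m < 64) : dC m < 4096 := by
  have h := (allN_iff _ _).1 dlist_ok.2.2 m hm
  simp only [Bool.and_eq_true, Nat.ble_eq] at h
  exact h.1

theorem dC_inj {m n : ℕ} (hm : m < 64) (hn : n < 64) (h : dV (dC m) = dV (dC n)) : m = n := by
  have e := dV_inj (dC_lt hm) (dC_lt hn) h
  have h2 := (allN_iff _ _).1 dlist_ok.2.2 m hm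
  simp only [Bool.and_eq_true, allN_iff, Bool.or_eq_true, Nat.beq_eq, Bool.not_eq_true'] at h2
  rcases h2.2 n hn with e' | e'
  · exact e'
  · exact absurd e (by simpa [← Bool.not_eq_true, Nat.beq_eq] using e')

/-- The subgroup of order 64. -/
noncomputable def Dset : AddSubgroup Vec where
  carrier := {v | ∃ m < 64, v = dV (dC m)}
  zero_mem' := ⟨0, by norm_num, by rw [dlist_ok.1, dV_zero]⟩
  add_mem' := by
    rintro _ _ ⟨m, hm, rfl⟩ ⟨n, hn, rfl⟩
    exact ⟨_, xor_lt64 hm hn, by rw [dC_xor hm hn, dV_xor]⟩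
  neg_mem' := by
    rintro _ ⟨m, hm, rfl⟩
    exact ⟨m, hm, funext fun _ => rfl⟩

theorem card_D : Nat.card Dset = 64 := by
  rw [← Nat.card_fin 64]
  refine (Nat.card_congr (Equiv.ofBijective
    (fun m : Fin 64 => (⟨dV (dC m), m, m.2, rfl⟩ : ↥Dset)) ⟨?_, ?_⟩)).symm
  · exact fun m n e => Fin.ext (dC_inj m.2 n.2 (congrArg Subtype.val e))
  · rintro ⟨_, m, hm, rfl⟩
    exact ⟨⟨m, hm⟩, rfl⟩

theorem r85_mem_D : r85 ∈ Dset := by
  obtain ⟨m, hm, h⟩ := (anyN_iff _ _).1 d_roots.1
  exact ⟨m, hm, by rw [r85, Nat.eq_of_beq_eq_true h]⟩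

theorem smul_r85_mem_D : ω₄ • r85 ∈ Dset := by
  obtain ⟨m, hm, h⟩ := (anyN_iff _ _).1 d_roots.2.1
  exact ⟨m, hm, by rw [Nat.eq_of_beq_eq_true h, ← d_roots.2.2.1, dV_scalC (by norm_num)]; rfl⟩

/-- A vector of the orthogonal of the root over the prime field. -/
def IsPerp (v : Vec) : Prop :=
  hermForm 6 K4 2 v r85 = 0 ∨ hermForm 6 K4 2 v r85 = 1

/-- The subgroup lies in every subgroup containing what the outer coset moves. -/
theorem D_le {S : AddSubgroup Vec}
    (h : ∀ j < 16, ∀ v, IsPerp v → oP j v + v ∈ S) : Dset ≤ S := by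
  have hg : ∀ k < 6, dV (dgC k) ∈ S := by
    intro k hk
    have e := (allN_iff _ _).1 dgen_ok k hk
    simp only [Bool.and_eq_true, Nat.ble_eq, Nat.beq_eq] at e
    obtain ⟨⟨⟨e1, e2⟩, e3⟩, e4⟩ := e
    rw [← e4, dV_xor, ← oP_dV]
    refine h _ e1 _ ?_
    have hh : hermForm 6 K4 2 (dV (dvC k)) r85 = fe (dot85 (dvC k)) :=
      dot85_herm ⟨_, e2⟩
    unfold IsPerp
    rw [hh]
    interval_cases hv : dot85 (dvC k)
    · exact Or.inl rfl
    · exact Or.inr rfl
  have hm : ∀ k ≤ 6, ∀ m < 2 ^ k, dV (dC m) ∈ S := by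
    intro k
    induction k with
    | zero =>
      intro _ m hm
      rw [pow_zero, Nat.lt_one_iff] at hm
      rw [hm, dlist_ok.1, dV_zero]
      exact S.zero_mem
    | succ k ih =>
      intro hk m hm
      by_cases hlt : m < 2 ^ k
      · exact ih (by omega) m hlt
      · have e := (allN_iff _ _).1 ((allN_iff _ _).1 dlist_ok.2.1 k (by omega)) (m - 2 ^ k)
          (show m - 2 ^ k < 2 ^ k by rw [pow_succ] at hm; omega)
        rw [Nat.beq_eq] at e
        have e' : m - 2 ^ k + 2 ^ k = m := by omega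
        rw [show Nat.add (m - 2 ^ k) (Nat.pow 2 k) = m from e'] at e
        rw [e, dV_xor]
        exact S.add_mem (ih (by omega) _ (by rw [pow_succ] at hm; omega)) (hg k (by omega))
  rintro _ ⟨m, hm', rfl⟩
  exact hm 6 le_rfl m hm'

theorem D_inter {v : Vec} (h1 : v ∈ Dset) (h2 : ω₄ • v ∈ Dset) : ∃ c : K4, v = c • r85 := by
  obtain ⟨m, hm, rfl⟩ := h1
  obtain ⟨n, hn, e⟩ := h2
  have hh := (allN_iff _ _).1 d_inter m hm
  have ha : anyN 64 (fun n => Nat.beq (scalC 2 (dC m)) (dC n)) = true := by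
    rw [anyN_iff]
    refine ⟨n, hn, ?_⟩
    rw [Nat.beq_eq]
    refine dV_inj (scalC_lt _ _) (dC_lt hn) ?_
    rw [dV_scalC (by norm_num), ← e]
    rfl
  rw [ha] at hh
  obtain ⟨c, hc, e'⟩ := (anyN_iff _ _).1 (show anyN 4 (fun c => Nat.beq (dC m) (scalC c 85)) = true from hh)
  exact ⟨fe c, by rw [Nat.eq_of_beq_eq_true e', dV_scalC hc]; rfl⟩

/-- No subgroup of index two containing the root is invariant under the four lifts. -/
theorem D_no_invariant {W : AddSubgroup Vec} (hW : W ≤ Dset) (hcard : Nat.card W = 32)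
    (hr : r85 ∈ W) (hinv : ∀ l, ∀ w ∈ W, lP l w ∈ W) : False := by
  classical
  have hsum : ∀ a ∈ Dset, ∀ b ∈ Dset, a ∉ W → b ∉ W → a + b ∈ W := by
    intro a ha b hb han hbn
    have hidx : (W.addSubgroupOf Dset).index = 2 := by
      have h := (W.addSubgroupOf Dset).card_mul_index
      rw [Nat.card_congr (AddSubgroup.addSubgroupOfEquivOfLe hW).toEquiv, hcard, card_D] at h
      omega
    have h := (AddSubgroup.add_mem_iff_of_index_two hidx
      (a := (⟨a, ha⟩ : ↥Dset)) (b := ⟨b, hb⟩)).2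
      (iff_of_false (fun h => han (AddSubgroup.mem_addSubgroupOf.1 h))
        (fun h => hbn (AddSubgroup.mem_addSubgroupOf.1 h)))
    exact AddSubgroup.mem_addSubgroupOf.1 h
  have hgD : ∀ k < 6, dV (dgC k) ∈ Dset := fun k hk => by
    have h := (allN_iff _ _).1 d_roots.2.2.2 k hk
    rw [Nat.beq_eq] at h
    have hk' : Nat.pow 2 k < 64 :=
      (show (2 : ℕ) ^ k ≤ 2 ^ 5 from Nat.pow_le_pow_right (by norm_num) (by omega)).trans_lt (by norm_num)
    exact ⟨_, hk', by rw [h]⟩
  set f : ℕ → ℕ := fun k => if dV (dgC k) ∈ W then 0 else 1 with hf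
  set c := packP 1 f 6 with hc
  have hf2 : ∀ i < 6, f i < 2 ^ 1 := fun i _ => by
    simp only [hf]
    split_ifs <;> norm_num
  have hc64 : c < 64 := packP_lt 1 f 6 hf2
  have hbit : ∀ k < 6, getP 1 c k = f k := fun k hk => getP_packP 1 f 6 hf2 k hk
  have hpar : ∀ k ≤ 6, ∀ m < 2 ^ k, parC c m = if dV (dC m) ∈ W then 0 else 1 := by
    intro k
    induction k with
    | zero =>
      intro _ m hm
      rw [pow_zero, Nat.lt_one_iff] at hm
      rw [hm, dlist_ok.1, dV_zero, if_pos W.zero_mem]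
      exact Nat.eq_of_beq_eq_true ((allN_iff _ _).1 par_zero c hc64)
    | succ k ih =>
      intro hk m hm
      by_cases hlt : m < 2 ^ k
      · exact ih (by omega) m hlt
      · set m' := m - 2 ^ k with hm'
        have hlt' : m' < 2 ^ k := by rw [pow_succ] at hm; omega
        have e' : Nat.add m' (Nat.pow 2 k) = m := by
          show m' + 2 ^ k = m
          omega
        have e := (allN_iff _ _).1 ((allN_iff _ _).1 dlist_ok.2.1 k (by omega)) m' hlt'
        rw [Nat.beq_eq, e'] at e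
        have p := (allN_iff _ _).1 ((allN_iff _ _).1 ((allN_iff _ _).1 par_step c hc64) k (by omega))
          m' hlt'
        rw [Nat.beq_eq, e', ih (by omega) m' hlt', hbit k (by omega)] at p
        have h64 : m' < 64 := hlt'.trans_le
          ((Nat.pow_le_pow_right (by norm_num) (show k ≤ 6 by omega)).trans (by norm_num))
        have hmD : dV (dC m') ∈ Dset := ⟨m', h64, rfl⟩
        rw [p, e, dV_xor]
        simp only [hf]
        by_cases h1 : dV (dC m') ∈ W <;> by_cases h2 : dV (dgC k) ∈ W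
        · rw [if_pos h1, if_pos h2, if_pos (W.add_mem h1 h2)]; rfl
        · rw [if_pos h1, if_neg h2, if_neg (fun h => h2 (by simpa using W.sub_mem h h1))]; rfl
        · rw [if_neg h1, if_pos h2, if_neg (fun h => h1 (by simpa using W.sub_mem h h2))]; rfl
        · rw [if_neg h1, if_neg h2, if_pos (hsum _ hmD _ (hgD k (by omega)) h1 h2)]; rfl
  have h := (allN_iff _ _).1 d_moving c hc64
  simp only [Bool.or_eq_true, anyN_iff, Bool.and_eq_true, Nat.beq_eq] at h
  rcases h with (h | ⟨m, hm, e, hp⟩) | ⟨l, hl, m, hm, hp, n, hn, hq, e⟩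
  · -- every generator lies in `W`
    have hle : Dset ≤ W := by
      rintro _ ⟨m, hm, rfl⟩
      have h0 := hpar 6 le_rfl m hm
      by_contra hn
      rw [if_neg hn] at h0
      have hz : parC c m = 0 := by
        rw [h]
        exact (by decide +kernel : ∀ m < 64, parC 0 m = 0) m hm
      omega
    have h64 := card_D
    rw [← le_antisymm hW hle, hcard] at h64
    omega
  · rw [hpar 6 le_rfl m hm, e, if_pos (show dV 85 ∈ W from hr)] at hp
    omega
  · rw [hpar 6 le_rfl m hm] at hp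
    rw [hpar 6 le_rfl n hn, if_pos] at hq
    · omega
    have hmW : dV (dC m) ∈ W := by
      by_contra hno
      rw [if_neg hno] at hp
      omega
    have := hinv ⟨l, hl⟩ _ hmW
    rw [lP_dV, e] at this
    exact this

end Cfsg.Agent.H41.LFi
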