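import Cfsg.Agent.H41.LFi.Orbits
import Cfsg.Agent.H95.PermIso

/-!
The stabiliser of the root of the second class: an elementary abelian group of order sixteen
extended by the alternating group on six outer involutions.
-/

set_option autoImplicit false
set_option maxRecDepth 20000

namespace Cfsg.Agent.H41.LFi

open Cfsg Cfsg.Agent.Compute Cfsg.Agent.Unitary Cfsg.Agent.H41.SUSix Matrix

theorem xor_lt16 {i j : ℕ} (hi : i < 16) (hj : j < 16) : Nat.xor i j < 16 :=
  Nat.xor_lt_two_pow (n := 4) hi hj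

theorem aP_zero : aP 0 = 1 := by
  have hb : ∀ i : Fin 4, bitP 0 i = 1 := fun i => by
    unfold bitP
    rw [show Nat.beq (getP 1 0 i) 1 = false from by revert i; decide +kernel]
    rfl
  rw [aP, hb, hb, hb, hb, one_mul, one_mul, one_mul]

theorem gP_eq (i : Fin 4) : gP i = aP (2 ^ i.1) := by
  have hb : ∀ i k : Fin 4, Nat.beq (getP 1 (2 ^ i.1) k) 1 = decide (k = i) := by decide +kernel
  have hp : ∀ k : Fin 4, bitP (2 ^ i.1) k = if k = i then gP k else 1 := fun k => by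
    unfold bitP
    rw [hb i k]
    by_cases h : k = i <;> simp [h]
  unfold aP
  rw [hp, hp, hp, hp]
  fin_cases i <;> simp

/-- The elementary abelian group of order sixteen. -/
noncomputable def Agrp : Subgroup (Equiv.Perm Vec) where
  carrier := {a | ∃ j < 16, a = aP j}
  one_mem' := ⟨0, by norm_num, aP_zero.symm⟩
  mul_mem' := by
    rintro _ _ ⟨i, hi, rfl⟩ ⟨j, hj, rfl⟩
    exact ⟨_, xor_lt16 hi hj, aP_mul hi hj⟩
  inv_mem' := by
    rintro _ ⟨i, hi, rfl⟩
    refine ⟨i, hi, inv_eq_of_mul_eq_one_right ?_⟩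
    rw [aP_mul hi hi, show Nat.xor i i = 0 from Nat.xor_self i, aP_zero]

theorem aP_mem_A {j : ℕ} (hj : j < 16) : aP j ∈ Agrp := ⟨j, hj, rfl⟩

theorem gP_mem_A (i : Fin 4) : gP i ∈ Agrp :=
  ⟨2 ^ i.1, Nat.pow_lt_pow_right (show 1 < 2 by norm_num) i.2 |>.trans_le (by norm_num), gP_eq i⟩

theorem A_le : Agrp ≤ stabK r85 := by
  rintro _ ⟨j, -, rfl⟩
  exact ⟨aP_mem j, aP_r85 j⟩

theorem card_A : Nat.card Agrp = 16 := by
  rw [← Nat.card_fin 16]
  refine (Nat.card_congr (Equiv.ofBijective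
    (fun j : Fin 16 => (⟨aP j, aP_mem_A j.2⟩ : ↥Agrp)) ⟨?_, ?_⟩)).symm
  · intro i j e
    exact Fin.ext (aP_inj i.2 j.2 (congrArg Subtype.val e))
  · rintro ⟨_, j, hj, rfl⟩
    exact ⟨⟨j, hj⟩, rfl⟩

theorem oP_mul_oP {i j : ℕ} (hi : i < 16) (hj : j < 16) : oP i * oP j = aP (Nat.xor i j) := by
  have he : e0P * e0P = 1 := Equiv.ext fun u => e0P.injective.eq_iff.1 (by
    simp only [Equiv.Perm.mul_apply, Equiv.Perm.one_apply]
    exact congrArg e0P (Function.Involutive.toPerm_involutive _ u))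
  calc oP i * oP j = e0P * (aP i * e0P) * aP j := by simp only [oP, mul_assoc]
    _ = (e0P * e0P) * (aP i * aP j) := by rw [← e0P_aP]; simp only [mul_assoc]
    _ = _ := by rw [he, one_mul, aP_mul hi hj]

theorem oP_mul_aP {i j : ℕ} (hi : i < 16) (hj : j < 16) : oP i * aP j = oP (Nat.xor i j) := by
  rw [oP, oP, mul_assoc, aP_mul hi hj]

theorem aP_mul_oP {i j : ℕ} (hi : i < 16) (hj : j < 16) : aP i * oP j = oP (Nat.xor i j) := by
  rw [oP, oP, ← mul_assoc, ← e0P_aP, mul_assoc, aP_mul hi hj]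

/-- The elementary abelian group of order thirty-two. -/
noncomputable def Egrp : Subgroup (Equiv.Perm Vec) where
  carrier := {a | ∃ j < 16, a = aP j ∨ a = oP j}
  one_mem' := ⟨0, by norm_num, Or.inl aP_zero.symm⟩
  mul_mem' := by
    rintro _ _ ⟨i, hi, rfl | rfl⟩ ⟨j, hj, rfl | rfl⟩
    · exact ⟨_, xor_lt16 hi hj, Or.inl (aP_mul hi hj)⟩
    · exact ⟨_, xor_lt16 hi hj, Or.inr (aP_mul_oP hi hj)⟩
    · exact ⟨_, xor_lt16 hi hj, Or.inr (oP_mul_aP hi hj)⟩
    · exact ⟨_, xor_lt16 hi hj, Or.inl (oP_mul_oP hi hj)⟩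
  inv_mem' := by
    rintro _ ⟨i, hi, rfl | rfl⟩
    · refine ⟨i, hi, Or.inl (inv_eq_of_mul_eq_one_right ?_)⟩
      rw [aP_mul hi hi, show Nat.xor i i = 0 from Nat.xor_self i, aP_zero]
    · refine ⟨i, hi, Or.inr (inv_eq_of_mul_eq_one_right ?_)⟩
      rw [oP_mul_oP hi hi, show Nat.xor i i = 0 from Nat.xor_self i, aP_zero]

theorem card_E : Nat.card Egrp = 32 := by
  have h : Nat.card (Fin 16 × Bool) = 32 := by
    rw [Nat.card_eq_fintype_card, Fintype.card_prod, Fintype.card_fin, Fintype.card_bool]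
  rw [← h]
  refine (Nat.card_congr (Equiv.ofBijective
    (fun x : Fin 16 × Bool => (⟨cond x.2 (oP x.1) (aP x.1), x.1, x.1.2, by
      rcases x with ⟨j, _ | _⟩
      · exact Or.inl rfl
      · exact Or.inr rfl⟩ : ↥Egrp)) ⟨?_, ?_⟩)).symm
  · rintro ⟨i, _ | _⟩ ⟨j, _ | _⟩ e <;> replace e := congrArg Subtype.val e
    · exact Prod.ext (Fin.ext (aP_inj i.2 j.2 e)) rfl
    · exact absurd e.symm oP_ne_aP
    · exact absurd e oP_ne_aP
    · exact Prod.ext (Fin.ext (aP_inj i.2 j.2 (mul_left_cancel e))) rfl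
  · rintro ⟨_, j, hj, rfl | rfl⟩
    · exact ⟨(⟨j, hj⟩, false), rfl⟩
    · exact ⟨(⟨j, hj⟩, true), rfl⟩

theorem A_le_E : Agrp ≤ Egrp := fun _ ⟨j, hj, e⟩ => ⟨j, hj, Or.inl e⟩

theorem oP_mem_E {j : ℕ} (hj : j < 16) : oP j ∈ Egrp := ⟨j, hj, Or.inr rfl⟩

theorem sixI_lt (k : Fin 6) : sixI k < 16 := by
  have h := (allN_iff _ _).1 six_span.1 k k.2
  rw [Nat.ble_eq] at h
  exact h

/-- The six. -/
noncomputable def sixP (k : Fin 6) : Equiv.Perm Vec := oP (sixI k)

theorem sixP_inj {k l : Fin 6} (h : sixP k = sixP l) : k = l := by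
  have e := aP_inj (sixI_lt k) (sixI_lt l) (mul_left_cancel h)
  have key : ∀ k l : Fin 6, sixI k = sixI l → k = l := by decide +kernel
  exact key k l e

/-- An element permutes the six as `σ` prescribes. -/
def Moves (x : Equiv.Perm Vec) (σ : Equiv.Perm (Fin 6)) : Prop :=
  ∀ k, x * sixP k = sixP (σ k) * x

theorem moves_one : Moves 1 1 := fun k => by simp

theorem moves_mul (g h : Equiv.Perm Vec) (σ τ : Equiv.Perm (Fin 6)) (hg : Moves g σ)
    (hh : Moves h τ) : Moves (g * h) (σ * τ) := fun k => by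
  rw [mul_assoc, hh k, ← mul_assoc, hg (τ k), mul_assoc]
  rfl

theorem moves_unique (g : Equiv.Perm Vec) (σ τ : Equiv.Perm (Fin 6)) (hs : Moves g σ)
    (ht : Moves g τ) : σ = τ :=
  Equiv.ext fun k => sixP_inj (mul_right_cancel ((hs k).symm.trans (ht k)))

/-- The elements permuting the six. -/
noncomputable def dom6 : Subgroup (Equiv.Perm Vec) :=
  H95.PermIso.domain Moves moves_one moves_mul

/-- The action on the six. -/
noncomputable def psi : ↥dom6 →* Equiv.Perm (Fin 6) :=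
  MonoidHom.mk' (fun g => Classical.choose g.2) fun a b =>
    moves_unique _ _ _ (Classical.choose_spec (a * b).2)
      (moves_mul _ _ _ _ (Classical.choose_spec a.2) (Classical.choose_spec b.2))

theorem psi_eq {g : ↥dom6} {σ : Equiv.Perm (Fin 6)} (h : Moves g σ) : psi g = σ :=
  moves_unique _ _ _ (Classical.choose_spec g.2) h

theorem moves_aP {j : ℕ} (hj : j < 16) : Moves (aP j) 1 := fun k => by
  rw [Equiv.Perm.one_apply, sixP, aP_mul_oP hj (sixI_lt k), oP_mul_aP (sixI_lt k) hj,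
    show Nat.xor j (sixI k) = Nat.xor (sixI k) j from Nat.xor_comm _ _]

theorem moves_oP {j : ℕ} (hj : j < 16) : Moves (oP j) 1 := fun k => by
  rw [Equiv.Perm.one_apply, sixP, oP_mul_oP hj (sixI_lt k), oP_mul_oP (sixI_lt k) hj,
    show Nat.xor j (sixI k) = Nat.xor (sixI k) j from Nat.xor_comm _ _]

/-- The lifts of the three-cycles. -/
noncomputable def lP (l : Fin 4) : Equiv.Perm Vec := xP ⟨4 + l, by omega⟩

theorem lP_dV (l : Fin 4) (v : ℕ) : lP l (dV v) = dV (xApC (Nat.add 4 l) v) := xP_dV _ v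

theorem lP_mem (l : Fin 4) : lP l ∈ stabK r85 := ⟨xP_mem _, xP_r85 _⟩

theorem semi_lP (l : Fin 4) : Semi false (lP l) := semi_xP _

theorem moves_lP (l : Fin 4) : Moves (lP l) (cyc ⟨l + 2, by omega⟩) := by
  intro k
  have ha : Semi true ⇑(lP l * oP (sixI k)) := (semi_lP l).comp (semi_oP _)
  have hb : Semi true ⇑(oP (sixI (cyc ⟨l + 2, by omega⟩ k)) * lP l) :=
    (semi_oP _).comp (semi_lP l)
  refine perm_ext_code (θ := true) ha hb fun b hb => ?_
  have h := (allN_iff _ _).1 ((allN_iff _ _).1 ((allN_iff _ _).1 six_ok l l.2) k k.2) b hb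
  rw [Nat.beq_eq] at h
  rw [Equiv.Perm.mul_apply, Equiv.Perm.mul_apply, sixP, sixP, oP_dV, lP_dV, h, lP_dV, oP_dV, cyc_ok l k]

theorem cyc_closure {H : Subgroup (Equiv.Perm (Fin 6))}
    (h : ∀ k : Fin 6, 2 ≤ k.1 → cyc k ∈ H) {π : Equiv.Perm (Fin 6)}
    (hπ : Equiv.Perm.sign π = 1) : π ∈ H := by
  have h1 := even_decomp π hπ
  simp only at h1
  have htr : ∀ k j : Fin 6, 2 ≤ k.1 → tr k j ∈ H := by
    intro k j hk
    unfold tr
    split_ifs with h1 h2 h3
    · exact one_mem _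
    · exact h k hk
    · exact mul_mem (h k hk) (h k hk)
    · have hj : 2 ≤ j.1 := by
        rw [Fin.ext_iff] at h2 h3
        simp at h2 h3
        omega
      exact mul_mem (mul_mem (h j hj) (h j hj)) (h k hk)
  have step : ∀ (k : Fin 6) (σ : Equiv.Perm (Fin 6)), 2 ≤ k.1 →
      (tr k (σ k))⁻¹ * σ ∈ H → σ ∈ H := by
    intro k σ hk hm
    have := mul_mem (htr k (σ k) hk) hm
    rwa [mul_inv_cancel_left] at this
  refine step 5 π (by decide) (step 4 _ (by decide) (step 3 _ (by decide) ?_))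
  rcases h1 with e | e | e <;> rw [e]
  · exact one_mem _
  · exact h 2 (by decide)
  · exact mul_mem (h 2 (by decide)) (h 2 (by decide))

/-- The stabiliser is the kernel of the action on the six extended by the even permutations. -/
theorem stab_le_dom : stabK r85 ≤ dom6 := by
  set S := stabK r85 ⊓ dom6 with hS
  suffices h : S = stabK r85 from h ▸ inf_le_right
  refine Subgroup.eq_of_le_of_card_ge inf_le_left ?_
  rw [card_stab_three]
  let f : ↥S →* Equiv.Perm (Fin 6) := psi.comp (Subgroup.inclusion inf_le_right)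
  have hr : alternatingGroup (Fin 6) ≤ f.range := by
    intro π hπ
    refine cyc_closure (H := f.range) (fun k hk => ?_) (Equiv.Perm.mem_alternatingGroup.1 hπ)
    have hd : lP ⟨k - 2, by omega⟩ ∈ dom6 := ⟨_, moves_lP _⟩
    refine ⟨⟨lP ⟨k - 2, by omega⟩, ⟨lP_mem _, hd⟩⟩, ?_⟩
    refine (psi_eq (g := ⟨_, hd⟩) (moves_lP _)).trans ?_
    congr 1
    exact Fin.ext (by show k.1 - 2 + 2 = k.1; omega)
  have h1 := Subgroup.card_mul_index f.ker
  rw [Subgroup.index_ker] at h1
  have h2 : 16 ≤ Nat.card f.ker := by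
    rw [← card_A]
    refine Nat.card_le_card_of_injective (fun a => (⟨⟨a.1, A_le a.2, ?_⟩, ?_⟩ : ↥f.ker)) ?_
    · obtain ⟨j, hj, e⟩ := a.2
      exact ⟨1, e.symm ▸ moves_aP hj⟩
    · obtain ⟨j, hj, e⟩ := a.2
      have hm : Moves a.1 1 := by rw [e]; exact moves_aP hj
      exact psi_eq (g := ⟨a.1, ⟨1, hm⟩⟩) hm
    · intro a b e
      exact Subtype.ext (congrArg (fun w : f.ker => ((w : ↥S) : Equiv.Perm Vec)) e)
  have h3 : 360 ≤ Nat.card f.range := by
    have e : Nat.card (alternatingGroup (Fin 6)) = 360 := by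
      rw [nat_card_alternatingGroup, Nat.card_fin]; decide
    exact e ▸ Nat.card_le_card_of_injective _ (Subgroup.inclusion_injective hr)
  calc (5760 : ℕ) = 16 * 360 := rfl
    _ ≤ Nat.card f.ker * Nat.card f.range := Nat.mul_le_mul h2 h3
    _ = _ := h1

/-- The action of the stabiliser on the six. -/
noncomputable def psiS : ↥(stabK r85) →* Equiv.Perm (Fin 6) :=
  psi.comp (Subgroup.inclusion stab_le_dom)

theorem psiS_facts : psiS.range = alternatingGroup (Fin 6) ∧
    psiS.ker = Agrp.subgroupOf (stabK r85) := by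
  have hr : alternatingGroup (Fin 6) ≤ psiS.range := by
    intro π hπ
    refine cyc_closure (H := psiS.range) (fun k hk => ?_) (Equiv.Perm.mem_alternatingGroup.1 hπ)
    refine ⟨⟨lP ⟨k - 2, by omega⟩, lP_mem _⟩, ?_⟩
    refine (psi_eq (g := Subgroup.inclusion stab_le_dom ⟨_, lP_mem _⟩) (moves_lP _)).trans ?_
    congr 1
    exact Fin.ext (by show k.1 - 2 + 2 = k.1; omega)
  have hk : Agrp.subgroupOf (stabK r85) ≤ psiS.ker := by
    intro a ha
    obtain ⟨j, hj, e⟩ := (Subgroup.mem_subgroupOf.1 ha : (a : Equiv.Perm Vec) ∈ Agrp)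
    exact psi_eq (g := Subgroup.inclusion stab_le_dom a) (show Moves a 1 from e ▸ moves_aP hj)
  have e360 : Nat.card (alternatingGroup (Fin 6)) = 360 := by
    rw [nat_card_alternatingGroup, Nat.card_fin]; decide
  have eA : Nat.card (Agrp.subgroupOf (stabK r85)) = 16 := by
    rw [Nat.card_congr (Subgroup.subgroupOfEquivOfLe A_le).toEquiv, card_A]
  have h1 := Subgroup.card_mul_index psiS.ker
  rw [Subgroup.index_ker, card_stab_three] at h1
  have h2 : 16 ≤ Nat.card psiS.ker :=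
    eA ▸ Nat.card_le_card_of_injective _ (Subgroup.inclusion_injective hk)
  have h3 : 360 ≤ Nat.card psiS.range :=
    e360 ▸ Nat.card_le_card_of_injective _ (Subgroup.inclusion_injective hr)
  refine ⟨(Subgroup.eq_of_le_of_card_ge hr ?_).symm, (Subgroup.eq_of_le_of_card_ge hk ?_).symm⟩
  · rw [e360]; nlinarith
  · rw [eA]; nlinarith

theorem isSimple_alt_six : IsSimpleGroup (alternatingGroup (Fin 6)) :=
  alternatingGroup.isSimpleGroup (by simp)

/-- The action of the stabiliser on the six, onto the alternating group. -/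
noncomputable def psiA : ↥(stabK r85) →* ↥(alternatingGroup (Fin 6)) :=
  psiS.codRestrict _ fun k => psiS_facts.1 ▸ ⟨k, rfl⟩

theorem psiA_surjective : Function.Surjective psiA := fun π => by
  obtain ⟨k, hk⟩ : (π : Equiv.Perm (Fin 6)) ∈ psiS.range := psiS_facts.1.symm ▸ π.2
  exact ⟨k, Subtype.ext hk⟩

theorem psiA_ker : psiA.ker = Agrp.subgroupOf (stabK r85) :=
  (MonoidHom.ker_codRestrict _ _ _).trans psiS_facts.2

theorem A_normal {k a : Equiv.Perm Vec} (hk : k ∈ stabK r85) (ha : a ∈ Agrp) :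
    k * a * k⁻¹ ∈ Agrp := by
  have h : (⟨a, A_le ha⟩ : ↥(stabK r85)) ∈ psiA.ker := psiA_ker ▸ ha
  have := (MonoidHom.normal_ker psiA).conj_mem _ h ⟨k, hk⟩
  rw [psiA_ker] at this
  exact this

/-- A normal subgroup of 2-power order of the stabiliser lies in the group of order sixteen. -/
theorem two_normal {N : Subgroup (Equiv.Perm Vec)} (hN : N ≤ stabK r85)
    (hn : ∀ k ∈ stabK r85, ∀ a ∈ N, k * a * k⁻¹ ∈ N) (h2 : IsPGroup 2 N) : N ≤ Agrp := by
  have hN' : (N.subgroupOf (stabK r85)).Normal :=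
    ⟨fun a ha k => hn k.1 k.2 a.1 ha⟩
  haveI := hN'.map psiA psiA_surjective
  haveI := isSimple_alt_six
  rcases IsSimpleGroup.eq_bot_or_eq_top_of_normal
    ((N.subgroupOf (stabK r85)).map psiA) inferInstance with h | h
  · intro a ha
    have hk : (⟨a, hN ha⟩ : ↥(stabK r85)) ∈ psiA.ker := by
      have : psiA ⟨a, hN ha⟩ ∈ (N.subgroupOf (stabK r85)).map psiA :=
        Subgroup.mem_map_of_mem _ (show (⟨a, hN ha⟩ : ↥(stabK r85)) ∈ N.subgroupOf _ from ha)
      rw [h, Subgroup.mem_bot] at this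
      exact this
    rw [psiA_ker] at hk
    exact hk
  · exfalso
    haveI : Fact (Nat.Prime 2) := ⟨Nat.prime_two⟩
    have hp : IsPGroup 2 ↥((N.subgroupOf (stabK r85)).map psiA) :=
      (h2.of_equiv (Subgroup.subgroupOfEquivOfLe hN).symm).map _
    rw [h] at hp
    obtain ⟨n, hn⟩ := IsPGroup.iff_card.1 hp
    rw [Subgroup.card_top, nat_card_alternatingGroup, Nat.card_fin] at hn
    have h5 : 5 ∣ 2 ^ n := hn ▸ (by decide : 5 ∣ Nat.factorial 6 / 2)
    have := Nat.prime_five.dvd_of_dvd_pow h5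
    omega

end Cfsg.Agent.H41.LFi
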