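import Cfsg.Agent.H41.LFi.Core
import Cfsg.Agent.H41.LFi.StabThree
import Cfsg.Agent.H41.LFi.StabTwo
import Cfsg.Agent.H41.LFi.DSet
import Cfsg.Agent.H92.Pair

/-!
A conjugate of the central involution in the core: its image lies in the second class, and the
intersection of the two cores and the image of the other core are determined.
-/

set_option autoImplicit false
set_option linter.unusedSectionVars false
set_option linter.style.haveILetI false
set_option maxRecDepth 20000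

namespace Cfsg.Agent.H41.LFi

open Cfsg Cfsg.Agent.Compute Cfsg.Agent.Unitary Cfsg.Agent.H41.SUSix Matrix

open Cfsg.Agent.H92.ExtraForm (zp zp_inj zp_add)

attribute [local irreducible] mapsC sift invPerm H95.UFourThree.u43Chain

theorem isExtraspecial_of_equiv {A B : Type*} [Group A] [Group B] (e : A ≃* B) {p : ℕ}
    (h : Cfsg.IsExtraspecial p A) : Cfsg.IsExtraspecial p B := by
  obtain ⟨⟨hp, hf, hc⟩, hcard⟩ := h
  have hcm : (Subgroup.center A).map e.toMonoidHom = Subgroup.center B := by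
    ext b
    rw [Subgroup.mem_map_equiv, Subgroup.mem_center_iff, Subgroup.mem_center_iff]
    constructor
    · intro h g
      apply e.symm.injective
      rw [map_mul, map_mul, h]
    · intro h g
      apply e.injective
      rw [map_mul, map_mul, e.apply_symm_apply, h]
  have hfm : (frattini A).map e.toMonoidHom = frattini B := by
    refine le_antisymm (Subgroup.map_le_iff_le_comap.2
      (frattini_le_comap_frattini_of_surjective e.surjective)) ?_
    intro b hb
    rw [Subgroup.mem_map_equiv]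
    exact frattini_le_comap_frattini_of_surjective (φ := e.symm.toMonoidHom) e.symm.surjective hb
  have hdm : (_root_.commutator A).map e.toMonoidHom = _root_.commutator B := by
    rw [_root_.commutator_def, Subgroup.map_commutator,
      Subgroup.map_top_of_surjective _ e.surjective, ← _root_.commutator_def]
  refine ⟨⟨hp.of_surjective e.toMonoidHom e.surjective, ?_, ?_⟩, ?_⟩
  · rw [← hfm, hf, hcm]
  · rw [← hdm, hc, hcm]
  · rw [← hcm, ← hcard]
    exact (Nat.card_congr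
      ((Subgroup.center A).equivMapOfInjective _ e.injective).toEquiv).symm

variable {G : Type*} [Group G] [Finite G] {z : G}

/-- A conjugate of the involution in the core gives the setting of a pair. -/
theorem pair_of (Q : Subgroup (Subgroup.centralizer ({z} : Set G))) [Q.Normal]
    (hF : Cfsg.IsOfLargeFischerTypeAt z Q) {g : G}
    (hs : g * z * g⁻¹ ∈ Q.map (Subgroup.centralizer ({z} : Set G)).subtype)
    (hne : g * z * g⁻¹ ≠ z) :
    H92.PairSetting (Q.map (Subgroup.centralizer ({z} : Set G)).subtype) z g := by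
  obtain ⟨⟨hz, hgf, hQ, hcard, -⟩, -⟩ := hF
  obtain ⟨hzZ, hcenG, -, hnorm⟩ := H92.centralizer_setting (Subgroup.map_subtype_le Q) (by rw [hgf])
  refine ⟨isExtraspecial_of_equiv (Q.equivMapOfInjective _ (Subgroup.subtype_injective _)) hQ,
    hcenG, hnorm, hzZ, fun h => ?_, hs, hne, ?_⟩
  · rw [h, orderOf_one] at hz; omega
  · rw [← Nat.card_congr (Q.equivMapOfInjective _ (Subgroup.subtype_injective _)).toEquiv, hcard]
    norm_num

namespace LSetup

variable {Q : Subgroup G} (S : LSetup z Q)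

/-- The conjugate of the core, cut with the centraliser. -/
def sideW (Q : Subgroup G) (z g : G) : Subgroup G :=
  Q.map (MulAut.conj g).toMonoidHom ⊓ Subgroup.centralizer ({z} : Set G)

/-- The intersection of the two cores. -/
def meetD (Q : Subgroup G) (g : G) : Subgroup G := Q ⊓ Q.map (MulAut.conj g).toMonoidHom

/-- The image of the conjugate of the core. -/
noncomputable def imgE (g : G) : Subgroup (Equiv.Perm Vec) :=
  ((sideW Q z g).subgroupOf (Subgroup.centralizer ({z} : Set G))).map S.rhoHom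

theorem sideW_z {g w : G} (hw : w ∈ sideW Q z g) : w * z = z * w :=
  Subgroup.mem_centralizer_singleton_iff.1 hw.2

theorem mem_imgE {g : G} {a : Equiv.Perm Vec} :
    a ∈ S.imgE g ↔ ∃ w ∈ sideW Q z g, S.ρ w = a := by
  constructor
  · rintro ⟨w, hw, rfl⟩
    exact ⟨w, hw, rfl⟩
  · rintro ⟨w, hw, rfl⟩
    exact ⟨⟨w, hw.2⟩, hw, rfl⟩

variable {g : G}

include S

theorem π_s_ne (h : H92.PairSetting Q z g) : S.π (g * z * g⁻¹) ≠ 0 := fun e => by
  rcases (S.π_zero _ h.hs).1 e with e' | e'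
  · exact h.s_ne_one e'
  · exact h.hne e'

theorem cls_s (h : H92.PairSetting Q z g) :
    cls (S.π (g * z * g⁻¹)) = 2 ∨ cls (S.π (g * z * g⁻¹)) = 3 := by
  obtain ⟨f1, f0, f3⟩ := facts (S.π (g * z * g⁻¹))
  have n1 : cls (S.π (g * z * g⁻¹)) ≠ 1 := fun e => by
    have := (cls_one_iff _).1 e
    rw [S.wt_zero_of_sq h.hs h.s_sq] at this
    exact zero_ne_one this
  have n0 : cls (S.π (g * z * g⁻¹)) ≠ 0 := fun e => S.π_s_ne h (f0.1 e)
  omega

theorem card_sideW (h : H92.PairSetting Q z g) : Nat.card ↥(sideW Q z g) = 2 ^ 12 := by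
  have ht : g⁻¹ * z * g ∈ Q := H92.PairSetting.mem_R.1 h.z_mem_R
  have h0 : S.π (g⁻¹ * z * g) ≠ 0 := fun e => by
    rcases (S.π_zero _ ht).1 e with e' | e'
    · apply h.hz1
      calc z = g * (g⁻¹ * z * g) * g⁻¹ := by group
        _ = 1 := by rw [e']; group
    · apply h.hne
      calc g * z * g⁻¹ = g * (g⁻¹ * z * g) * g⁻¹ := by rw [e']
        _ = z := by group
  have e : sideW Q z g = (Q ⊓ Subgroup.centralizer ({g⁻¹ * z * g} : Set G)).map
      (MulAut.conj g).toMonoidHom := by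
    ext w
    rw [sideW, Subgroup.mem_inf, H92.PairSetting.mem_R, Subgroup.mem_centralizer_singleton_iff,
      Subgroup.mem_map_equiv, Subgroup.mem_inf, Subgroup.mem_centralizer_singleton_iff,
      MulAut.conj_symm_apply]
    refine and_congr_right fun _ => ⟨fun e => ?_, fun e => ?_⟩
    · calc g⁻¹ * w * g * (g⁻¹ * z * g) = g⁻¹ * (w * z) * g := by group
        _ = _ := by rw [e]; group
    · calc w * z = g * (g⁻¹ * w * g * (g⁻¹ * z * g)) * g⁻¹ := by group
        _ = _ := by rw [e]; group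
  rw [e, ← Nat.card_congr (Subgroup.equivMapOfInjective _ _ (MulAut.conj g).injective).toEquiv,
    S.card_centralizer_elt ht h0]

theorem z_mem_D (h : H92.PairSetting Q z g) : z ∈ meetD Q g := ⟨S.hzQ, h.z_mem_R⟩

theorem D_sq (h : H92.PairSetting Q z g) {a : G} (ha : a ∈ meetD Q g) : a * a = 1 := by
  by_contra hne
  have e1 : a * a = z := by
    rw [S.sq a ha.1] at hne ⊢
    rcases zmod_two_cases (wt (S.π a)) with e | e <;> rw [e] at hne ⊢
    · exact absurd (by simp [zp]) hne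
    · simp [zp]
  have hb : g⁻¹ * a * g ∈ Q := H92.PairSetting.mem_R.1 ha.2
  have e2 : g⁻¹ * z * g = zp z (wt (S.π (g⁻¹ * a * g))) :=
    calc g⁻¹ * z * g = g⁻¹ * (a * a) * g := by rw [e1]
      _ = g⁻¹ * a * g * (g⁻¹ * a * g) := by group
      _ = _ := S.sq _ hb
  rcases zmod_two_cases (wt (S.π (g⁻¹ * a * g))) with e | e <;> rw [e] at e2
  · apply h.hz1
    calc z = g * (g⁻¹ * z * g) * g⁻¹ := by group
      _ = 1 := by rw [e2]; simp [zp]
  · have e3 : g⁻¹ * z * g = z := by simpa [zp] using e2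
    apply h.hne
    calc g * z * g⁻¹ = g * (g⁻¹ * z * g) * g⁻¹ := by rw [e3]
      _ = z := by group

theorem D_comm (h : H92.PairSetting Q z g) {a b : G} (ha : a ∈ meetD Q g) (hb : b ∈ meetD Q g) :
    a * b = b * a := by
  have e := S.D_sq h (mul_mem ha hb)
  have ea := inv_eq_of_mul_eq_one_right (S.D_sq h ha)
  have eb' := inv_eq_of_mul_eq_one_right (S.D_sq h hb)
  calc a * b = (a * b)⁻¹ := (inv_eq_of_mul_eq_one_right e).symm
    _ = b * a := by rw [_root_.mul_inv_rev, ea, eb']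

theorem card_D_le (h : H92.PairSetting Q z g) : Nat.card ↥(meetD Q g) ≤ 2 ^ 7 := by
  rw [S.card_piImage (meetD Q g) inf_le_left (S.z_mem_D h)]
  have := isotropic_bound (W := S.piImage (meetD Q g) inf_le_left) (by
    rintro _ ⟨a, ha, rfl⟩
    exact S.wt_zero_of_sq ha.1 (S.D_sq h ha))
  norm_num
  omega

theorem card_imgE (h : H92.PairSetting Q z g) :
    Nat.card ↥(meetD Q g) * Nat.card ↥(S.imgE g) = 2 ^ 12 := by
  have hWC : sideW Q z g ≤ Subgroup.centralizer ({z} : Set G) := inf_le_right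
  set W' := (sideW Q z g).subgroupOf (Subgroup.centralizer ({z} : Set G)) with hW'
  have hc := Subgroup.card_mul_index (S.rhoHom.comp W'.subtype).ker
  rw [Subgroup.index_ker, MonoidHom.range_comp, Subgroup.range_subtype] at hc
  have hk : Nat.card ↥(S.rhoHom.comp W'.subtype).ker = Nat.card ↥(meetD Q g) := by
    have hDC : ∀ {a : G}, a ∈ meetD Q g → a ∈ sideW Q z g := fun ha =>
      ⟨ha.2, Subgroup.mem_centralizer_singleton_iff.2 (S.le _ ha.1)⟩
    refine Nat.card_congr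
      { toFun := fun x => ⟨((x.1 : ↥(Subgroup.centralizer ({z} : Set G))) : G),
          (S.ρ_ker _ (sideW_z x.1.2)).1 (MonoidHom.mem_ker.1 x.2), x.1.2.1⟩
        invFun := fun a => ⟨⟨⟨a, (hDC a.2).2⟩, hDC a.2⟩,
          MonoidHom.mem_ker.2 ((S.ρ_ker (a : G) (sideW_z (hDC a.2))).2 a.2.1)⟩
        left_inv := fun x => rfl
        right_inv := fun a => rfl }
  rw [hk, Nat.card_congr (Subgroup.subgroupOfEquivOfLe hWC).toEquiv, S.card_sideW h] at hc
  exact hc

theorem imgE_sq (h : H92.PairSetting Q z g) {a : Equiv.Perm Vec} (ha : a ∈ S.imgE g) :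
    a * a = 1 := by
  obtain ⟨w, hw, rfl⟩ := S.mem_imgE.1 ha
  have hb : g⁻¹ * w * g ∈ Q := H92.PairSetting.mem_R.1 hw.1
  have e : w * w ∈ Q := by
    have e0 : w * w = g * zp z (wt (S.π (g⁻¹ * w * g))) * g⁻¹ := by rw [← S.sq _ hb]; group
    rw [e0]
    rcases zmod_two_cases (wt (S.π (g⁻¹ * w * g))) with e | e <;> rw [e]
    · simp [zp]
    · simpa [zp] using h.hs
  rw [← S.ρ_mul w w (sideW_z hw) (sideW_z hw)]
  exact (S.ρ_ker _ (S.z_comm_mul (sideW_z hw) (sideW_z hw))).2 e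

theorem imgE_comm (h : H92.PairSetting Q z g) {a b : Equiv.Perm Vec} (ha : a ∈ S.imgE g)
    (hb : b ∈ S.imgE g) : a * b = b * a := by
  have e := S.imgE_sq h (mul_mem ha hb)
  have ea := inv_eq_of_mul_eq_one_right (S.imgE_sq h ha)
  have eb' := inv_eq_of_mul_eq_one_right (S.imgE_sq h hb)
  calc a * b = (a * b)⁻¹ := (inv_eq_of_mul_eq_one_right e).symm
    _ = b * a := by rw [_root_.mul_inv_rev, ea, eb']

theorem imgE_fix (h : H92.PairSetting Q z g) {a : Equiv.Perm Vec} (ha : a ∈ S.imgE g) :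
    a (S.π (g * z * g⁻¹)) = S.π (g * z * g⁻¹) := by
  obtain ⟨w, hw, rfl⟩ := S.mem_imgE.1 ha
  rw [← S.ρ_π w (sideW_z hw) _ h.hs, mul_inv_eq_iff_eq_mul.2 (h.R_comm hw.1)]

theorem imgE_normal (h : H92.PairSetting Q z g) {c : G} (hc : c * z = z * c)
    (hfix : S.ρ c (S.π (g * z * g⁻¹)) = S.π (g * z * g⁻¹)) {a : Equiv.Perm Vec}
    (ha : a ∈ S.imgE g) : S.ρ c * a * (S.ρ c)⁻¹ ∈ S.imgE g := by
  obtain ⟨d, hd, hds, hρ⟩ := S.lift_fix hc h.hs (S.π_s_ne h) hfix
  obtain ⟨w, hw, rfl⟩ := S.mem_imgE.1 ha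
  have hw' : d * w * d⁻¹ ∈ sideW Q z g :=
    ⟨h.R_norm hds hw.1, Subgroup.mem_centralizer_singleton_iff.2
      (S.z_comm_mul (S.z_comm_mul hd (sideW_z hw)) (S.z_comm_inv hd))⟩
  refine S.mem_imgE.2 ⟨_, hw', ?_⟩
  rw [S.ρ_mul _ _ (S.z_comm_mul hd (sideW_z hw)) (S.z_comm_inv hd),
    S.ρ_mul _ _ hd (sideW_z hw), S.ρ_inv hd, hρ]

theorem card_imgE_inf (h : H92.PairSetting Q z g) : 16 ≤ Nat.card ↥(S.imgE g ⊓ Kl) := by
  classical
  have h1 := S.card_imgE h
  have h2 := S.card_D_le h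
  have h32 : 32 ≤ Nat.card ↥(S.imgE g) := by
    by_contra hcon
    push Not at hcon
    have := Nat.mul_le_mul h2 (Nat.le_sub_one_of_lt hcon)
    rw [h1] at this
    norm_num at this
  by_cases hall : S.imgE g ≤ Kl
  · rw [inf_eq_left.2 hall]; omega
  obtain ⟨a, ha, haK⟩ := SetLike.not_le_iff_exists.1 hall
  obtain ⟨wa, hwa, ea⟩ := S.mem_imgE.1 ha
  have hj : ∀ x : ↥(S.imgE g), (if (x : Equiv.Perm Vec) ∈ Kl then (x : Equiv.Perm Vec)
      else a * x) ∈ S.imgE g ⊓ Kl := by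
    intro x
    split_ifs with hx
    · exact ⟨x.2, hx⟩
    · obtain ⟨wx, hwx, ex⟩ := S.mem_imgE.1 x.2
      exact ⟨mul_mem ha x.2,
        ea ▸ ex ▸ S.two_elts (sideW_z hwa) (sideW_z hwx) (ea ▸ haK) (ex ▸ hx)⟩
  have hle := Nat.card_le_card_of_injective
    (fun x => ((⟨_, hj x⟩ : ↥(S.imgE g ⊓ Kl)), decide ((x : Equiv.Perm Vec) ∈ Kl)))
    (fun x y e => by
      have e1 : (if (x : Equiv.Perm Vec) ∈ Kl then (x : Equiv.Perm Vec) else a * x) =
          (if (y : Equiv.Perm Vec) ∈ Kl then (y : Equiv.Perm Vec) else a * y) :=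
        congrArg (fun p : ↥(S.imgE g ⊓ Kl) × Bool => (p.1 : Equiv.Perm Vec)) e
      have e2 : decide ((x : Equiv.Perm Vec) ∈ Kl) = decide ((y : Equiv.Perm Vec) ∈ Kl) :=
        congrArg Prod.snd e
      rw [decide_eq_decide] at e2
      refine Subtype.ext ?_
      by_cases hx : (x : Equiv.Perm Vec) ∈ Kl
      · rwa [if_pos hx, if_pos (e2.1 hx)] at e1
      · rw [if_neg hx, if_neg (fun hy => hx (e2.2 hy))] at e1
        exact mul_left_cancel e1)
  rw [Nat.card_prod, Nat.card_eq_fintype_card (α := Bool), Fintype.card_bool] at hle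
  omega

/-- The image of the conjugate lies in the second class. -/
theorem cls_eq_three (h : H92.PairSetting Q z g) : cls (S.π (g * z * g⁻¹)) = 3 := by
  rcases S.cls_s h with h2 | h3
  swap
  · exact h3
  exfalso
  set u := S.π (g * z * g⁻¹) with hu
  obtain ⟨k, hk, ek⟩ := transitive (Or.inl rfl) h2
  have hr5 : k r5 = u := ek
  let N : Subgroup (Equiv.Perm Vec) := (S.imgE g ⊓ Kl).map (MulAut.conj k⁻¹).toMonoidHom
  have hNmem : ∀ x ∈ N, k * x * k⁻¹ ∈ S.imgE g ⊓ Kl := by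
    rintro _ ⟨y, hy, rfl⟩
    have : k * ((MulAut.conj k⁻¹).toMonoidHom y) * k⁻¹ = y := by
      show k * (k⁻¹ * y * k⁻¹⁻¹) * k⁻¹ = y
      group
    rwa [this]
  have hNle : N ≤ stabK r5 := by
    rintro x ⟨y, ⟨hyE, hyK⟩, rfl⟩
    refine ⟨Kl.mul_mem (Kl.mul_mem (Kl.inv_mem hk) hyK) (Kl.inv_mem (Kl.inv_mem hk)), ?_⟩
    show (k⁻¹ * y * k⁻¹⁻¹) r5 = r5
    rw [inv_inv, Equiv.Perm.mul_apply, Equiv.Perm.mul_apply, hr5, S.imgE_fix h hyE]
    exact k.symm_apply_eq.2 hr5.symm
  have hnorm : (N.subgroupOf (stabK r5)).Normal := ⟨fun x hx n => by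
    obtain ⟨hyE, hyK⟩ := hNmem _ hx
    have hn' : k * n * k⁻¹ ∈ Kl := Kl.mul_mem (Kl.mul_mem hk n.2.1) (Kl.inv_mem hk)
    obtain ⟨c, hc, ec⟩ := S.ρ_surj _ hn'
    have hfix : S.ρ c u = u := by
      have e1 : k⁻¹ u = r5 := k.symm_apply_eq.2 hr5.symm
      rw [ec, Equiv.Perm.mul_apply, Equiv.Perm.mul_apply, e1]
      show k ((n : Equiv.Perm Vec) r5) = u
      rw [show (n : Equiv.Perm Vec) r5 = r5 from n.2.2, hr5]
    refine ⟨S.ρ c * (k * x * k⁻¹) * (S.ρ c)⁻¹,
      ⟨S.imgE_normal h hc hfix hyE,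
        Kl.mul_mem (Kl.mul_mem (ec ▸ hn') hyK) (Kl.inv_mem (ec ▸ hn'))⟩, ?_⟩
    show k⁻¹ * (S.ρ c * (k * x * k⁻¹) * (S.ρ c)⁻¹) * k⁻¹⁻¹ = _
    rw [ec]
    show _ = (n : Equiv.Perm Vec) * (x : Equiv.Perm Vec) * (n : Equiv.Perm Vec)⁻¹
    group⟩
  have hcard : 16 ≤ Nat.card N := by
    rw [← Nat.card_congr ((S.imgE g ⊓ Kl).equivMapOfInjective _
      (MulAut.conj k⁻¹).injective).toEquiv]
    exact S.card_imgE_inf h
  haveI := isSimple_stab_two
  rcases IsSimpleGroup.eq_bot_or_eq_top_of_normal _ hnorm with e | e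
  · have := Nat.card_congr (Subgroup.subgroupOfEquivOfLe hNle).toEquiv
    rw [e, Subgroup.card_bot] at this
    omega
  · haveI : Fact (Nat.Prime 5) := ⟨Nat.prime_five⟩
    obtain ⟨x, hx⟩ := exists_prime_orderOf_dvd_card' (G := ↥(stabK r5)) 5 (by
      rw [show stabK r5 = stabK (dV 5) from rfl, card_stab_two]; norm_num)
    have hxN : (x : Equiv.Perm Vec) ∈ N := by
      have : x ∈ N.subgroupOf (stabK r5) := e ▸ Subgroup.mem_top x
      exact this
    obtain ⟨hyE, -⟩ := hNmem _ hxN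
    have h2' := S.imgE_sq h hyE
    have hx2 : x ^ 2 = 1 := by
      refine Subtype.ext ?_
      rw [SubgroupClass.coe_pow, OneMemClass.coe_one, pow_two]
      calc (x : Equiv.Perm Vec) * x = k⁻¹ * (k * x * k⁻¹ * (k * x * k⁻¹)) * k := by group
        _ = 1 := by rw [h2']; group
    have := orderOf_dvd_of_pow_eq_one hx2
    rw [hx] at this
    norm_num at this

/-- The shape of the image of the conjugate and of the intersection. -/
structure Shape (g : G) (k : Equiv.Perm Vec) : Prop where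
  img : S.imgE g = Egrp.map (MulAut.conj k).toMonoidHom
  card_meet : Nat.card ↥(meetD Q g) = 2 ^ 7
  meet : ∀ v, v ∈ S.piImage (meetD Q g) inf_le_left ↔ k⁻¹ v ∈ Dset

theorem shape (h : H92.PairSetting Q z g) {k : Equiv.Perm Vec} (hk : k ∈ Kl)
    (hku : k r85 = S.π (g * z * g⁻¹)) : S.Shape g k := by
  classical
  set u := S.π (g * z * g⁻¹) with hu
  have e1 : k⁻¹ u = r85 := k.symm_apply_eq.2 hku.symm
  have hk0 : k 0 = 0 := (semi_of_mem_Kl hk).map_zero
  let E' : Subgroup (Equiv.Perm Vec) := (S.imgE g).map (MulAut.conj k⁻¹).toMonoidHom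
  have hE'mem : ∀ {x}, x ∈ E' ↔ k * x * k⁻¹ ∈ S.imgE g := by
    intro x
    rw [Subgroup.mem_map_equiv, MulAut.conj_symm_apply, inv_inv]
  let A' := E' ⊓ Kl
  have hA'le : A' ≤ stabK r85 := by
    rintro x ⟨hxE, hxK⟩
    refine ⟨hxK, ?_⟩
    have e2 := S.imgE_fix h (hE'mem.1 hxE)
    rw [← hu, Equiv.Perm.mul_apply, Equiv.Perm.mul_apply, e1, ← hku] at e2
    exact k.injective e2
  have hA'eq : A' = (S.imgE g ⊓ Kl).map (MulAut.conj k⁻¹).toMonoidHom := by
    ext x
    rw [Subgroup.mem_map_equiv, MulAut.conj_symm_apply, inv_inv, Subgroup.mem_inf,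
      Subgroup.mem_inf, hE'mem, Subgroup.mul_mem_cancel_right _ (inv_mem hk),
      Subgroup.mul_mem_cancel_left _ hk]
  have hA' : A' ≤ Agrp := by
    refine two_normal hA'le (fun n hn x hx => ?_) ?_
    · obtain ⟨c, hc, ec⟩ := S.ρ_surj _ (Kl.mul_mem (Kl.mul_mem hk hn.1) (Kl.inv_mem hk))
      have hfix : S.ρ c u = u := by
        rw [ec, Equiv.Perm.mul_apply, Equiv.Perm.mul_apply, e1,
          show n r85 = r85 from hn.2, hku]
      have := S.imgE_normal h hc hfix (hE'mem.1 hx.1)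
      rw [ec] at this
      refine ⟨hE'mem.2 ?_, Kl.mul_mem (Kl.mul_mem hn.1 hx.2) (Kl.inv_mem hn.1)⟩
      convert this using 1
      group
    · intro x
      refine ⟨1, Subtype.ext ?_⟩
      have h2 := S.imgE_sq h (hE'mem.1 x.2.1)
      rw [SubgroupClass.coe_pow, OneMemClass.coe_one, pow_one, pow_two]
      calc (x : Equiv.Perm Vec) * x = k⁻¹ * (k * x * k⁻¹ * (k * x * k⁻¹)) * k := by group
        _ = 1 := by rw [h2]; group
  have hA'A : A' = Agrp := by
    refine Subgroup.eq_of_le_of_card_ge hA' ?_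
    rw [card_A, hA'eq, ← Nat.card_congr (Subgroup.equivMapOfInjective _ _
      (MulAut.conj k⁻¹).injective).toEquiv]
    exact S.card_imgE_inf h
  have hDle := S.card_D_le h
  have hprod := S.card_imgE h
  have hEc : Nat.card E' = Nat.card ↥(S.imgE g) :=
    (Nat.card_congr (Subgroup.equivMapOfInjective _ _ (MulAut.conj k⁻¹).injective).toEquiv).symm
  -- some element of the image lies outside the model
  obtain ⟨a, ha, haK⟩ : ∃ a ∈ E', a ∉ Kl := by
    by_contra hcon
    push Not at hcon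
    have hle : E' ≤ Agrp := fun x hx => hA'A ▸ (⟨hx, hcon x hx⟩ : x ∈ A')
    have := Nat.card_le_card_of_injective _ (Subgroup.inclusion_injective hle)
    rw [hEc, card_A] at this
    have := Nat.mul_le_mul hDle this
    rw [hprod] at this
    norm_num at this
  obtain ⟨j, hj, haj⟩ : ∃ j < 16, a = oP j := by
    obtain ⟨w, hw, ew⟩ := S.mem_imgE.1 (hE'mem.1 ha)
    obtain ⟨θ, hθ⟩ := S.ρ_semi w (sideW_z hw)
    have hks : Semi false k := semi_of_mem_Kl hk
    have hki : Semi false (k⁻¹ : Equiv.Perm Vec) := semi_of_mem_Kl (inv_mem hk)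
    have hae : a = k⁻¹ * S.ρ w * k := by rw [ew]; group
    have hsa : Semi θ a := by
      have hh := (hki.comp hθ).comp hks
      rw [Bool.false_xor, Bool.xor_false] at hh
      rw [hae]
      exact hh
    have hroot : a r85 = r85 := by
      have e2 := S.imgE_fix h (hE'mem.1 ha)
      rw [← hu, Equiv.Perm.mul_apply, Equiv.Perm.mul_apply, e1, ← hku] at e2
      exact k.injective e2
    have hcomm : ∀ i, a * gP i = gP i * a := by
      intro i
      have hg : gP i ∈ E' := (hA'A.symm ▸ gP_mem_A i : gP i ∈ A').1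
      have hc := S.imgE_comm h (hE'mem.1 ha) (hE'mem.1 hg)
      calc a * gP i = k⁻¹ * (k * a * k⁻¹ * (k * gP i * k⁻¹)) * k := by group
        _ = k⁻¹ * (k * gP i * k⁻¹ * (k * a * k⁻¹)) * k := by rw [hc]
        _ = gP i * a := by group
    have hpres : ∀ v, cls v = 2 → cls (a v) = 2 := by
      intro v hv
      rw [hae, Equiv.Perm.mul_apply, Equiv.Perm.mul_apply, cls_Kl (inv_mem hk),
        S.ρ_cls w (sideW_z hw), cls_Kl hk, hv]
    cases θ
    · obtain ⟨j, hj, e⟩ := classify_lin ⟨hsa, hroot, hcomm⟩ hpres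
      exact absurd (e ▸ aP_mem j) haK
    · exact classify_semi ⟨hsa, hroot, hcomm⟩ hpres
  have hEle : Egrp ≤ E' := by
    rintro _ ⟨i, hi, rfl | rfl⟩
    · exact (hA'A.symm ▸ aP_mem_A hi : aP i ∈ A').1
    · have hx : oP i = oP j * aP (Nat.xor j i) := by
        rw [oP_mul_aP hj (xor_lt16 hj hi)]
        congr 1
        show i = j ^^^ (j ^^^ i)
        rw [← Nat.xor_assoc, Nat.xor_self, Nat.zero_xor]
      rw [hx]
      exact mul_mem (haj ▸ ha) (hA'A.symm ▸ aP_mem_A (xor_lt16 hj hi) : _ ∈ A').1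
  have h32 : 32 ≤ Nat.card ↥(S.imgE g) :=
    hEc ▸ card_E ▸ Nat.card_le_card_of_injective _ (Subgroup.inclusion_injective hEle)
  -- the outer elements of the image move the orthogonal of the root into the intersection
  let T : AddSubgroup Vec :=
    (S.piImage (meetD Q g) inf_le_left).comap (AddMonoidHom.mk' k (semi_of_mem_Kl hk).add)
  have hT : Dset ≤ T := by
    refine D_le fun i hi v hv => ?_
    obtain ⟨w, hw, ew⟩ := S.mem_imgE.1 (hE'mem.1 (hEle (oP_mem_E hi)))
    obtain ⟨q, hq, eq'⟩ := S.π_surj (k v)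
    have hwz := sideW_z hw
    have hqs : q * (g * z * g⁻¹) = g * z * g⁻¹ * q := by
      rw [S.comm_iff hq h.hs, eq', ← hu, ← hku, pol_eq]
      have hh : hermForm 6 K4 2 (k v) (k r85) = hermForm 6 K4 2 v r85 := by
        obtain ⟨g0, -, rfl⟩ := hk
        exact herm_ap g0 v r85
      rw [hh]
      rcases hv with e | e <;> rw [e] <;> rfl
    have hmem : w * q * w⁻¹ * q⁻¹ ∈ meetD Q g := by
      refine ⟨Q.mul_mem (S.norm w hwz q hq) (Q.inv_mem hq), ?_⟩
      rw [show w * q * w⁻¹ * q⁻¹ = w * (q * w⁻¹ * q⁻¹) by group]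
      have hwR : w ∈ Q.map (MulAut.conj g).toMonoidHom := hw.1
      exact mul_mem hwR (h.R_norm hqs ((Q.map (MulAut.conj g).toMonoidHom).inv_mem hwR))
    refine ⟨_, hmem, ?_⟩
    show S.π (w * q * w⁻¹ * q⁻¹) = k (oP i v + v)
    rw [S.π_mul _ (S.norm w hwz q hq) _ (inv_mem hq), S.π_inv hq, S.ρ_π w hwz q hq, eq', ew,
      (semi_of_mem_Kl hk).add]
    show k (oP i (k.symm (k v))) + k v = _
    rw [k.symm_apply_apply]
  have hTc : Nat.card T = Nat.card (S.piImage (meetD Q g) inf_le_left) := by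
    refine Nat.card_congr
      { toFun := fun v => ⟨k v, v.2⟩
        invFun := fun v => ⟨k.symm v, AddSubgroup.mem_comap.2 (by
          rw [AddMonoidHom.mk'_apply, k.apply_symm_apply]; exact v.2)⟩
        left_inv := fun v => Subtype.ext (k.symm_apply_apply _)
        right_inv := fun v => Subtype.ext (k.apply_symm_apply _) }
  have h64 : 64 ≤ Nat.card T :=
    card_D ▸ Nat.card_le_card_of_injective _ (AddSubgroup.inclusion_injective hT)
  have hmeet := S.card_piImage (meetD Q g) inf_le_left (S.z_mem_D h)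
  have hD7 : Nat.card ↥(meetD Q g) = 2 ^ 7 := by
    refine le_antisymm hDle ?_
    rw [hmeet, show (2 : ℕ) ^ 7 = 2 * 64 by norm_num, ← hTc]
    exact Nat.mul_le_mul_left 2 h64
  have hTD : Dset = T := AddSubgroup.eq_of_le_of_card_ge hT (by
    rw [card_D, hTc]
    rw [hD7, show (2 : ℕ) ^ 7 = 2 * 64 by norm_num] at hmeet
    exact (Nat.eq_of_mul_eq_mul_left two_pos hmeet).ge)
  have hE32 : Nat.card E' = 32 := by
    rw [hEc]
    rw [hD7, show (2 : ℕ) ^ 12 = 2 ^ 7 * 32 by norm_num] at hprod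
    exact Nat.eq_of_mul_eq_mul_left (by norm_num) hprod
  have hEE : E' = Egrp := (Subgroup.eq_of_le_of_card_ge hEle (by rw [hE32, card_E])).symm
  refine ⟨?_, hD7, fun v => ?_⟩
  · ext x
    rw [Subgroup.mem_map_equiv, MulAut.conj_symm_apply, ← hEE, hE'mem]
    rw [show k * (k⁻¹ * x * k) * k⁻¹ = x by group]
  · rw [hTD]
    refine Iff.trans ?_ AddSubgroup.mem_comap.symm
    rw [AddMonoidHom.mk'_apply, show k (k⁻¹ v) = v from k.apply_symm_apply v]

end LSetup

end Cfsg.Agent.H41.LFi
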