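import Cfsg.Agent.H41.LFi.Setup
import Cfsg.Agent.H92.F2Forms

/-!
Basic consequences of the setting of large Fischer type.
-/

set_option autoImplicit false
set_option linter.unusedSectionVars false
set_option linter.style.haveILetI false

namespace Cfsg.Agent.H41.LFi

open Cfsg Cfsg.Agent.Compute Cfsg.Agent.Unitary Cfsg.Agent.H41.SUSix Matrix

open Cfsg.Agent.H92.ExtraForm (zp zp_inj zp_add)

/-! ### The form -/

theorem pol_symm (u v : Vec) : pol u v = pol v u := by
  rw [pol, pol, add_comm v u, add_assoc, add_assoc, add_comm (wt u)]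

theorem pol_add_left (u v w : Vec) : pol (u + v) w = pol u w + pol v w := by
  rw [pol_eq, pol_eq, pol_eq, ← trK_add]
  congr 1
  rw [hermForm, hermForm, hermForm, ← Finset.sum_add_distrib]
  exact Finset.sum_congr rfl fun i _ => add_mul (u i) (v i) _

theorem pol_add_right (u v w : Vec) : pol u (v + w) = pol u v + pol u w := by
  rw [pol_symm, pol_add_left, pol_symm v, pol_symm w]

theorem pol_nondeg {u : Vec} (hu : u ≠ 0) : ∃ v, pol u v = 1 := by
  obtain ⟨i, hi⟩ := Function.ne_iff.1 hu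
  have key : ∀ x : K4, x ≠ 0 → ∃ c : K4, trK (x * c ^ 2) = 1 := by decide +kernel
  obtain ⟨c, hc⟩ := key (u i) hi
  refine ⟨Pi.single i c, ?_⟩
  rw [pol_eq, hermForm, Finset.sum_eq_single i, Pi.single_eq_same]
  · exact hc
  · intro j _ hj
    rw [Pi.single_eq_of_ne hj]
    have : (0 : K4) ^ 2 = 0 := by decide +kernel
    rw [this, mul_zero]
  · exact fun h => absurd (Finset.mem_univ i) h

/-- The polar form as an additive map. -/
noncomputable def polHom : Vec →+ Vec →+ ZMod 2 :=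
  AddMonoidHom.mk' (fun u => AddMonoidHom.mk' (pol u) (pol_add_right u))
    fun u v => AddMonoidHom.ext (pol_add_left u v)

theorem isQuad : H92.F2Forms.IsQuad (fun u : Vec => wt u) polHom :=
  ⟨fun u v => by
    show wt (u + v) = wt u + wt v + pol u v
    have key : ∀ a b c : ZMod 2, a = b + c + (a + b + c) := by decide
    exact key _ _ _,
  fun w h => by
    by_contra hw
    obtain ⟨v, hv⟩ := pol_nondeg hw
    have := h v
    change pol v w = 0 at this
    rw [pol_symm, hv] at this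
    exact one_ne_zero this⟩

theorem card_vec : Nat.card Vec = 2 ^ 12 := by
  rw [Nat.card_fun, Nat.card_fin, Nat.card_eq_fintype_card]
  decide +kernel

theorem isotropic_bound {W : AddSubgroup Vec} (h : ∀ w ∈ W, wt w = 0) : Nat.card W ≤ 64 := by
  have := isQuad.card_sq_le h
  rw [card_vec] at this
  by_contra hcon
  push Not at hcon
  have := Nat.mul_le_mul hcon hcon
  norm_num at this
  omega

/-! ### The setting -/

variable {G : Type*} [Group G] [Finite G] {z : G} {Q : Subgroup G}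

namespace LSetup

variable (S : LSetup z Q)
include S

theorem z_sq : z * z = 1 := by rw [← pow_two, ← S.hzo, pow_orderOf_eq_one]

theorem z_ne : z ≠ 1 := fun h => by
  have := S.hzo
  rw [h, orderOf_one] at this
  omega

theorem π_one : S.π 1 = 0 := (S.π_zero 1 Q.one_mem).2 (Or.inl rfl)

theorem π_z : S.π z = 0 := (S.π_zero z S.hzQ).2 (Or.inr rfl)

theorem π_zmul {q : G} (hq : q ∈ Q) : S.π (z * q) = S.π q := by
  rw [S.π_mul z S.hzQ q hq, S.π_z, zero_add]

theorem π_inv {q : G} (hq : q ∈ Q) : S.π q⁻¹ = S.π q := by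
  have h := S.π_mul q⁻¹ (inv_mem hq) q hq
  rw [inv_mul_cancel, S.π_one] at h
  have key : ∀ a b : K4, 0 = a + b → a = b := by decide +kernel
  funext i
  exact key _ _ (congrFun h i)

theorem π_eq {q r : G} (hq : q ∈ Q) (hr : r ∈ Q) (h : S.π q = S.π r) : r = q ∨ r = z * q := by
  have h0 : S.π (r * q⁻¹) = 0 := by
    rw [S.π_mul r hr _ (inv_mem hq), S.π_inv hq, h]
    funext i
    have key : ∀ a : K4, a + a = 0 := by decide +kernel
    exact key _
  rcases (S.π_zero _ (mul_mem hr (inv_mem hq))).1 h0 with e | e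
  · exact Or.inl (mul_inv_eq_one.1 e)
  · exact Or.inr (mul_inv_eq_iff_eq_mul.1 e)

theorem comm_iff {q r : G} (hq : q ∈ Q) (hr : r ∈ Q) :
    q * r = r * q ↔ pol (S.π q) (S.π r) = 0 := by
  have h := S.comm q hq r hr
  constructor
  · intro e
    rw [← e] at h
    have h1 : zp z (pol (S.π q) (S.π r)) = zp z 0 := by
      simpa [zp] using h
    exact zp_inj S.z_ne h1
  · intro e
    rw [e] at h
    simpa [zp] using h.symm

theorem wt_zero_of_sq {q : G} (hq : q ∈ Q) (h : q * q = 1) : wt (S.π q) = 0 := by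
  rw [S.sq q hq] at h
  exact zp_inj S.z_ne (h.trans (by simp [zp]))

theorem exists_conj_z {q : G} (hq : q ∈ Q) (h : S.π q ≠ 0) :
    ∃ x ∈ Q, x * q * x⁻¹ = z * q := by
  obtain ⟨v, hv⟩ := pol_nondeg h
  obtain ⟨x, hx, hxv⟩ := S.π_surj v
  refine ⟨x, hx, ?_⟩
  have hc := S.comm q hq x hx
  rw [hxv, hv] at hc
  have e : x * q = z * (q * x) := by
    rw [hc]
    show q * x * zp z 1 = _
    simp only [zp, one_ne_zero, if_false]
    exact S.le _ (mul_mem hq hx)
  rw [e, ← mul_assoc, mul_inv_cancel_right]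

/-- An element inducing a map which fixes the image of an element of the core can be corrected
to centralise it. -/
theorem lift_fix {c q : G} (hc : c * z = z * c) (hq : q ∈ Q) (h0 : S.π q ≠ 0)
    (hfix : S.ρ c (S.π q) = S.π q) :
    ∃ d : G, d * z = z * d ∧ d * q = q * d ∧ S.ρ d = S.ρ c := by
  have hmem := S.norm c hc q hq
  have h := S.ρ_π c hc q hq
  rw [hfix] at h
  rcases S.π_eq hq hmem h.symm with e | e
  · exact ⟨c, hc, mul_inv_eq_iff_eq_mul.1 e, rfl⟩
  · obtain ⟨x, hx, hxq⟩ := S.exists_conj_z hq h0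
    have hxz : x * z = z * x := S.le x hx
    refine ⟨x * c, ?_, mul_inv_eq_iff_eq_mul.1 ?_, ?_⟩
    · rw [mul_assoc, hc, ← mul_assoc, hxz, mul_assoc]
    · calc x * c * q * (x * c)⁻¹ = x * (c * q * c⁻¹) * x⁻¹ := by group
        _ = (x * z) * q * x⁻¹ := by rw [e]; group
        _ = z * (x * q * x⁻¹) := by rw [hxz]; group
        _ = q := by rw [hxq, ← mul_assoc, S.z_sq, one_mul]
    · rw [S.ρ_mul x c hxz hc, (S.ρ_ker x hxz).2 hx, one_mul]

theorem card_centralizer_elt {q : G} (hq : q ∈ Q) (h : S.π q ≠ 0) :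
    Nat.card ↥(Q ⊓ Subgroup.centralizer ({q} : Set G)) = 2 ^ 12 := by
  classical
  let f : ↥Q →* Multiplicative (ZMod 2) := MonoidHom.mk'
    (fun r => Multiplicative.ofAdd (pol (S.π q) (S.π r)))
    fun a b => by
      rw [← ofAdd_add, Subgroup.coe_mul, S.π_mul a a.2 b b.2, pol_add_right]
  have hsurj : Function.Surjective f := by
    intro a
    rcases zmod_two_cases (Multiplicative.toAdd a) with e | e
    · exact ⟨1, by rw [map_one, ← ofAdd_toAdd a, e]; rfl⟩
    · obtain ⟨v, hv⟩ := pol_nondeg h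
      obtain ⟨r, hr, hrv⟩ := S.π_surj v
      refine ⟨⟨r, hr⟩, ?_⟩
      show Multiplicative.ofAdd (pol (S.π q) (S.π r)) = a
      rw [hrv, hv, ← e, ofAdd_toAdd]
  have hk : f.ker = (Q ⊓ Subgroup.centralizer ({q} : Set G)).subgroupOf Q := by
    ext r
    rw [MonoidHom.mem_ker, Subgroup.mem_subgroupOf, Subgroup.mem_inf,
      Subgroup.mem_centralizer_singleton_iff, and_iff_right r.2, eq_comm (a := (r : G) * q),
      S.comm_iff hq r.2]
    exact ofAdd_eq_one
  have hc := Subgroup.card_mul_index f.ker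
  rw [Subgroup.index_ker, MonoidHom.range_eq_top.2 hsurj, Nat.card_congr Subgroup.topEquiv.toEquiv,
    Nat.card_congr Multiplicative.toAdd, Nat.card_zmod, hk,
    Nat.card_congr (Subgroup.subgroupOfEquivOfLe inf_le_left).toEquiv, S.card_Q] at hc
  omega

/-- The image of a subgroup of the core. -/
noncomputable def piImage (A : Subgroup G) (hA : A ≤ Q) : AddSubgroup Vec where
  carrier := {v | ∃ a ∈ A, S.π a = v}
  zero_mem' := ⟨1, one_mem A, S.π_one⟩
  add_mem' := by
    rintro _ _ ⟨a, ha, rfl⟩ ⟨b, hb, rfl⟩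
    exact ⟨a * b, mul_mem ha hb, S.π_mul a (hA ha) b (hA hb)⟩
  neg_mem' := by
    rintro _ ⟨a, ha, rfl⟩
    refine ⟨a, ha, ?_⟩
    funext i
    have key : ∀ x : K4, x = -x := by decide +kernel
    exact key _

theorem card_piImage (A : Subgroup G) (hA : A ≤ Q) (hz : z ∈ A) :
    Nat.card A = 2 * Nat.card (S.piImage A hA) := by
  let f : ↥A →* Multiplicative (S.piImage A hA) := MonoidHom.mk'
    (fun a => Multiplicative.ofAdd ⟨S.π a, a, a.2, rfl⟩)
    fun a b => by
      rw [← ofAdd_add]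
      exact congrArg Multiplicative.ofAdd (Subtype.ext (S.π_mul a (hA a.2) b (hA b.2)))
  have hs : Function.Surjective f := by
    intro v
    obtain ⟨a, ha, e⟩ := (Multiplicative.toAdd v).2
    exact ⟨⟨a, ha⟩, congrArg Multiplicative.ofAdd (Subtype.ext e)⟩
  have hk : Nat.card f.ker = 2 := by
    have hmem : ∀ a : ↥A, a ∈ f.ker ↔ ((a : G) = 1 ∨ (a : G) = z) := fun a => by
      rw [MonoidHom.mem_ker, ← S.π_zero a (hA a.2)]
      exact ofAdd_eq_one.trans Subtype.ext_iff
    rw [Nat.card_eq_two_iff' (⟨1, one_mem _⟩ : f.ker)]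
    refine ⟨⟨⟨z, hz⟩, (hmem _).2 (Or.inr rfl)⟩,
      fun e => S.z_ne (congrArg (fun x : f.ker => ((x : ↥A) : G)) e), ?_⟩
    rintro ⟨a, ha⟩ ha1
    rcases (hmem a).1 ha with e | e
    · exact absurd (Subtype.ext (Subtype.ext e)) ha1
    · exact Subtype.ext (Subtype.ext e)
  rw [← Subgroup.card_mul_index f.ker, hk, Subgroup.index_ker, MonoidHom.range_eq_top.2 hs,
    Nat.card_congr Subgroup.topEquiv.toEquiv, Nat.card_congr Multiplicative.toAdd]

/-- The action as a homomorphism on the centraliser. -/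
noncomputable def rhoHom : ↥(Subgroup.centralizer ({z} : Set G)) →* Equiv.Perm Vec :=
  MonoidHom.mk' (fun c => S.ρ c) fun a b =>
    S.ρ_mul a b (Subgroup.mem_centralizer_singleton_iff.1 a.2)
      (Subgroup.mem_centralizer_singleton_iff.1 b.2)

theorem rhoHom_ker : S.rhoHom.ker = Q.subgroupOf (Subgroup.centralizer ({z} : Set G)) := by
  ext c
  exact S.ρ_ker c (Subgroup.mem_centralizer_singleton_iff.1 c.2)

theorem ρ_inv {c : G} (hc : c * z = z * c) : S.ρ c⁻¹ = (S.ρ c)⁻¹ :=
  map_inv S.rhoHom ⟨c, Subgroup.mem_centralizer_singleton_iff.2 hc⟩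

theorem ρ_one : S.ρ 1 = 1 := map_one S.rhoHom

theorem z_comm_inv {c : G} (hc : c * z = z * c) : c⁻¹ * z = z * c⁻¹ :=
  Subgroup.mem_centralizer_singleton_iff.1
    (inv_mem (Subgroup.mem_centralizer_singleton_iff.2 hc))

theorem z_comm_mul {c d : G} (hc : c * z = z * c) (hd : d * z = z * d) :
    c * d * z = z * (c * d) :=
  Subgroup.mem_centralizer_singleton_iff.1
    (mul_mem (Subgroup.mem_centralizer_singleton_iff.2 hc)
      (Subgroup.mem_centralizer_singleton_iff.2 hd))

theorem two_elts {a b : G} (ha : a * z = z * a) (hb : b * z = z * b) (hA : S.ρ a ∉ Kl)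
    (hB : S.ρ b ∉ Kl) : S.ρ a * S.ρ b ∈ Kl := by
  rw [← S.ρ_mul a b ha hb, S.two a b ha hb]
  exact iff_of_false hA hB

/-- Elements of the same class are conjugate up to the centre, hence conjugate. -/
theorem conj_of_cls {q r : G} (hq : q ∈ Q) (hr : r ∈ Q) (h : cls (S.π q) = cls (S.π r))
    (ha : cls (S.π q) = 2 ∨ cls (S.π q) = 3) :
    ∃ c : G, c * z = z * c ∧ c * q * c⁻¹ = r := by
  obtain ⟨k1, hk1, e1⟩ := transitive ha rfl
  obtain ⟨k2, hk2, e2⟩ := transitive ha h.symm
  obtain ⟨c, hc, ec⟩ := S.ρ_surj _ (mul_mem hk2 (inv_mem hk1))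
  have hπ : S.π (c * q * c⁻¹) = S.π r := by
    rw [S.ρ_π c hc q hq, ec, Equiv.Perm.mul_apply,
      show k1⁻¹ (S.π q) = rootOf (cls (S.π q)) from
        (congrArg (fun x => k1.symm x) e1.symm).trans (k1.symm_apply_apply _), e2]
  have hmem := S.norm c hc q hq
  rcases S.π_eq hr hmem hπ.symm with e | e
  · exact ⟨c, hc, e⟩
  · have h0 : S.π r ≠ 0 := fun e0 => by
      have := ((facts (S.π r)).2.1).2 e0
      rcases ha with ha | ha <;> omega
    obtain ⟨x, hx, hxr⟩ := S.exists_conj_z hr h0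
    have hxz : x * z = z * x := S.le x hx
    refine ⟨x * c, S.z_comm_mul hxz hc, ?_⟩
    calc x * c * q * (x * c)⁻¹ = x * (c * q * c⁻¹) * x⁻¹ := by group
      _ = (x * z) * r * x⁻¹ := by rw [e]; group
      _ = z * (x * r * x⁻¹) := by rw [hxz]; group
      _ = r := by rw [hxr, ← mul_assoc, S.z_sq, one_mul]

end LSetup

end Cfsg.Agent.H41.LFi
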