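import Cfsg.Agent.H41.SUSix.OrbitCheck
import Cfsg.Agent.H41.LFi.Data

/-!
A tree for the first class of isotropic vectors of the model.
-/

set_option autoImplicit false
set_option Elab.async false
set_option maxRecDepth 100000
set_option maxHeartbeats 1000000

namespace Cfsg.Agent.H41.LFi

open Cfsg.Agent.Compute Cfsg.Agent.H41.SUSix

/-- An entry of the tree. -/
noncomputable def tree2C (v : ℕ) : ℕ := getP 24 treeTwo v

/-- The depth in the tree. -/
noncomputable def rank2C (v : ℕ) : ℕ := Nat.mod (tree2C v) 256

/-- The predecessor in the tree. -/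
noncomputable def prev2C (v : ℕ) : ℕ := Nat.mod (Nat.div (tree2C v) 256) 4096

/-- The generator used in the tree. -/
noncomputable def step2C (v : ℕ) : ℕ := Nat.div (tree2C v) 1048576

/-- The check of one entry. -/
noncomputable def entry2OK (v : ℕ) : Bool :=
  Nat.beq v 5 || (Nat.ble (Nat.add (step2C v) 1) 10 &&
    Nat.ble (Nat.add (rank2C (prev2C v)) 1) (rank2C v) &&
    Nat.beq (clsC (prev2C v)) 2 && Nat.beq (mulVecC (nth 0 genTab (step2C v)) (prev2C v)) v)

theorem tree2_ok : allN 4096 (fun v => cond (Nat.beq (clsC v) 2) (entry2OK v) true) = true := by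
  decide +kernel

theorem five_cls : clsC 5 = 2 := by decide +kernel

end Cfsg.Agent.H41.LFi
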