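import Cfsg.Agent.H41.LFi.Semi
import Cfsg.Agent.H41.LFi.TreeCheck

/-!
The model has two orbits on the non-zero isotropic vectors; orders of the two stabilisers.
-/

set_option autoImplicit false
set_option maxRecDepth 20000

namespace Cfsg.Agent.H41.LFi

open Cfsg Cfsg.Agent.Compute Cfsg.Agent.Unitary Cfsg.Agent.H41.SUSix Matrix

theorem reach_two : ∀ v < 4096, clsC v = 2 → ∃ k ∈ Kg, ap k (dV 5) = dV v := by
  suffices h : ∀ (n v : ℕ), rank2C v = n → v < 4096 → clsC v = 2 →
      ∃ k ∈ Kg, ap k (dV 5) = dV v from fun v hv hc => h _ v rfl hv hc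
  intro n
  induction n using Nat.strong_induction_on with
  | _ n ih =>
    intro v hr hv hc
    have h := (allN_iff _ _).1 tree2_ok v hv
    rw [hc] at h
    have h' : entry2OK v = true := h
    rw [entry2OK, Bool.or_eq_true, Bool.and_eq_true, Bool.and_eq_true, Bool.and_eq_true,
      Nat.beq_eq, Nat.ble_eq, Nat.ble_eq, Nat.beq_eq, Nat.beq_eq] at h'
    rcases h' with h' | ⟨⟨⟨hg, hk⟩, hcl⟩, hm⟩
    · subst h'
      exact ⟨1, one_mem _, ap_one _⟩
    · obtain ⟨k, hkK, e⟩ := ih (rank2C (prev2C v)) (hr ▸ hk) (prev2C v) rfl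
        (Nat.mod_lt _ (by norm_num)) hcl
      refine ⟨genG ⟨step2C v, hg⟩ * k, mul_mem (genG_mem _) hkK, ?_⟩
      rw [ap_mul, e, ap_def, mat_genG, ← dV_mulVecC]
      exact congrArg dV hm

/-- The root of a class. -/
noncomputable def rootOf (a : ℕ) : Vec := if a = 2 then dV 5 else dV 85

theorem cls_root {a : ℕ} (ha : a = 2 ∨ a = 3) : cls (rootOf a) = a := by
  rcases ha with rfl | rfl
  · rw [rootOf, if_pos rfl, cls, eV_dV (by norm_num)]
    exact five_cls
  · rw [rootOf, if_neg (by norm_num), cls, eV_dV (by norm_num)]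
    exact root_cls.2

theorem transitive {a : ℕ} (ha : a = 2 ∨ a = 3) {u : Vec} (h : cls u = a) :
    ∃ k ∈ Kl, k (rootOf a) = u := by
  rcases ha with rfl | rfl
  · obtain ⟨k, hk, e⟩ := reach_two _ (eV_lt u) h
    rw [dV_eV] at e
    exact ⟨lin k, Subgroup.mem_map_of_mem _ hk, e⟩
  · obtain ⟨k, hk, e⟩ := reach (root := 85) (by norm_num) (Or.inr ⟨rfl, rfl⟩) _ (eV_lt u) h
    rw [dV_eV] at e
    exact ⟨lin k, Subgroup.mem_map_of_mem _ hk, e⟩

theorem cls_lin {g : ↥SG} (hg : g ∈ Kg) (u : Vec) : cls (ap g u) = cls u := by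
  obtain ⟨f1, f0, f3⟩ := facts (ap g u)
  obtain ⟨g1, g0, g3⟩ := facts u
  have e1 : cls (ap g u) = 1 ↔ cls u = 1 := by rw [f1, g1, herm_ap]
  have e0 : cls (ap g u) = 0 ↔ cls u = 0 := by
    rw [f0, g0]
    exact ⟨fun e => ap_injective g (e.trans (ap_zero g).symm), fun e => by rw [e, ap_zero]⟩
  have e2 : cls (ap g u) = 2 ↔ cls u = 2 := by
    refine ⟨fun e => ?_, special_inv hg u⟩
    have h := special_inv (inv_mem hg) _ e
    rwa [ap_inv_ap] at h
  omega

theorem cls_Kl {k : Equiv.Perm Vec} (hk : k ∈ Kl) (u : Vec) : cls (k u) = cls u := by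
  obtain ⟨g, hg, rfl⟩ := hk
  exact cls_lin hg u

theorem card_class (a : ℕ) : Nat.card {u : Vec | cls u = a} = countC a := by
  rw [countC_eq, ← Nat.card_eq_finsetCard]
  exact Nat.card_congr
    { toFun := fun u => ⟨eV u.1, Finset.mem_filter.2 ⟨Finset.mem_range.2 (eV_lt _), u.2⟩⟩
      invFun := fun v => ⟨dV v.1, by
        have h := Finset.mem_filter.1 v.2
        show cls (dV v.1) = a
        rw [cls, eV_dV (Finset.mem_range.1 h.1)]
        exact h.2⟩
      left_inv := fun u => Subtype.ext (dV_eV _)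
      right_inv := fun v => Subtype.ext
        (eV_dV (Finset.mem_range.1 (Finset.mem_filter.1 v.2).1)) }

theorem orbit_eq {a : ℕ} (ha : a = 2 ∨ a = 3) :
    MulAction.orbit ↥Kl (rootOf a) = {u : Vec | cls u = a} := by
  ext u
  constructor
  · rintro ⟨k, rfl⟩
    show cls ((k : Equiv.Perm Vec) (rootOf a)) = a
    rw [cls_Kl k.2, cls_root ha]
  · intro h
    obtain ⟨k, hk, e⟩ := transitive ha h
    exact ⟨⟨k, hk⟩, e⟩

/-- The stabiliser of a vector in the model. -/
noncomputable def stabK (u : Vec) : Subgroup (Equiv.Perm Vec) :=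
  Kl ⊓ MulAction.stabilizer (Equiv.Perm Vec) u

theorem mem_stabK {u : Vec} {k : Equiv.Perm Vec} : k ∈ stabK u ↔ k ∈ Kl ∧ k u = u := Iff.rfl

theorem card_Kl : Nat.card Kl = 3 * 3265920 := by
  rw [Kl, ← Nat.card_congr (Kg.equivMapOfInjective _ lin_injective).toEquiv, card_Kg]

theorem card_stab_mul {a : ℕ} (ha : a = 2 ∨ a = 3) :
    countC a * Nat.card (stabK (rootOf a)) = 3 * 3265920 := by
  have h1 := Nat.card_congr
    (MulAction.orbitProdStabilizerEquivGroup (↥Kl) (rootOf a))
  rw [Nat.card_prod, card_Kl, orbit_eq ha, card_class] at h1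
  rw [← h1]
  congr 1
  exact Nat.card_congr
    { toFun := fun k => ⟨⟨k.1, k.2.1⟩, k.2.2⟩
      invFun := fun k => ⟨k.1.1, k.1.2, k.2⟩
      left_inv := fun _ => rfl
      right_inv := fun _ => rfl }

theorem card_stab_two : Nat.card (stabK (dV 5)) = 25920 := by
  have h := card_stab_mul (a := 2) (Or.inl rfl)
  rw [count_two, rootOf, if_pos rfl] at h
  omega

theorem card_stab_three : Nat.card (stabK r85) = 5760 := by
  have h := card_stab_mul (a := 3) (Or.inr rfl)
  rw [count_three, rootOf, if_neg (by norm_num)] at h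
  show Nat.card (stabK (dV 85)) = 5760
  omega

/-- A bijection normalising the model preserves the two classes. -/
theorem cls_of_normalizes {a : Equiv.Perm Vec} (ha : ∀ k ∈ Kl, a * k * a⁻¹ ∈ Kl)
    (h0 : a 0 = 0) (hn : ∀ u, cls (a u) = 1 ↔ cls u = 1) (u : Vec) : cls (a u) = cls u := by
  have hz : ∀ u, cls (a u) = 0 ↔ cls u = 0 := fun u => by
    rw [(facts (a u)).2.1, (facts u).2.1]
    exact ⟨fun e => a.injective (e.trans h0.symm), fun e => by rw [e, h0]⟩
  have hr : ∀ u, cls u = 2 → cls (a u) = 2 := by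
    intro u hu
    by_contra hne
    have e3 : cls (a u) = 3 := by
      have := (facts (a u)).2.2
      have := hn u
      have := hz u
      omega
    obtain ⟨k0, hk0, e0⟩ := transitive (Or.inl rfl) hu
    -- the orbit of the root of the first class is carried onto the second class
    have hsub : {v : Vec | cls v = 3} ⊆ a '' {v : Vec | cls v = 2} := by
      intro v hv
      obtain ⟨k1, hk1, e1⟩ := transitive (Or.inr rfl) e3
      obtain ⟨k2, hk2, e2⟩ := transitive (Or.inr rfl) hv
      refine ⟨a⁻¹ v, ?_, a.apply_symm_apply v⟩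
      have hk : a⁻¹ * (k2 * k1⁻¹) * a ∈ Kl := by
        obtain ⟨w, hw⟩ := (Finite.injective_iff_surjective.1
          (show Function.Injective (fun k : ↥Kl => (⟨a * k * a⁻¹, ha k k.2⟩ : ↥Kl)) from
            fun x y e => Subtype.ext (by simpa using congrArg Subtype.val e)))
          ⟨k2 * k1⁻¹, mul_mem hk2 (inv_mem hk1)⟩
        rw [← show a * (w : Equiv.Perm Vec) * a⁻¹ = k2 * k1⁻¹ from congrArg Subtype.val hw]
        simp [mul_assoc, w.2]
      have e : a⁻¹ v = (a⁻¹ * (k2 * k1⁻¹) * a) u := by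
        simp only [Equiv.Perm.mul_apply]
        rw [show k1⁻¹ (a u) = rootOf 3 from by rw [← e1]; exact k1.symm_apply_apply _, e2]
      show cls (a⁻¹ v) = 2
      rw [e, cls_Kl hk, hu]
    have h := (Set.ncard_le_ncard hsub (Set.toFinite _)).trans
      (Set.ncard_image_le (Set.toFinite _))
    rw [← Nat.card_coe_set_eq, ← Nat.card_coe_set_eq, card_class, card_class, count_two,
      count_three] at h
    omega
  have hr2 : cls (a u) = 2 → cls u = 2 := by
    intro e
    have hsurj := Finite.injective_iff_surjective.1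
      (show Function.Injective (fun v : {v : Vec | cls v = 2} =>
        (⟨a v.1, hr v.1 v.2⟩ : {v : Vec | cls v = 2})) from
        fun x y e => Subtype.ext (a.injective (congrArg Subtype.val e))) ⟨a u, e⟩
    obtain ⟨w, hw⟩ := hsurj
    rw [← a.injective (congrArg Subtype.val hw)]
    exact w.2
  have := (facts (a u)).2.2
  have := (facts u).2.2
  have := hn u
  have := hz u
  have := hr u
  omega

end Cfsg.Agent.H41.LFi
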