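import Cfsg.Agent.H41.LFi.Pair

/-!
The stabiliser in the centraliser of a conjugate of the central involution in the core.
-/

set_option autoImplicit false
set_option linter.unusedSectionVars false
set_option linter.style.haveILetI false
set_option maxRecDepth 20000

namespace Cfsg.Agent.H41.LFi

open Cfsg Cfsg.Agent.Compute Cfsg.Agent.Unitary Cfsg.Agent.H41.SUSix Matrix

attribute [local irreducible] mapsC sift invPerm H95.UFourThree.u43Chain

variable {G : Type*} [Group G] [Finite G] {z : G}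

/-- A semilinear map which is not linear is not in the model. -/
theorem semi_true_notMem {a : Equiv.Perm Vec} (h : Semi true a) : a ∉ Kl := by
  intro hK
  have e := (semi_of_mem_Kl hK).smul ω₄ (Pi.single 0 1)
  rw [h.smul] at e
  have hne : a (Pi.single 0 1) ≠ (0 : Vec) := fun h0 => by
    have := a.injective (h0.trans h.map_zero.symm)
    exact absurd this (by decide +kernel)
  obtain ⟨i, hi⟩ := Function.ne_iff.1 hne
  have key : ∀ x : K4, x ≠ 0 → tw true ω₄ * x ≠ tw false ω₄ * x := by decide +kernel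
  exact key _ hi (congrFun e i)

theorem semi_conj_oP {k : Equiv.Perm Vec} (hk : k ∈ Kl) : Semi true (k * oP 0 * k⁻¹ : Equiv.Perm Vec) :=
  ((semi_of_mem_Kl hk).comp (semi_oP 0)).comp (semi_of_mem_Kl (Kl.inv_mem hk))

theorem conj_oP_notMem {k : Equiv.Perm Vec} (hk : k ∈ Kl) : k * oP 0 * k⁻¹ ∉ Kl :=
  semi_true_notMem (semi_conj_oP hk)

namespace LSetup

variable {Q : Subgroup G} (S : LSetup z Q) {g : G}
include S

/-- The shape in the form of membership. -/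
theorem Shape.mem_img {k : Equiv.Perm Vec} (sh : S.Shape g k) {x : Equiv.Perm Vec} :
    x ∈ S.imgE g ↔ k⁻¹ * x * k ∈ Egrp := by
  rw [sh.img, Subgroup.mem_map_equiv, MulAut.conj_symm_apply]

/-- An outer element of the centraliser is inverse to an element of the image up to the model. -/
theorem stab_split {k : Equiv.Perm Vec} (hk : k ∈ Kl) (sh : S.Shape g k) {c : G}
    (hc : c * z = z * c) (hfix : S.ρ c (k r85) = k r85) :
    ∃ n ∈ stabK r85, k⁻¹ * S.ρ c * k = n ∨ k⁻¹ * S.ρ c * k = n * oP 0 := by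
  have hroot : (k⁻¹ * S.ρ c * k) r85 = r85 := by
    rw [Equiv.Perm.mul_apply, Equiv.Perm.mul_apply, hfix]
    exact k.symm_apply_apply r85
  by_cases hK : S.ρ c ∈ Kl
  · exact ⟨_, ⟨Kl.mul_mem (Kl.mul_mem (Kl.inv_mem hk) hK) hk, hroot⟩, Or.inl rfl⟩
  have hmem : k * oP 0 * k⁻¹ ∈ S.imgE g := sh.img ▸
    Subgroup.mem_map_of_mem (MulAut.conj k).toMonoidHom (oP_mem_E (j := 0) (by norm_num))
  obtain ⟨w, hw, ew⟩ := S.mem_imgE.1 hmem
  have hout := conj_oP_notMem hk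
  refine ⟨k⁻¹ * S.ρ c * k * oP 0, ⟨?_, ?_⟩, Or.inr ?_⟩
  · have h2 := S.two_elts hc (sideW_z hw) hK (ew.symm ▸ hout)
    have h3 := Kl.mul_mem (Kl.mul_mem (Kl.inv_mem hk) h2) hk
    rw [ew] at h3
    show k⁻¹ * S.ρ c * k * oP 0 ∈ Kl
    rw [show k⁻¹ * S.ρ c * k * oP 0 = k⁻¹ * (S.ρ c * (k * oP 0 * k⁻¹)) * k by group]
    exact h3
  · show (k⁻¹ * S.ρ c * k * oP 0) r85 = r85
    rw [Equiv.Perm.mul_apply, oP_r85, hroot]
  · rw [mul_assoc (k⁻¹ * S.ρ c * k), oP_mul_oP (by norm_num) (by norm_num),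
      show Nat.xor 0 0 = 0 from rfl, aP_zero, mul_one]

theorem oP_mem_dom : oP 0 ∈ dom6 := ⟨1, moves_oP (by norm_num)⟩

theorem stab_dom {k : Equiv.Perm Vec} (hk : k ∈ Kl) (sh : S.Shape g k) {c : G}
    (hc : c * z = z * c) (hfix : S.ρ c (k r85) = k r85) : k⁻¹ * S.ρ c * k ∈ dom6 := by
  obtain ⟨n, hn, e | e⟩ := S.stab_split hk sh hc hfix <;> rw [e]
  · exact stab_le_dom hn
  · exact dom6.mul_mem (stab_le_dom hn) ⟨1, moves_oP (by norm_num)⟩

theorem stab_psi {k : Equiv.Perm Vec} (hk : k ∈ Kl) (sh : S.Shape g k) {c : G}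
    (hc : c * z = z * c) (hfix : S.ρ c (k r85) = k r85) :
    psi ⟨_, S.stab_dom hk sh hc hfix⟩ ∈ alternatingGroup (Fin 6) ∧
      (psi ⟨_, S.stab_dom hk sh hc hfix⟩ = 1 ↔ S.ρ c ∈ S.imgE g) := by
  obtain ⟨n, hn, e⟩ := S.stab_split hk sh hc hfix
  have h0 : psi (⟨oP 0, ⟨1, moves_oP (by norm_num)⟩⟩ : ↥dom6) = 1 :=
    psi_eq (moves_oP (by norm_num))
  have hval : psi ⟨_, S.stab_dom hk sh hc hfix⟩ = psiS ⟨n, hn⟩ := by
    rcases e with e | e
    · exact congrArg psi (Subtype.ext e)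
    · rw [show (⟨_, S.stab_dom hk sh hc hfix⟩ : ↥dom6) =
        ⟨n, stab_le_dom hn⟩ * ⟨oP 0, ⟨1, moves_oP (by norm_num)⟩⟩ from Subtype.ext e,
        map_mul, h0, mul_one]
      rfl
  refine ⟨hval ▸ psiS_facts.1 ▸ ⟨_, rfl⟩, ?_⟩
  rw [hval, Shape.mem_img S sh]
  constructor
  · intro h1
    have hA : n ∈ Agrp := by
      have : (⟨n, hn⟩ : ↥(stabK r85)) ∈ psiS.ker := h1
      rw [psiS_facts.2] at this
      exact this
    rcases e with e | e <;> rw [e]
    · exact A_le_E hA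
    · exact Egrp.mul_mem (A_le_E hA) (oP_mem_E (by norm_num))
  · intro hE
    have hdom := S.stab_dom hk sh hc hfix
    rw [← hval]
    obtain ⟨j, hj, e' | e'⟩ := hE
    · exact psi_eq (g := ⟨_, hdom⟩) (show Moves (k⁻¹ * S.ρ c * k) 1 from e'.symm ▸ moves_aP hj)
    · exact psi_eq (g := ⟨_, hdom⟩) (show Moves (k⁻¹ * S.ρ c * k) 1 from e'.symm ▸ moves_oP hj)

/-- All outer elements are semilinear. -/
theorem outer_semi (h : H92.PairSetting Q z g) {c : G}
    (hc : c * z = z * c) (hK : S.ρ c ∉ Kl) : Semi true (S.ρ c) := by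
  obtain ⟨k, hk, ek⟩ := transitive (Or.inr rfl) (S.cls_eq_three h)
  have sh := S.shape h hk ek
  have hmem : k * oP 0 * k⁻¹ ∈ S.imgE g := sh.img ▸
    Subgroup.mem_map_of_mem (MulAut.conj k).toMonoidHom (oP_mem_E (j := 0) (by norm_num))
  obtain ⟨w, hw, ew⟩ := S.mem_imgE.1 hmem
  have h2 := S.two_elts hc (sideW_z hw) hK (ew.symm ▸ conj_oP_notMem hk)
  rw [ew] at h2
  have he : S.ρ c = S.ρ c * (k * oP 0 * k⁻¹) * (k * oP 0 * k⁻¹) := by
    rw [mul_assoc (S.ρ c), show k * oP 0 * k⁻¹ * (k * oP 0 * k⁻¹) = k * (oP 0 * oP 0) * k⁻¹ by group,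
      oP_mul_oP (by norm_num) (by norm_num), show Nat.xor 0 0 = 0 from rfl, aP_zero, mul_one,
      mul_inv_cancel, mul_one]
  rw [he]
  exact (semi_of_mem_Kl h2).comp (semi_conj_oP hk)

end LSetup

end Cfsg.Agent.H41.LFi
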