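import Cfsg.Agent.H41.LFi.Semi
import Cfsg.Agent.H41.SUSix.Pull
import Cfsg.Agent.Unitary.Simple

/-!
The model is perfect, its quotient by the scalars is simple, and its normal subgroups of order
three consist of scalars.
-/

set_option autoImplicit false
set_option linter.style.haveILetI false
set_option maxRecDepth 20000

namespace Cfsg.Agent.H41.LFi

open Cfsg Cfsg.Agent.Compute Cfsg.Agent.Unitary Cfsg.Agent.H41.SUSix Matrix
open scoped commutatorElement

attribute [local irreducible] mapsC sift invPerm H95.UFourThree.u43Chain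

theorem isSimple_chain : IsSimpleGroup ↥H95.UFourThree.chainGrp := by
  letI : Fintype (GaloisField 3 2) := Fintype.ofFinite _
  have h9 : Fintype.card (GaloisField 3 2) = 9 := by
    rw [← Nat.card_eq_fintype_card, GaloisField.card 3 2 (by norm_num)]
    norm_num
  obtain ⟨e⟩ := H95.UFourThree.psu_chain (F := GaloisField 3 2) h9
  haveI := isSimpleGroup_PSU (F := GaloisField 3 2) (n := 4) (q := 3) (by rw [h9]; norm_num)
    (by norm_num) (by norm_num)
  haveI : Nontrivial ↥H95.UFourThree.chainGrp := e.toEquiv.symm.nontrivial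
  exact IsSimpleGroup.isSimpleGroup_of_surjective e.toMonoidHom e.surjective

/-- The action of the model on the frames, onto its image. -/
noncomputable def thetaR : ↥Kg →* ↥H95.UFourThree.chainGrp :=
  thetaK.codRestrict _ thetaK_mem

theorem thetaR_surjective : Function.Surjective thetaR := fun σ => by
  obtain ⟨g, hg⟩ : (σ : Equiv.Perm (Fin 112)) ∈ thetaK.range := range_thetaK.symm ▸ σ.2
  exact ⟨g, Subtype.ext hg⟩

theorem thetaR_eq_one (g : ↥Kg) : thetaR g = 1 ↔ IsScalar (g : ↥SG) := by
  rw [← thetaK_eq_one_iff]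
  exact Subtype.ext_iff

theorem scalar_eq_diag {g : ↥SG} (h : IsScalar g) : ∃ c : K4, mat g = mono (fun _ => c) 1 := h

theorem commutator_Kg : _root_.commutator ↥Kg = ⊤ := by
  set D := _root_.commutator ↥Kg with hD
  have hcomm : ∀ n x : ↥Kg, n * x * n⁻¹ * x⁻¹ ∈ D := fun n x => by
    rw [hD, _root_.commutator_def]
    exact Subgroup.commutator_mem_commutator (Subgroup.mem_top n) (Subgroup.mem_top x)
  have ha : ∀ k : Fin 5, (⟨aG k, aG_mem k⟩ : ↥Kg) ∈ D := by
    intro k
    obtain ⟨l, hkl⟩ := exists_ne k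
    obtain ⟨n, hn, e1, -⟩ := rel_elts k l hkl.symm
    have h := hcomm ⟨n, M_le_K hn⟩ ⟨aG k, aG_mem k⟩
    have e : (⟨n, M_le_K hn⟩ : ↥Kg) * ⟨aG k, aG_mem k⟩ * (⟨n, M_le_K hn⟩)⁻¹ *
        (⟨aG k, aG_mem k⟩)⁻¹ = ⟨aG k, aG_mem k⟩ := by
      refine Subtype.ext ?_
      show n * aG k * n⁻¹ * (aG k)⁻¹ = aG k
      rw [e1]
      have h3 : aG k * aG k * aG k = 1 := mat_ext (by
        rw [mat_mul, mat_mul, aG, diagG, mat_monoG, mono_mul, mono_mul, one_mul, one_mul, mat_one,
          ← mono_one]
        congr 1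
        exact funext fun c => dd_cube k c)
      rw [← _root_.mul_inv_rev]
      exact inv_eq_of_mul_eq_one_left (by rw [← mul_assoc]; exact h3)
    rwa [e] at h
  have hker : ∀ g : ↥Kg, IsScalar (g : ↥SG) → g ∈ D := by
    rintro ⟨g, hgK⟩ ⟨c, hc⟩
    change mat g = _ at hc
    have hp : ∏ i, (fun _ : Fin 6 => c) i = 1 := by
      rw [← det_mono (fun _ : Fin 6 => c) 1, ← hc, det_mat]
    have h := diag_decomp ⟨eV (fun _ => c), eV_lt _⟩ (by rw [dV_eV]; exact hp)
    simp only [dV_eV] at h
    have hm : ∀ (k : Fin 5) (n : ℕ), mat (aG k ^ n) = mono (fun i => dd k i ^ n) 1 :=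
      fun k n => mat_pow_diag rfl n
    have e : (⟨g, hgK⟩ : ↥Kg) = ⟨aG 0, aG_mem 0⟩ ^ lg c * ⟨aG 1, aG_mem 1⟩ ^ lg c *
        ⟨aG 2, aG_mem 2⟩ ^ lg c * ⟨aG 3, aG_mem 3⟩ ^ lg c * ⟨aG 4, aG_mem 4⟩ ^ lg c := by
      refine Subtype.ext (mat_ext ?_)
      simp only [Subgroup.coe_mul, SubgroupClass.coe_pow, mat_mul, hm, mono_mul, mul_one, hc,
        Equiv.Perm.one_apply]
      congr 1
      exact funext h
    rw [e]
    exact mul_mem (mul_mem (mul_mem (mul_mem (pow_mem (ha 0) _) (pow_mem (ha 1) _))
      (pow_mem (ha 2) _)) (pow_mem (ha 3) _)) (pow_mem (ha 4) _)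
  haveI := isSimple_chain
  have hle : thetaR.ker ≤ D := fun g hg => hker g ((thetaR_eq_one g).1 hg)
  have hmap : D.map thetaR = _root_.commutator ↥H95.UFourThree.chainGrp := by
    rw [hD, _root_.commutator_def, Subgroup.map_commutator,
      Subgroup.map_top_of_surjective _ thetaR_surjective, ← _root_.commutator_def]
  have htop : _root_.commutator ↥H95.UFourThree.chainGrp = ⊤ := by
    rcases IsSimpleGroup.eq_bot_or_eq_top_of_normal (_root_.commutator ↥H95.UFourThree.chainGrp)
      inferInstance with h | h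
    · exfalso
      letI : CommGroup ↥H95.UFourThree.chainGrp :=
        { (inferInstance : Group ↥H95.UFourThree.chainGrp) with
          mul_comm := fun a b => by
            have hm : ⁅a, b⁆ ∈ _root_.commutator ↥H95.UFourThree.chainGrp := by
              rw [_root_.commutator_def]
              exact Subgroup.commutator_mem_commutator (Subgroup.mem_top a) (Subgroup.mem_top b)
            rw [h, Subgroup.mem_bot] at hm
            exact commutatorElement_eq_one_iff_mul_comm.1 hm }
      have hp := IsSimpleGroup.prime_card (α := ↥H95.UFourThree.chainGrp)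
      rw [H95.UFourThree.card_chainGrp] at hp
      norm_num at hp
    · exact h
  rw [← Subgroup.comap_map_eq_self hle, hmap, htop, Subgroup.comap_top]

theorem commutator_Kl : _root_.commutator ↥Kl = ⊤ := by
  let e : ↥Kg ≃* ↥Kl := Kg.equivMapOfInjective lin lin_injective
  have h := congrArg (Subgroup.map e.toMonoidHom) commutator_Kg
  rw [_root_.commutator_def, Subgroup.map_commutator,
    Subgroup.map_top_of_surjective _ e.surjective, ← _root_.commutator_def] at h
  exact h

/-- The scalar multiples in the model. -/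
theorem exists_smul_mem : ∃ k ∈ Kl, ∀ u, k u = ω₄ • u := by
  obtain ⟨g, hg⟩ := exists_scalar ω₄ (by decide)
  refine ⟨lin g, Subgroup.mem_map_of_mem _ g.2, fun u => ?_⟩
  rw [lin_apply, ap_def, hg, mono_eq_diagonal]
  funext i
  rw [Matrix.mulVec_diagonal, Pi.smul_apply, smul_eq_mul]

/-- A normal subgroup of order three consists of scalars. -/
theorem scalar_of_normal_three {x : Equiv.Perm Vec} (hx : x ∈ Kl) (h3 : x * x * x = 1) (h1 : x ≠ 1)
    (hn : ∀ k ∈ Kl, k * x * k⁻¹ = x ∨ k * x * k⁻¹ = x * x) :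
    (∀ u, x u = ω₄ • u) ∨ ∀ u, x u = (ω₄ * ω₄) • u := by
  obtain ⟨g, hg, rfl⟩ := hx
  haveI := isSimple_chain
  set g' : ↥Kg := ⟨g, hg⟩
  have h3' : g' ^ 3 = 1 := Subtype.ext (lin_injective (by
    rw [OneMemClass.coe_one, map_one, SubgroupClass.coe_pow, map_pow, pow_succ, pow_two]; exact h3))
  have hnor : (Subgroup.zpowers g').Normal := by
    refine ⟨fun a ha k => ?_⟩
    obtain ⟨i, rfl⟩ := Subgroup.mem_zpowers_iff.1 ha
    rw [← conj_zpow]
    refine Subgroup.zpow_mem _ ?_ i
    rcases hn (lin k) (Subgroup.mem_map_of_mem _ k.2) with e | e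
    · rw [show k * g' * k⁻¹ = g' from Subtype.ext (lin_injective (by
        rw [Subgroup.coe_mul, Subgroup.coe_mul, Subgroup.coe_inv, map_mul, map_mul, map_inv]
        exact e))]
      exact Subgroup.mem_zpowers g'
    · rw [show k * g' * k⁻¹ = g' * g' from Subtype.ext (lin_injective (by
        rw [Subgroup.coe_mul, Subgroup.coe_mul, Subgroup.coe_inv, map_mul, map_mul, map_inv,
          Subgroup.coe_mul, map_mul]
        exact e))]
      exact mul_mem (Subgroup.mem_zpowers g') (Subgroup.mem_zpowers g')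
  haveI := hnor.map thetaR thetaR_surjective
  rcases IsSimpleGroup.eq_bot_or_eq_top_of_normal ((Subgroup.zpowers g').map thetaR) inferInstance
    with h | h
  · have hm := Subgroup.mem_map_of_mem thetaR (Subgroup.mem_zpowers g')
    rw [h, Subgroup.mem_bot, thetaR_eq_one] at hm
    obtain ⟨c, hc⟩ := hm
    change mat g = _ at hc
    have hap : ∀ u, lin g u = c • u := fun u => by
      rw [lin_apply, ap_def, hc, mono_eq_diagonal]
      funext i
      rw [Matrix.mulVec_diagonal, Pi.smul_apply, smul_eq_mul]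
    have hcases : ∀ c : K4, c = 0 ∨ c = 1 ∨ c = ω₄ ∨ c = ω₄ * ω₄ := by decide +kernel
    rcases hcases c with rfl | rfl | rfl | rfl
    · have h0 := (lin g).injective ((hap (Pi.single 0 1)).trans ((zero_smul K4 _).trans
        ((hap 0).trans (zero_smul K4 _)).symm))
      exact absurd h0 (by decide +kernel)
    · exact absurd (Equiv.ext fun u => (hap u).trans (one_smul K4 u)) h1
    · exact Or.inl hap
    · exact Or.inr hap
  · exfalso
    have hd := Subgroup.card_map_dvd (H := Subgroup.zpowers g') thetaR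
    rw [h, Nat.card_congr Subgroup.topEquiv.toEquiv, H95.UFourThree.card_chainGrp,
      Nat.card_zpowers] at hd
    have := Nat.le_of_dvd (by norm_num) (hd.trans (orderOf_dvd_of_pow_eq_one h3'))
    norm_num at this

end Cfsg.Agent.H41.LFi
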