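import Cfsg.Agent.H41.SUSix.Orbit
import Cfsg.Agent.H41.LFi.Data

/-!
Coded sums and squares of vectors, and coded evaluation of the tabulated maps.
-/

set_option autoImplicit false

namespace Cfsg.Agent.H41.LFi

open Cfsg Cfsg.Agent.Compute Cfsg.Agent.H41.SUSix Matrix

theorem getP_xor (w a b i : ℕ) :
    getP w (Nat.xor a b) i = Nat.xor (getP w a i) (getP w b i) := by
  show ((a ^^^ b) >>> (w * i)) &&& (2 ^ w - 1) =
    ((a >>> (w * i)) &&& (2 ^ w - 1)) ^^^ ((b >>> (w * i)) &&& (2 ^ w - 1))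
  rw [Nat.shiftRight_xor_distrib, Nat.and_xor_distrib_right]

theorem dV_xor (a b : ℕ) : dV (Nat.xor a b) = dV a + dV b := by
  funext i
  show fe (getP 2 (Nat.xor a b) i) = fe (getP 2 a i) + fe (getP 2 b i)
  rw [getP_xor]
  exact (fe_add _ (getP_lt 2 _ _) _ (getP_lt 2 _ _)).2

theorem xor_lt {a b : ℕ} (ha : a < 4096) (hb : b < 4096) : Nat.xor a b < 4096 :=
  Nat.xor_lt_two_pow (n := 12) ha hb

theorem eV_add (u v : Vec) : eV (u + v) = Nat.xor (eV u) (eV v) := by
  refine dV_inj (eV_lt _) (xor_lt (eV_lt _) (eV_lt _)) ?_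
  rw [dV_eV, dV_xor, dV_eV, dV_eV]

theorem dV_zero : dV 0 = 0 := by
  funext i
  show fe (getP 2 0 i) = 0
  rw [getP_eq]
  simp [fe]
  rfl

/-- The Frobenius map on vectors. -/
def frob (u : Vec) : Vec := fun i => u i ^ 2

/-- Coded Frobenius map. -/
noncomputable def frobC (v : ℕ) : ℕ :=
  packP 2 (fun i => mulC (getP 2 v i) (getP 2 v i)) 6

theorem dV_frobC (v : ℕ) : dV (frobC v) = frob (dV v) := by
  rw [frobC, dV_packP fun i _ => mulC_lt _ _]
  funext i
  show fe (mulC _ _) = fe (getP 2 v i) ^ 2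
  rw [fe_mul _ (getP_lt 2 _ _) _ (getP_lt 2 _ _), sq]

/-- The code of a tabulated matrix. -/
noncomputable def xC (i : ℕ) : ℕ := nth 0 matTab i

/-- Coded action of a tabulated matrix. -/
noncomputable def xApC (i v : ℕ) : ℕ := mulVecC (xC i) v

theorem dV_xApC (i v : ℕ) : dV (xApC i v) = dM (xC i) *ᵥ dV v := dV_mulVecC _ _

/-- Apply a tabulated matrix or not, along a bit of `j`. -/
noncomputable def bitApC (j i v : ℕ) : ℕ := cond (Nat.beq (getP 1 j i) 1) (xApC i v) v

/-- Coded product of the first four matrices along the bits of `j`. -/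
noncomputable def aApC (j v : ℕ) : ℕ := bitApC j 0 (bitApC j 1 (bitApC j 2 (bitApC j 3 v)))

/-- Coded action of the outer element. -/
noncomputable def oC (v : ℕ) : ℕ := mulVecC outMat (frobC v)

theorem dV_oC (v : ℕ) : dV (oC v) = dM outMat *ᵥ frob (dV v) := by
  rw [oC, dV_mulVecC, dV_frobC]

/-- Coded action of the elements of the outer coset. -/
noncomputable def oApC (j v : ℕ) : ℕ := oC (aApC j v)

/-- The index of the `k`-th of the six. -/
noncomputable def sixI (k : ℕ) : ℕ := nth 0 sixTab k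

end Cfsg.Agent.H41.LFi
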