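import Cfsg.Agent.H41.SUSix.Model
import Cfsg.Agent.H41.LFi.Code

/-!
Kernel checks for the tabulated elements fixing the root of the second class of isotropic vectors.
-/

set_option autoImplicit false
set_option Elab.async false
set_option maxRecDepth 100000
set_option maxHeartbeats 4000000

namespace Cfsg.Agent.H41.LFi

open Cfsg Cfsg.Agent.Compute Cfsg.Agent.H95 Cfsg.Agent.H41.SUSix Matrix

theorem x_preserves : ∀ i : Fin 8,
    (dM (xC i)).transpose * (dM (xC i)).map (fun x => x ^ 2) = 1 := by
  decide +kernel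

theorem x_det : ∀ i : Fin 8, (dM (xC i)).det = 1 := by decide +kernel

/-- The coded permutation of the frames induced by a tabulated matrix. -/
noncomputable def xPerm (i : ℕ) : ℕ := (nth (0, 0) permTab i).1

theorem x_maps : allN 8 (fun i => mapsC (xC i) (fun j => getP 7 (xPerm i) j)) = true := by
  decide +kernel

theorem x_perm : allN 8 (fun i => invPerm 7 112 (xPerm i) (nth (0, 0) permTab i).2 &&
    sift (permOps 7 112) UFourThree.u43Chain (xPerm i)) = true := by
  decide +kernel

theorem fix_ok : allN 8 (fun i => Nat.beq (xApC i 85) 85) = true ∧ oC 85 = 85 := by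
  decide +kernel

theorem out_special : allN 4096 (fun v =>
    cond (Nat.beq (clsC v) 2) (Nat.beq (clsC (oC v)) 2) true) = true := by
  decide +kernel

/-- The code of a standard basis vector. -/
noncomputable def bC (k : ℕ) : ℕ := Nat.pow 4 k

theorem out_invol : allN 6 (fun b => Nat.beq (oC (oC (bC b))) (bC b)) = true := by decide +kernel

theorem a_rel : allN 4 (fun i => allN 6 (fun b =>
    Nat.beq (xApC i (xApC i (bC b))) (bC b) &&
    Nat.beq (oC (xApC i (bC b))) (xApC i (oC (bC b))) &&
    allN 4 (fun k => Nat.beq (xApC i (xApC k (bC b))) (xApC k (xApC i (bC b)))))) = true := by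
  decide +kernel

/-- The values at the first basis vector. -/
noncomputable def ylC (j : ℕ) : ℕ := nth 0 ylTab j

theorem yl_ok : allN 16 (fun j => Nat.beq (aApC j 1) (ylC j) &&
    allN 16 (fun i => Nat.beq (aApC i (ylC j)) (ylC (Nat.xor i j)) &&
      (Nat.beq i j || !Nat.beq (ylC i) (ylC j)))) = true := by
  decide +kernel

/-- The value at the first basis vector moved by one of the first four matrices. -/
noncomputable def shC (i y : ℕ) : ℕ := Nat.xor (xApC i y) y

/-- A combination of the images of the basis attached to the value `y`. -/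
noncomputable def lcC (c : List ℕ) (y : ℕ) : ℕ :=
  Nat.xor (scalC (nth 0 c 0) y) (Nat.xor (scalC (nth 0 c 1) (shC 0 y))
    (Nat.xor (scalC (nth 0 c 2) (shC 1 y)) (Nat.xor (scalC (nth 0 c 3) (shC 2 y))
      (Nat.xor (scalC (nth 0 c 4) (shC 3 y)) (scalC (nth 0 c 5) 85)))))

/-- The coefficients of a standard basis vector. -/
noncomputable def coefC (k : ℕ) : List ℕ := nth [] coefTab k

theorem coef_ok : allN 6 (fun k => Nat.beq (lcC (coefC k) 1) (bC k) &&
    allN 6 (fun i => Nat.ble (Nat.add (nth 0 (coefC k) i) 1) 4)) = true := by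
  decide +kernel

theorem test_ok : shC 0 1 = 5 ∧ Nat.xor (scalC 3 1) (shC 0 1) = 6 ∧
    Nat.xor (scalC 3 1) (Nat.xor (shC 0 1) (Nat.xor (shC 1 1) 85)) = 66 ∧
    clsC 5 = 2 ∧ clsC 6 = 2 ∧ clsC 66 = 2 := by
  decide +kernel

/-- The value `c` is in the list of values. -/
noncomputable def inYl (y : ℕ) : Bool := anyN 16 (fun j => Nat.beq (ylC j) y)

/-- The enumeration for the scalar `t` replacing the third scalar. -/
noncomputable def enumC (t y : ℕ) : Bool :=
  inYl y || !Nat.beq (clsC (shC 0 y)) 2 ||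
    !Nat.beq (clsC (Nat.xor (scalC t y) (shC 0 y))) 2 ||
    !Nat.beq (clsC (Nat.xor (scalC t y) (Nat.xor (shC 0 y) (Nat.xor (shC 1 y) 85)))) 2

theorem enum_lin : allN 4096 (enumC 3) = true := by decide +kernel

theorem enum_semi : allN 4096 (enumC 2) = true := by decide +kernel

/-- The index of the image of `i` under conjugation by the `l`-th lift. -/
noncomputable def conjI (l i : ℕ) : ℕ := nth 0 (nth [] conjTab l) i

theorem conj_ok : allN 4 (fun l => allN 4 (fun i => Nat.ble (Nat.add (conjI l i) 1) 16 &&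
    allN 6 (fun b => Nat.beq (xApC (Nat.add 4 l) (xApC i (bC b)))
      (aApC (conjI l i) (xApC (Nat.add 4 l) (bC b)))))) = true := by
  decide +kernel

/-- The image of `k` under the `l`-th three-cycle. -/
noncomputable def cycI (l k : ℕ) : ℕ :=
  cond (Nat.beq k 0) 1 (cond (Nat.beq k 1) (Nat.add l 2) (cond (Nat.beq k (Nat.add l 2)) 0 k))

theorem cyc_ok : ∀ l : Fin 4, ∀ k : Fin 6,
    (cyc ⟨l + 2, by omega⟩ k : ℕ) = cycI l k := by
  decide +kernel

theorem six_ok : allN 4 (fun l => allN 6 (fun k => allN 6 (fun b =>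
    Nat.beq (xApC (Nat.add 4 l) (oApC (sixI k) (bC b)))
      (oApC (sixI (cycI l k)) (xApC (Nat.add 4 l) (bC b)))))) = true := by
  decide +kernel

theorem six_span : allN 6 (fun k => Nat.ble (Nat.add (sixI k) 1) 16) = true ∧
    ∀ i : Fin 4, ∃ a b c d : Fin 6,
      Nat.xor (Nat.xor (sixI a) (sixI b)) (Nat.xor (sixI c) (sixI d)) = 2 ^ i.1 := by
  decide +kernel

/-- The elements of the distinguished subgroup of the orthogonal of the root. -/
noncomputable def dC (m : ℕ) : ℕ := nth 0 dList m

/-- The generators of this subgroup. -/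
noncomputable def dgC (k : ℕ) : ℕ := (nth (0, 0, 0) dGenTab k).2.2

/-- The vector giving a generator. -/
noncomputable def dvC (k : ℕ) : ℕ := (nth (0, 0, 0) dGenTab k).2.1

/-- The element of the outer coset giving a generator. -/
noncomputable def djC (k : ℕ) : ℕ := (nth (0, 0, 0) dGenTab k).1

/-- The sum of the first four coordinates. -/
noncomputable def dot85 (v : ℕ) : ℕ :=
  addC (addC (getP 2 v 0) (getP 2 v 1)) (addC (getP 2 v 2) (getP 2 v 3))

theorem dgen_ok : allN 6 (fun k => Nat.ble (Nat.add (djC k) 1) 16 &&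
    Nat.ble (Nat.add (dvC k) 1) 4096 && Nat.ble (dot85 (dvC k)) 1 &&
    Nat.beq (Nat.xor (oApC (djC k) (dvC k)) (dvC k)) (dgC k)) = true := by
  decide +kernel

theorem dlist_ok : dC 0 = 0 ∧
    allN 6 (fun k => allN (Nat.pow 2 k) (fun m =>
      Nat.beq (dC (Nat.add m (Nat.pow 2 k))) (Nat.xor (dC m) (dgC k)))) = true ∧
    allN 64 (fun m => Nat.ble (Nat.add (dC m) 1) 4096 &&
      allN 64 (fun n => Nat.beq m n || !Nat.beq (dC m) (dC n))) = true := by
  decide +kernel

theorem d_inter : allN 64 (fun m => cond (anyN 64 (fun n => Nat.beq (scalC 2 (dC m)) (dC n)))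
    (anyN 4 (fun c => Nat.beq (dC m) (scalC c 85))) true) = true := by
  decide +kernel

/-- The parity of the common bits. -/
noncomputable def parC (c m : ℕ) : ℕ :=
  Nat.rec 0 (fun i acc => Nat.xor acc (Nat.mul (getP 1 c i) (getP 1 m i))) 6

theorem d_moving : allN 64 (fun c => Nat.beq c 0 ||
    anyN 64 (fun m => Nat.beq (dC m) 85 && Nat.beq (parC c m) 1) ||
    anyN 4 (fun l => anyN 64 (fun m => Nat.beq (parC c m) 0 &&
      anyN 64 (fun n => Nat.beq (parC c n) 1 && Nat.beq (xApC (Nat.add 4 l) (dC m)) (dC n))))) = true := by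
  decide +kernel

end Cfsg.Agent.H41.LFi
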