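import Cfsg.Agent.H41.SUSix.Elts
import Mathlib.GroupTheory.Perm.Cycle.Type

/-!
A space of exponent two with a non-degenerate quadratic form and an isometry of order three
without fixed vectors is a unitary space over the field with four elements; an isometry of order
seven commuting with the isometry of order three needs dimension at least six.
-/

set_option autoImplicit false
set_option linter.unusedSectionVars false

namespace Cfsg.Agent.H41.LFi

open Cfsg Cfsg.Agent.H41.SUSix

variable {V : Type*} [AddCommGroup V] [Finite V]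

/-- A quadratic form and an isometry of order three. -/
structure Rot (q : V → ZMod 2) (B : V →+ V →+ ZMod 2) (f : V →+ V) : Prop where
  two : ∀ v : V, v + v = 0
  add : ∀ v w, q (v + w) = q v + q w + B v w
  cube : ∀ v, f (f (f v)) = v
  iso : ∀ v, q (f v) = q v

/-- A non-degenerate invariant subgroup on which the rotation fixes nothing. -/
structure IsGood (B : V →+ V →+ ZMod 2) (f : V →+ V) (W : AddSubgroup V) : Prop where
  stable : ∀ w ∈ W, f w ∈ W
  free : ∀ w ∈ W, w + f w + f (f w) = 0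
  nondeg : ∀ w ∈ W, (∀ v ∈ W, B v w = 0) → w = 0

/-- A multiple by an element of the prime field. -/
def sm (a : ZMod 2) (v : V) : V := if a = 0 then 0 else v

theorem sm_add (h2 : ∀ v : V, v + v = 0) (a b : ZMod 2) (v : V) :
    sm (a + b) v = sm a v + sm b v := by
  have : ∀ a b : ZMod 2, (a = 0 ∧ b = 0) ∨ (a = 0 ∧ b = 1) ∨ (a = 1 ∧ b = 0) ∨ (a = 1 ∧ b = 1) := by
    decide
  rcases this a b with ⟨rfl, rfl⟩ | ⟨rfl, rfl⟩ | ⟨rfl, rfl⟩ | ⟨rfl, rfl⟩ <;>
    simp [sm, h2, show (1 : ZMod 2) + 1 = 0 from rfl]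

theorem map_sm {W : Type*} [AddCommGroup W] (g : V →+ W) (a : ZMod 2) (v : V) :
    g (sm a v) = sm a (g v) := by
  unfold sm
  split_ifs
  · exact map_zero g
  · rfl

theorem sm_mem {W : AddSubgroup V} (a : ZMod 2) {v : V} (hv : v ∈ W) : sm a v ∈ W := by
  unfold sm
  split_ifs
  · exact zero_mem W
  · exact hv

theorem zmod_two_cases : ∀ a : ZMod 2, a = 0 ∨ a = 1 := by decide

theorem zmod_add_self : ∀ a : ZMod 2, a + a = 0 := by decide

variable {q : V → ZMod 2} {B : V →+ V →+ ZMod 2} {f : V →+ V}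

namespace Rot

variable (R : Rot q B f)
include R

theorem q_zero : q 0 = 0 := by
  have h := R.add 0 0
  rw [add_zero, map_zero, add_zero] at h
  exact (left_eq_add.1 h)

theorem self_zero (v : V) : B v v = 0 := by
  have h := R.add v v
  rw [R.two, R.q_zero, zmod_add_self, zero_add] at h
  exact h.symm

theorem symm (v w : V) : B v w = B w v := by
  have h := R.add v w
  rw [add_comm v w, R.add w v, add_comm (q w)] at h
  exact (add_left_cancel h).symm

theorem inv (v w : V) : B (f v) (f w) = B v w := by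
  have h := R.add (f v) (f w)
  rw [← map_add, R.iso, R.iso, R.iso, R.add] at h
  exact (add_left_cancel h).symm

theorem neg_eq (v : V) : -v = v := neg_eq_of_add_eq_zero_left (R.two v)

end Rot

/-- The fixed vectors. -/
def fixF (f : V →+ V) : AddSubgroup V where
  carrier := {v | f v = v}
  zero_mem' := map_zero f
  add_mem' {u v} hu hv := by
    show f (u + v) = u + v
    rw [map_add, (hu : f u = u), (hv : f v = v)]
  neg_mem' {u} hu := by
    show f (-u) = -u
    rw [map_neg, (hu : f u = u)]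

/-- The vectors without fixed part. -/
def moveF (f : V →+ V) : AddSubgroup V where
  carrier := {v | v + f v + f (f v) = 0}
  zero_mem' := by simp
  add_mem' {u v} hu hv := by
    show u + v + f (u + v) + f (f (u + v)) = 0
    have hu' : u + f u + f (f u) = 0 := hu
    have hv' : v + f v + f (f v) = 0 := hv
    rw [map_add, map_add]
    calc u + v + (f u + f v) + (f (f u) + f (f v)) =
        (u + f u + f (f u)) + (v + f v + f (f v)) := by abel
      _ = 0 := by rw [hu', hv', add_zero]
  neg_mem' {u} hu := by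
    show -u + f (-u) + f (f (-u)) = 0
    rw [map_neg, map_neg, ← neg_add, ← neg_add, (hu : u + f u + f (f u) = 0), neg_zero]

theorem Rot.split (R : Rot q B f) (v : V) : ∃ t ∈ fixF f, v + t ∈ moveF f := by
  have ht : f (v + f v + f (f v)) = v + f v + f (f v) := by
    rw [map_add, map_add, R.cube]; abel
  refine ⟨_, ht, ?_⟩
  show v + (v + f v + f (f v)) + f (v + (v + f v + f (f v))) +
    f (f (v + (v + f v + f (f v)))) = 0
  rw [map_add f v, ht, map_add, ht]
  calc v + (v + f v + f (f v)) + (f v + (v + f v + f (f v))) +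
      (f (f v) + (v + f v + f (f v))) =
      ((v + f v + f (f v)) + (v + f v + f (f v))) + ((v + f v + f (f v)) + (v + f v + f (f v))) := by
        abel
    _ = 0 := by simp only [R.two]

theorem Rot.perp_parts (R : Rot q B f) {t w : V} (ht : t ∈ fixF f) (hw : w ∈ moveF f) :
    B t w = 0 := by
  have e1 : B t (f w) = B t w := by
    conv_lhs => rw [← (ht : f t = t)]
    exact R.inv t w
  have e2 : B t (f (f w)) = B t w := by
    conv_lhs => rw [← (ht : f t = t)]
    rw [R.inv, e1]
  have h : B t (w + f w + f (f w)) = 0 := by rw [(hw : w + f w + f (f w) = 0), map_zero]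
  rw [map_add, map_add, e1, e2, zmod_add_self, zero_add] at h
  exact h

theorem Rot.good_move (R : Rot q B f) (hnd : ∀ w, (∀ v, B v w = 0) → w = 0) :
    IsGood B f (moveF f) := by
  refine ⟨fun w hw => ?_, fun w hw => hw, fun w hw h => hnd w fun v => ?_⟩
  · show f w + f (f w) + f (f (f w)) = 0
    rw [R.cube, add_comm, ← add_assoc]
    exact hw
  · obtain ⟨t, ht, hvt⟩ := R.split v
    have e : v = (v + t) + t := by rw [add_assoc, R.two, add_zero]
    rw [e, map_add, AddMonoidHom.add_apply, h _ hvt, R.perp_parts ht hw, add_zero]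

/-- The first coordinate with respect to the basis `1, ω`. -/
def cre : K4 → ZMod 2
  | .o => 0 | .e => 1 | .w => 0 | .v => 1

/-- The second coordinate with respect to the basis `1, ω`. -/
def cim : K4 → ZMod 2
  | .o => 0 | .e => 0 | .w => 1 | .v => 1

/-- The element with given coordinates. -/
def cmk : ZMod 2 → ZMod 2 → K4 := fun a b =>
  (if a = 0 then 0 else 1) + (if b = 0 then 0 else ω₄)

theorem cre_add : ∀ c c', cre (c + c') = cre c + cre c' ∧ cim (c + c') = cim c + cim c' := by
  decide +kernel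

theorem cre_mk : ∀ a b, cre (cmk a b) = a ∧ cim (cmk a b) = b := by decide +kernel

theorem coord_zero : ∀ c, cre c = 0 → cim c = 0 → c = 0 := by decide +kernel

theorem cre_omega : ∀ c, cre (ω₄ * c) = cim c ∧ cim (ω₄ * c) = cre c + cim c := by decide +kernel

theorem coord_cases : ∀ c : K4, (c = 0 ∧ cre c = 0 ∧ cim c = 0) ∨
    (c ≠ 0 ∧ cre c = 1 ∧ cim c = 0) ∨ (c ≠ 0 ∧ cre c = 0 ∧ cim c = 1) ∨
    (c ≠ 0 ∧ cre c = 1 ∧ cim c = 1) := by decide +kernel

/-- The line of a vector of norm one. -/
def lineMap (f : V →+ V) (v : V) (c : K4) : V := sm (cre c) v + sm (cim c) (f v)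

/-- The parity of the support. -/
def wt {k : ℕ} (u : Fin k → K4) : ZMod 2 := ∑ i, if u i = 0 then 0 else 1

theorem Rot.exists_one (R : Rot q B f) {W : AddSubgroup V} (hW : IsGood B f W) (h0 : W ≠ ⊥) :
    ∃ v ∈ W, q v = 1 := by
  by_contra hcon
  push Not at hcon
  have hq : ∀ v ∈ W, q v = 0 := fun v hv => (zmod_two_cases _).resolve_right (hcon v hv)
  refine h0 ((AddSubgroup.eq_bot_iff_forall _).2 fun w hw => hW.nondeg w hw fun v hv => ?_)
  have h := R.add v w
  rw [hq v hv, hq w hw, hq _ (add_mem hv hw), add_zero, zero_add] at h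
  exact h.symm

theorem Rot.pair_one (R : Rot q B f) {v : V} (hf : v + f v + f (f v) = 0) (hv : q v = 1) :
    B v (f v) = 1 := by
  have e : v + f v = f (f v) := by
    rw [← sub_eq_zero, sub_eq_add_neg, R.neg_eq]
    exact hf
  have h := R.add v (f v)
  rw [e, R.iso, R.iso, hv] at h
  have key : ∀ a : ZMod 2, 1 = 1 + 1 + a → a = 1 := by decide
  exact key _ h

/-- The vectors of a good subgroup orthogonal to a line. -/
def rest (B : V →+ V →+ ZMod 2) (f : V →+ V) (W : AddSubgroup V) (v : V) : AddSubgroup V :=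
  W ⊓ (B.flip v).ker ⊓ (B.flip (f v)).ker

theorem mem_rest {W : AddSubgroup V} {v w : V} :
    w ∈ rest B f W v ↔ w ∈ W ∧ B w v = 0 ∧ B w (f v) = 0 := by
  simp [rest, AddSubgroup.mem_inf, and_assoc]

theorem Rot.rest_split (R : Rot q B f) {W : AddSubgroup V} (hW : IsGood B f W) {v : V}
    (hvW : v ∈ W) (hv : q v = 1) {w : V} (hw : w ∈ W) :
    w + sm (B w (f v)) v + sm (B w v) (f v) ∈ rest B f W v := by
  have h1 := R.pair_one (hW.free v hvW) hv
  refine mem_rest.2 ⟨add_mem (add_mem hw (sm_mem _ hvW)) (sm_mem _ (hW.stable v hvW)), ?_, ?_⟩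
  · show B.flip v _ = 0
    rw [map_add, map_add, map_sm, map_sm]
    show B w v + sm _ (B v v) + sm _ (B (f v) v) = 0
    rw [R.self_zero, R.symm (f v) v, h1]
    have key : ∀ a b : ZMod 2, a + sm b (0 : ZMod 2) + sm a 1 = 0 := by decide
    exact key _ _
  · show B.flip (f v) _ = 0
    rw [map_add, map_add, map_sm, map_sm]
    show B w (f v) + sm _ (B v (f v)) + sm _ (B (f v) (f v)) = 0
    rw [R.self_zero, h1]
    have key : ∀ a b : ZMod 2, a + sm a (1 : ZMod 2) + sm b 0 = 0 := by decide
    exact key _ _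

theorem Rot.rest_good (R : Rot q B f) {W : AddSubgroup V} (hW : IsGood B f W) {v : V}
    (hvW : v ∈ W) (hv : q v = 1) : IsGood B f (rest B f W v) := by
  have hf := hW.free v hvW
  refine ⟨fun w hw => ?_, fun w hw => hW.free w (mem_rest.1 hw).1, fun w hw h => ?_⟩
  · obtain ⟨hwW, w1, w2⟩ := mem_rest.1 hw
    refine mem_rest.2 ⟨hW.stable w hwW, ?_, ?_⟩
    · have e : f (v + f v) = f (f (f v)) := by
        congr 1
        rw [← sub_eq_zero, sub_eq_add_neg, R.neg_eq]
        exact hf
      rw [← R.cube v, ← e, R.inv, map_add, w1, w2, add_zero]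
    · rw [R.inv, w1]
  · obtain ⟨hwW, w1, w2⟩ := mem_rest.1 hw
    refine hW.nondeg w hwW fun u hu => ?_
    have h' := h _ (R.rest_split hW hvW hv hu)
    rw [map_add, map_add, AddMonoidHom.add_apply, AddMonoidHom.add_apply, R.symm (sm _ v) w,
      R.symm (sm _ (f v)) w, map_sm, map_sm, w1, w2] at h'
    simpa [sm] using h'

theorem Rot.rest_card_lt (R : Rot q B f) {W : AddSubgroup V} (hW : IsGood B f W) {v : V}
    (hvW : v ∈ W) (hv : q v = 1) : Nat.card (rest B f W v) < Nat.card W := by
  by_contra hcon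
  push Not at hcon
  have hle : rest B f W v ≤ W := fun w hw => (mem_rest.1 hw).1
  have e := AddSubgroup.eq_of_le_of_card_ge hle hcon
  have h := (mem_rest.1 (e.symm ▸ hvW : v ∈ rest B f W v)).2.2
  rw [R.pair_one (hW.free v hvW) hv] at h
  exact one_ne_zero h

/-- Coordinates on a good subgroup. -/
structure Frame (q : V → ZMod 2) (f : V →+ V) (W : AddSubgroup V) (k : ℕ)
    (Φ : (Fin k → K4) → V) : Prop where
  add : ∀ u u', Φ (u + u') = Φ u + Φ u'
  inj : Function.Injective Φ
  range : ∀ w, w ∈ W ↔ ∃ u, Φ u = w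
  omega : ∀ u, Φ (ω₄ • u) = f (Φ u)
  norm : ∀ u, q (Φ u) = wt u

theorem Rot.exists_frame (R : Rot q B f) : ∀ (n : ℕ) (W : AddSubgroup V), Nat.card W ≤ n →
    IsGood B f W → ∃ (k : ℕ) (Φ : (Fin k → K4) → V), Frame q f W k Φ := by
  intro n
  induction n with
  | zero => exact fun W h _ => absurd h (Nat.not_le.2 Nat.card_pos)
  | succ n ih =>
    intro W hcard hW
    by_cases h0 : W = ⊥
    · refine ⟨0, fun _ => 0, ⟨fun _ _ => (add_zero 0).symm, fun a b _ => Subsingleton.elim _ _,
        fun w => ?_, fun _ => (map_zero f).symm, fun _ => by rw [R.q_zero]; rfl⟩⟩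
      rw [h0, AddSubgroup.mem_bot]
      exact ⟨fun h => ⟨0, h.symm⟩, fun ⟨_, h⟩ => h.symm⟩
    obtain ⟨v, hvW, hv⟩ := R.exists_one hW h0
    obtain ⟨k, Φ, F⟩ := ih (rest B f W v) (by
      have := R.rest_card_lt hW hvW hv
      omega) (R.rest_good hW hvW hv)
    have hf := hW.free v hvW
    have h1 := R.pair_one hf hv
    have hperp : ∀ c u, B (lineMap f v c) (Φ u) = 0 := by
      intro c u
      obtain ⟨-, w1, w2⟩ := mem_rest.1 ((F.range _).2 ⟨u, rfl⟩)
      rw [R.symm, lineMap, map_add, map_sm, map_sm, w1, w2]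
      have key : ∀ a b : ZMod 2, sm a (0 : ZMod 2) + sm b 0 = 0 := by decide
      exact key _ _
    have hline : ∀ c c', lineMap f v (c + c') = lineMap f v c + lineMap f v c' := by
      intro c c'
      rw [lineMap, lineMap, lineMap, (cre_add c c').1, (cre_add c c').2,
        sm_add R.two, sm_add R.two]
      abel
    have hlmem : ∀ c, lineMap f v c ∈ W := fun c =>
      add_mem (sm_mem _ hvW) (sm_mem _ (hW.stable v hvW))
    have hrW : ∀ u, Φ u ∈ W := fun u => (mem_rest.1 ((F.range _).2 ⟨u, rfl⟩)).1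
    let Ψ : (Fin (k + 1) → K4) → V := fun u => lineMap f v (u 0) + Φ (Fin.tail u)
    have hadd : ∀ u u', Ψ (u + u') = Ψ u + Ψ u' := by
      intro u u'
      show lineMap f v (u 0 + u' 0) + Φ (Fin.tail (u + u')) = _
      rw [hline, show Fin.tail (u + u') = Fin.tail u + Fin.tail u' from rfl, F.add]
      show _ = lineMap f v (u 0) + Φ (Fin.tail u) + (lineMap f v (u' 0) + Φ (Fin.tail u'))
      abel
    have hΦ0 : Φ 0 = 0 := by
      have := F.add 0 0
      rw [add_zero] at this
      exact left_eq_add.1 this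
    have hrest0 : ∀ c u, lineMap f v c + Φ u = 0 → c = 0 ∧ u = 0 := by
      intro c u h
      have e : lineMap f v c = Φ u := by
        rw [← sub_eq_zero, sub_eq_add_neg, R.neg_eq]; exact h
      obtain ⟨-, w1, w2⟩ := mem_rest.1 (e.symm ▸ (F.range _).2 ⟨u, rfl⟩ :
        lineMap f v c ∈ rest B f W v)
      have x1 : B.flip v (lineMap f v c) = 0 := w1
      have x2 : B.flip (f v) (lineMap f v c) = 0 := w2
      rw [lineMap, map_add, map_sm, map_sm] at x1 x2
      change sm (cre c) (B v v) + sm (cim c) (B (f v) v) = 0 at x1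
      change sm (cre c) (B v (f v)) + sm (cim c) (B (f v) (f v)) = 0 at x2
      rw [R.self_zero, R.symm (f v) v, h1] at x1
      rw [R.self_zero, h1] at x2
      have key : ∀ a b : ZMod 2, sm a (0 : ZMod 2) + sm b 1 = 0 → b = 0 := by decide
      have key' : ∀ a b : ZMod 2, sm a (1 : ZMod 2) + sm b 0 = 0 → a = 0 := by decide
      have hc : c = 0 := coord_zero c (key' _ _ x2) (key _ _ x1)
      refine ⟨hc, F.inj ?_⟩
      rw [← e, hΦ0, hc]
      simp [lineMap, sm, cre, cim]
    refine ⟨k + 1, Ψ, ⟨hadd, fun u u' h => ?_, fun w => ⟨fun hw => ?_, ?_⟩, fun u => ?_,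
      fun u => ?_⟩⟩
    · have h' : Ψ (u + u') = 0 := by rw [hadd, h, R.two]
      obtain ⟨a, b⟩ := hrest0 _ _ h'
      have key : ∀ a b : K4, a + b = 0 → a = b := by decide +kernel
      funext i
      refine Fin.cases ?_ (fun j => ?_) i
      · exact key _ _ a
      · exact key _ _ (congrFun b j)
    · obtain ⟨u, hu⟩ := (F.range _).1 (R.rest_split hW hvW hv hw)
      refine ⟨Fin.cons (cmk (B w (f v)) (B w v)) u, ?_⟩
      show lineMap f v _ + Φ _ = w
      rw [Fin.cons_zero, Fin.tail_cons, hu, lineMap, (cre_mk _ _).1, (cre_mk _ _).2]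
      show sm (B w (f v)) v + sm (B w v) (f v) + (w + sm (B w (f v)) v + sm (B w v) (f v)) = w
      calc _ = w + (sm (B w (f v)) v + sm (B w (f v)) v) +
            (sm (B w v) (f v) + sm (B w v) (f v)) := by abel
        _ = w := by rw [R.two, R.two, add_zero, add_zero]
    · rintro ⟨u, rfl⟩
      exact add_mem (hlmem _) (hrW _)
    · show lineMap f v ((ω₄ • u) 0) + Φ (Fin.tail (ω₄ • u)) = f (lineMap f v (u 0) + Φ (Fin.tail u))
      rw [show Fin.tail (ω₄ • u) = ω₄ • Fin.tail u from rfl, F.omega, map_add]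
      congr 1
      have e : f (f v) = v + f v := by
        rw [← sub_eq_zero, sub_eq_add_neg, R.neg_eq, add_comm]; exact hf
      rw [Pi.smul_apply, smul_eq_mul, lineMap, lineMap, (cre_omega _).1, (cre_omega _).2, map_add, map_sm,
        map_sm, e, sm_add R.two]
      unfold sm
      split_ifs <;> abel
    · show q (lineMap f v (u 0) + Φ (Fin.tail u)) = wt u
      rw [R.add, hperp, add_zero, F.norm, wt, wt, Fin.sum_univ_succ]
      congr 1
      have e2 : v + f v = f (f v) := by
        rw [← sub_eq_zero, sub_eq_add_neg, R.neg_eq]; exact hf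
      rcases coord_cases (u 0) with ⟨e, a, b⟩ | ⟨e, a, b⟩ | ⟨e, a, b⟩ | ⟨e, a, b⟩ <;>
        rw [lineMap, a, b] <;> simp [sm, e, e2, R.iso, hv, R.q_zero]

theorem Frame.card {W : AddSubgroup V} {k : ℕ} {Φ : (Fin k → K4) → V} (F : Frame q f W k Φ) :
    Nat.card W = 4 ^ k := by
  have e : (Fin k → K4) ≃ W := Equiv.ofBijective (fun u => ⟨Φ u, (F.range _).2 ⟨u, rfl⟩⟩)
    ⟨fun a b h => F.inj (congrArg Subtype.val h), fun w => by
      obtain ⟨u, hu⟩ := (F.range _).1 w.2
      exact ⟨u, Subtype.ext hu⟩⟩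
  rw [← Nat.card_congr e, Nat.card_fun, Nat.card_fin]
  have : Nat.card K4 = 4 := by rw [Nat.card_eq_fintype_card]; decide +kernel
  rw [this]

theorem wt_count : ∀ k : Fin 6, (k : ℕ) ≠ 0 →
    ¬ 7 ∣ Fintype.card {u : Fin k → K4 // wt u = 1} := by
  decide +kernel

/-- An isometry of order seven is trivial on good subgroups of small dimension. -/
theorem Rot.seven_trivial (R : Rot q B f) (g : Equiv.Perm V)
    (hadd : ∀ u v, g (u + v) = g u + g v) (hgq : ∀ v, q (g v) = q v)
    (hgf : ∀ v, g (f v) = f (g v)) (h7 : g ^ 7 = 1) :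
    ∀ (n : ℕ) (W : AddSubgroup V), Nat.card W ≤ n → Nat.card W < 2 ^ 12 → IsGood B f W →
      (∀ w ∈ W, g w ∈ W) → ∀ w ∈ W, g w = w := by
  classical
  intro n
  induction n with
  | zero => exact fun W h _ _ _ => absurd h (Nat.not_le.2 Nat.card_pos)
  | succ n ih =>
    intro W hcard hsmall hW hg w hw
    have hg0 : g 0 = 0 := (AddMonoidHom.mk' g hadd).map_zero
    by_cases h0 : W = ⊥
    · rw [h0, AddSubgroup.mem_bot] at hw
      rw [hw, hg0]
    obtain ⟨k, Φ, F⟩ := R.exists_frame _ W le_rfl hW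
    have hk : k < 6 := by
      rw [F.card] at hsmall
      by_contra hcon
      have := Nat.pow_le_pow_right (show 0 < 4 by norm_num) (not_lt.1 hcon)
      norm_num at this hsmall
      omega
    have hk0 : k ≠ 0 := by
      rintro rfl
      exact h0 (AddSubgroup.eq_bot_of_card_eq W (by rw [F.card]; rfl))
    set S := {v : V // v ∈ W ∧ q v = 1}
    let e : {u : Fin k → K4 // wt u = 1} ≃ S := Equiv.ofBijective
      (fun u => ⟨Φ u.1, (F.range _).2 ⟨_, rfl⟩, (F.norm _).trans u.2⟩)
      ⟨fun a b h => Subtype.ext (F.inj (congrArg Subtype.val h)), fun v => by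
        obtain ⟨u, hu⟩ := (F.range _).1 v.2.1
        exact ⟨⟨u, by rw [← F.norm, hu]; exact v.2.2⟩, Subtype.ext hu⟩⟩
    haveI : Fintype S := Fintype.ofEquiv _ e
    have hS : ¬ 7 ∣ Fintype.card S := by
      rw [← Fintype.card_congr e]
      exact wt_count ⟨k, hk⟩ hk0
    let σ : Equiv.Perm S := Equiv.ofBijective (fun v => ⟨g v.1, hg _ v.2.1, by rw [hgq]; exact v.2.2⟩)
      (Finite.injective_iff_bijective.1 fun a b h =>
        Subtype.ext (g.injective (congrArg Subtype.val h)))
    have hσ : ∀ (m : ℕ) (v : S), ((σ ^ m) v).1 = (g ^ m) v.1 := by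
      intro m
      induction m with
      | zero => intro v; rfl
      | succ m ihm =>
        intro v
        rw [pow_succ', pow_succ', Equiv.Perm.mul_apply, Equiv.Perm.mul_apply]
        show g ((σ ^ m) v).1 = _
        rw [ihm]
    haveI : Fact (Nat.Prime 7) := ⟨by norm_num⟩
    obtain ⟨⟨v, hvW, hv⟩, hfix⟩ := Equiv.Perm.exists_fixed_point_of_prime (p := 7) (n := 1) hS
      (σ := σ) (Equiv.ext fun v => Subtype.ext (by rw [pow_one, hσ, h7]; rfl))
    have hgv : g v = v := congrArg Subtype.val hfix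
    have hgfv : g (f v) = f v := by rw [hgf, hgv]
    have hB : ∀ a b, B (g a) (g b) = B a b := fun a b => by
      have h := R.add (g a) (g b)
      rw [← hadd, hgq, hgq, hgq, R.add] at h
      exact (add_left_cancel h).symm
    have hstab : ∀ u ∈ rest B f W v, g u ∈ rest B f W v := by
      intro u hu
      obtain ⟨a, b, c⟩ := mem_rest.1 hu
      refine mem_rest.2 ⟨hg u a, ?_, ?_⟩
      · rw [← hgv, hB, b]
      · rw [← hgfv, hB, c]
    have hlt := R.rest_card_lt hW hvW hv
    have hfixrest := ih _ (by omega) (by omega) (R.rest_good hW hvW hv) hstab _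
      (R.rest_split hW hvW hv hw)
    let G : V →+ V := AddMonoidHom.mk' g hadd
    have e1 : G (sm (B w (f v)) v) = sm (B w (f v)) v := by rw [map_sm]; exact congrArg _ hgv
    have e2 : G (sm (B w v) (f v)) = sm (B w v) (f v) := by rw [map_sm]; exact congrArg _ hgfv
    change G _ = _ at hfixrest
    rw [map_add, map_add, e1, e2] at hfixrest
    exact add_right_cancel (add_right_cancel hfixrest)

end Cfsg.Agent.H41.LFi
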