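import Cfsg.Agent.H41.LFi.Check

/-!
Semilinear maps on the six-dimensional space: the maps fixing the root of the second class of
isotropic vectors, preserving the first class and commuting with four tabulated involutions.
-/

set_option autoImplicit false
set_option maxRecDepth 20000

namespace Cfsg.Agent.H41.LFi

open Cfsg Cfsg.Agent.Compute Cfsg.Agent.H95 Cfsg.Agent.Unitary Cfsg.Agent.H41.SUSix Matrix

/-! ### Semilinear maps -/

/-- The scalar twisted by an automorphism of the field. -/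
def tw : Bool → K4 → K4
  | false, c => c
  | true, c => c * c

theorem tw_tw : ∀ θ θ' c, tw θ (tw θ' c) = tw (xor θ θ') c := by decide +kernel

theorem tw_one : ∀ θ, tw θ 1 = 1 := by decide +kernel

/-- An additive map commuting with scalars up to the automorphism `θ`. -/
structure Semi (θ : Bool) (a : Vec → Vec) : Prop where
  add : ∀ u v, a (u + v) = a u + a v
  smul : ∀ (c : K4) (u : Vec), a (c • u) = tw θ c • a u

/-- The standard basis. -/
def eb (k : Fin 6) : Vec := Pi.single k 1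

theorem vec_expand (u : Vec) : u = u 0 • eb 0 + (u 1 • eb 1 + (u 2 • eb 2 +
    (u 3 • eb 3 + (u 4 • eb 4 + u 5 • eb 5)))) := by
  funext i
  fin_cases i <;> simp [eb, Pi.single_apply]

theorem semi_ext {θ : Bool} {a b : Vec → Vec} (ha : Semi θ a) (hb : Semi θ b)
    (h : ∀ k, a (eb k) = b (eb k)) : a = b := by
  funext u
  rw [vec_expand u]
  simp only [ha.add, hb.add, ha.smul, hb.smul, h]

theorem Semi.comp {θ θ' : Bool} {a b : Vec → Vec} (ha : Semi θ a) (hb : Semi θ' b) :
    Semi (xor θ θ') (a ∘ b) :=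
  ⟨fun u v => by simp only [Function.comp_apply, hb.add, ha.add],
   fun c u => by simp only [Function.comp_apply, hb.smul, ha.smul, tw_tw]⟩

theorem semi_id : Semi false (id : Vec → Vec) := ⟨fun _ _ => rfl, fun _ _ => rfl⟩

theorem Semi.map_zero {θ : Bool} {a : Vec → Vec} (ha : Semi θ a) : a 0 = 0 := by
  have h := ha.smul 0 0
  rw [zero_smul, show tw θ 0 = 0 by cases θ <;> rfl, zero_smul] at h
  exact h

theorem dV_bC : ∀ k : Fin 6, dV (bC k) = eb k := by decide +kernel

theorem bC_lt : ∀ k : Fin 6, bC k < 4096 := by decide +kernel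

/-- Two semilinear maps equal on the coded basis are equal. -/
theorem semi_ext_code {θ : Bool} {a b : Vec → Vec} (ha : Semi θ a) (hb : Semi θ b)
    (h : ∀ k < 6, a (dV (bC k)) = b (dV (bC k))) : a = b :=
  semi_ext ha hb fun k => by rw [← dV_bC]; exact h k k.2

/-! ### Linear elements -/

/-- The elements of the special unitary group as permutations of the vectors. -/
def lin : ↥SG →* Equiv.Perm Vec :=
  MonoidHom.mk' (fun g => ⟨ap g, ap g⁻¹, ap_inv_ap g, ap_ap_inv g⟩)
    (fun g h => Equiv.ext fun u => ap_mul g h u)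

theorem lin_apply (g : ↥SG) (u : Vec) : lin g u = ap g u := rfl

theorem semi_lin (g : ↥SG) : Semi false (lin g) := ⟨ap_add g, ap_smul g⟩

theorem lin_injective : Function.Injective lin := fun g h e =>
  ap_ext fun u => by rw [← lin_apply, ← lin_apply, e]

/-- The model as a group of permutations. -/
noncomputable def Kl : Subgroup (Equiv.Perm Vec) := Kg.map lin

theorem semi_of_mem_Kl {k : Equiv.Perm Vec} (hk : k ∈ Kl) : Semi false k := by
  obtain ⟨g, -, rfl⟩ := hk
  exact semi_lin g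

/-! ### The tabulated elements -/

/-- The tabulated elements of the special unitary group. -/
noncomputable def xG (i : Fin 8) : ↥SG :=
  toSU (M := dM (xC i)) ((preserves_iff_transpose_mul SUSix.hK).2 (x_preserves i)) (x_det i)

theorem mat_xG (i : Fin 8) : mat (xG i) = dM (xC i) := rfl

attribute [local irreducible] mapsC sift invPerm UFourThree.u43Chain

theorem mem_Kg_of_induces {g : ↥SG} {σ : Equiv.Perm (Fin 112)} (h : Induces g σ)
    (hσ : σ ∈ UFourThree.chainGrp) : g ∈ Kg := by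
  rw [← range_thetaK] at hσ
  obtain ⟨k, hk⟩ := hσ
  have hg : g ∈ SUSix.stab := ⟨σ, h⟩
  have hθ : theta ((⟨g, hg⟩ : ↥SUSix.stab) * (Subgroup.inclusion K_le_stab k)⁻¹) = 1 := by
    rw [map_mul, map_inv, theta_eq (g := ⟨g, hg⟩) h]
    show σ * (thetaK k)⁻¹ = 1
    rw [hk, mul_inv_cancel]
  have hD := D_le_K (scalar_mem_D (isScalar_of_theta_one hθ))
  have e : g = g * (k : ↥SG)⁻¹ * k := by rw [inv_mul_cancel_right]
  rw [e]
  exact mul_mem hD k.2

theorem xG_mem (i : Fin 8) : xG i ∈ Kg := by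
  have h := (allN_iff _ _).1 x_perm i i.2
  rw [Bool.and_eq_true] at h
  obtain ⟨o, -, -⟩ := (permSound 7 112 SUSix.two_pow_seven).okInv_sound h.1
  exact mem_Kg_of_induces (induces_of_maps (mat_xG i) o ((allN_iff _ _).1 x_maps i i.2))
    (((checkChain_sound (permSound 7 112 SUSix.two_pow_seven) UFourThree.chain_ok).sift_iff _ o).1 h.2)

/-- The tabulated elements as permutations. -/
noncomputable def xP (i : Fin 8) : Equiv.Perm Vec := lin (xG i)

theorem xP_mem (i : Fin 8) : xP i ∈ Kl := Subgroup.mem_map_of_mem _ (xG_mem i)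

theorem semi_xP (i : Fin 8) : Semi false (xP i) := semi_lin _

theorem xP_dV (i : Fin 8) (v : ℕ) : xP i (dV v) = dV (xApC i v) := (dV_xApC i v).symm

/-- The first four. -/
noncomputable def gP (i : Fin 4) : Equiv.Perm Vec := xP (i.castLE (by norm_num))

theorem gP_dV (i : Fin 4) (v : ℕ) : gP i (dV v) = dV (xApC i v) := xP_dV _ v

theorem semi_gP (i : Fin 4) : Semi false (gP i) := semi_xP _

/-- One of the first four, or not, along a bit. -/
noncomputable def bitP (j : ℕ) (i : Fin 4) : Equiv.Perm Vec :=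
  cond (Nat.beq (getP 1 j i) 1) (gP i) 1

theorem bitP_dV (j : ℕ) (i : Fin 4) (v : ℕ) : bitP j i (dV v) = dV (bitApC j i v) := by
  unfold bitP bitApC
  cases Nat.beq (getP 1 j i) 1
  · rfl
  · exact gP_dV i v

theorem semi_bitP (j : ℕ) (i : Fin 4) : Semi false (bitP j i) := by
  unfold bitP
  cases Nat.beq (getP 1 j i) 1
  · exact semi_id
  · exact semi_gP i

theorem bitP_mem (j : ℕ) (i : Fin 4) : bitP j i ∈ Kl := by
  unfold bitP
  cases Nat.beq (getP 1 j i) 1
  · exact one_mem _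
  · exact xP_mem _

/-- The sixteen products of the first four. -/
noncomputable def aP (j : ℕ) : Equiv.Perm Vec := bitP j 0 * bitP j 1 * bitP j 2 * bitP j 3

theorem aP_dV (j v : ℕ) : aP j (dV v) = dV (aApC j v) := by
  simp only [aP, Equiv.Perm.mul_apply, bitP_dV]
  rfl

theorem semi_aP (j : ℕ) : Semi false (aP j) :=
  (((semi_bitP j 0).comp (semi_bitP j 1)).comp (semi_bitP j 2)).comp (semi_bitP j 3)

theorem aP_mem (j : ℕ) : aP j ∈ Kl :=
  mul_mem (mul_mem (mul_mem (bitP_mem j 0) (bitP_mem j 1)) (bitP_mem j 2)) (bitP_mem j 3)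

theorem semi_out : Semi true (fun u : Vec => dM outMat *ᵥ frob u) := by
  have h1 : ∀ a b : K4, (a + b) ^ 2 = a ^ 2 + b ^ 2 := by decide +kernel
  refine ⟨fun u v => ?_, fun c u => ?_⟩
  · rw [← Matrix.mulVec_add]
    congr 1
    funext i
    exact h1 _ _
  · rw [← Matrix.mulVec_smul]
    congr 1
    funext i
    show (c * u i) ^ 2 = c * c * u i ^ 2
    ring

/-- The outer semilinear involution. -/
noncomputable def e0P : Equiv.Perm Vec :=
  Function.Involutive.toPerm (fun u : Vec => dM outMat *ᵥ frob u)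
    (fun u => congrFun (semi_ext_code (θ := false) (semi_out.comp semi_out) semi_id fun k hk => by
      have h := (allN_iff _ _).1 out_invol k hk
      rw [Nat.beq_eq] at h
      simp only [Function.comp_apply, ← dV_oC, h, id]) u)

theorem e0P_dV (v : ℕ) : e0P (dV v) = dV (oC v) := (dV_oC v).symm

theorem semi_e0P : Semi true e0P := semi_out

/-- The sixteen outer elements. -/
noncomputable def oP (j : ℕ) : Equiv.Perm Vec := e0P * aP j

theorem oP_dV (j v : ℕ) : oP j (dV v) = dV (oApC j v) := by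
  rw [oP, Equiv.Perm.mul_apply, aP_dV, e0P_dV]
  rfl

theorem semi_oP (j : ℕ) : Semi true (oP j) := semi_e0P.comp (semi_aP j)

theorem perm_ext_code {θ : Bool} {a b : Equiv.Perm Vec} (ha : Semi θ a) (hb : Semi θ b)
    (h : ∀ k < 6, a (dV (bC k)) = b (dV (bC k))) : a = b :=
  Equiv.coe_fn_injective (semi_ext_code ha hb h)

/-! ### The root -/

/-- The root of the second class. -/
noncomputable def r85 : Vec := dV 85

theorem xP_r85 (i : Fin 8) : xP i r85 = r85 := by
  rw [r85, xP_dV, Nat.eq_of_beq_eq_true ((allN_iff _ _).1 fix_ok.1 i i.2)]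

theorem e0P_r85 : e0P r85 = r85 := by rw [r85, e0P_dV, fix_ok.2]

theorem bitP_r85 (j : ℕ) (i : Fin 4) : bitP j i r85 = r85 := by
  unfold bitP
  cases Nat.beq (getP 1 j i) 1
  · rfl
  · exact xP_r85 _

theorem aP_r85 (j : ℕ) : aP j r85 = r85 := by
  simp only [aP, Equiv.Perm.mul_apply, bitP_r85]

theorem oP_r85 (j : ℕ) : oP j r85 = r85 := by
  rw [oP, Equiv.Perm.mul_apply, aP_r85, e0P_r85]

/-! ### Relations -/

theorem a_rel' (i k : Fin 4) : gP i * gP i = 1 ∧ e0P * gP i = gP i * e0P ∧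
    gP i * gP k = gP k * gP i := by
  have h : ∀ b < 6, xApC i (xApC i (bC b)) = bC b ∧ oC (xApC i (bC b)) = xApC i (oC (bC b)) ∧
      xApC i (xApC k (bC b)) = xApC k (xApC i (bC b)) := by
    intro b hb
    have h := (allN_iff _ _).1 ((allN_iff _ _).1 a_rel i i.2) b hb
    simp only [Bool.and_eq_true, allN_iff, Nat.beq_eq] at h
    exact ⟨h.1.1, h.1.2, h.2 k k.2⟩
  refine ⟨perm_ext_code ((semi_gP i).comp (semi_gP i)) semi_id fun b hb => ?_,
    perm_ext_code (semi_e0P.comp (semi_gP i)) ((semi_gP i).comp semi_e0P) fun b hb => ?_,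
    perm_ext_code ((semi_gP i).comp (semi_gP k)) ((semi_gP k).comp (semi_gP i)) fun b hb => ?_⟩
  · rw [Equiv.Perm.mul_apply, gP_dV, gP_dV, (h b hb).1]
    rfl
  · rw [Equiv.Perm.mul_apply, Equiv.Perm.mul_apply, gP_dV, e0P_dV, e0P_dV, gP_dV, (h b hb).2.1]
  · simp only [Equiv.Perm.mul_apply, gP_dV, (h b hb).2.2]

theorem bitP_commute (j : ℕ) (i : Fin 4) {a : Equiv.Perm Vec} (h : a * gP i = gP i * a) :
    a * bitP j i = bitP j i * a := by
  unfold bitP
  cases Nat.beq (getP 1 j i) 1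
  · simp
  · exact h

theorem aP_commute {a : Equiv.Perm Vec} (h : ∀ i, a * gP i = gP i * a) (j : ℕ) :
    a * aP j = aP j * a :=
  Commute.mul_right (Commute.mul_right (Commute.mul_right (bitP_commute j 0 (h 0))
    (bitP_commute j 1 (h 1))) (bitP_commute j 2 (h 2))) (bitP_commute j 3 (h 3))

theorem aP_gP (j : ℕ) (i : Fin 4) : aP j * gP i = gP i * aP j :=
  (aP_commute (fun k => (a_rel' i k).2.2) j).symm

theorem e0P_aP (j : ℕ) : e0P * aP j = aP j * e0P := aP_commute (fun i => (a_rel' i i).2.1) j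

theorem oP_gP (j : ℕ) (i : Fin 4) : oP j * gP i = gP i * oP j := by
  rw [oP, mul_assoc, aP_gP, ← mul_assoc, (a_rel' i i).2.1, mul_assoc]

/-! ### Rigidity -/

/-- A map fixing the root and commuting with the first four. -/
structure Fixes (θ : Bool) (a : Equiv.Perm Vec) : Prop where
  semi : Semi θ a
  root : a r85 = r85
  comm : ∀ i, a * gP i = gP i * a

/-- Coded twist of a scalar. -/
noncomputable def twC : Bool → ℕ → ℕ
  | false, c => c
  | true, c => mulC c c

theorem twC_spec : ∀ θ, ∀ c < 4, twC θ c < 4 ∧ fe (twC θ c) = tw θ (fe c) := by decide +kernel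

theorem dV_shC (i : Fin 4) (y : ℕ) : dV (shC i y) = gP i (dV y) + dV y := by
  rw [shC, dV_xor, gP_dV]

theorem Fixes.sh {θ : Bool} {a : Equiv.Perm Vec} (h : Fixes θ a) {y : ℕ}
    (hy : a (dV 1) = dV y) (i : Fin 4) : a (dV (shC i 1)) = dV (shC i y) := by
  rw [dV_shC, dV_shC, h.semi.add, hy]
  congr 1
  have e := congrArg (fun f : Equiv.Perm Vec => f (dV 1)) (h.comm i)
  simp only [Equiv.Perm.mul_apply] at e
  rw [e, hy]

/-- Twisted list of six scalars. -/
noncomputable def twL (θ : Bool) (c : List ℕ) : List ℕ :=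
  [twC θ (nth 0 c 0), twC θ (nth 0 c 1), twC θ (nth 0 c 2), twC θ (nth 0 c 3), twC θ (nth 0 c 4),
    twC θ (nth 0 c 5)]

theorem Fixes.lc {θ : Bool} {a : Equiv.Perm Vec} (h : Fixes θ a) {y : ℕ}
    (hy : a (dV 1) = dV y) (c : List ℕ) (hc : ∀ i < 6, nth 0 c i < 4) :
    a (dV (lcC c 1)) = dV (lcC (twL θ c) y) := by
  have s : ∀ c < 4, ∀ v w : ℕ, a (dV v) = dV w → a (dV (scalC c v)) = dV (scalC (twC θ c) w) := by
    intro c hc v w e
    obtain ⟨t1, t2⟩ := twC_spec θ c hc
    rw [dV_scalC hc, dV_scalC t1, h.semi.smul, e, t2]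
  have a0 := s _ (hc 0 (by norm_num)) _ _ hy
  have a1 := s _ (hc 1 (by norm_num)) _ _ (h.sh hy 0)
  have a2 := s _ (hc 2 (by norm_num)) _ _ (h.sh hy 1)
  have a3 := s _ (hc 3 (by norm_num)) _ _ (h.sh hy 2)
  have a4 := s _ (hc 4 (by norm_num)) _ _ (h.sh hy 3)
  have a5 := s _ (hc 5 (by norm_num)) _ _ (show a (dV 85) = dV 85 from h.root)
  simp only [lcC, dV_xor, h.semi.add]
  rw [a0, show a (dV (scalC (nth 0 c 1) (shC 0 1))) = _ from a1,
    show a (dV (scalC (nth 0 c 2) (shC 1 1))) = _ from a2,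
    show a (dV (scalC (nth 0 c 3) (shC 2 1))) = _ from a3,
    show a (dV (scalC (nth 0 c 4) (shC 3 1))) = _ from a4, a5]
  rfl

/-- Such a map is determined by its value at the first basis vector. -/
theorem Fixes.ext {θ : Bool} {a b : Equiv.Perm Vec} (ha : Fixes θ a) (hb : Fixes θ b)
    (h : a (dV 1) = b (dV 1)) : a = b := by
  refine perm_ext_code ha.semi hb.semi fun k hk => ?_
  have hc := (allN_iff _ _).1 coef_ok k hk
  simp only [Bool.and_eq_true, allN_iff, Nat.beq_eq, Nat.ble_eq] at hc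
  have e : a (dV 1) = dV (eV (a (dV 1))) := (dV_eV _).symm
  have hlt : ∀ i < 6, nth 0 (coefC k) i < 4 := fun i hi => hc.2 i hi
  have eb' : b (dV 1) = dV (eV (a (dV 1))) := by rw [← h]; exact e
  rw [← hc.1, ha.lc e _ hlt, hb.lc eb' _ hlt]

theorem fixes_aP (j : ℕ) : Fixes false (aP j) := ⟨semi_aP j, aP_r85 j, aP_gP j⟩

theorem fixes_oP (j : ℕ) : Fixes true (oP j) := ⟨semi_oP j, oP_r85 j, oP_gP j⟩

theorem yl_facts {i j : ℕ} (hi : i < 16) (hj : j < 16) : aP j (dV 1) = dV (ylC j) ∧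
    aP i (dV (ylC j)) = dV (ylC (Nat.xor i j)) ∧ (i ≠ j → ylC i ≠ ylC j) := by
  have h := (allN_iff _ _).1 yl_ok j hj
  simp only [Bool.and_eq_true, allN_iff, Nat.beq_eq, Bool.or_eq_true, Bool.not_eq_true'] at h
  refine ⟨by rw [aP_dV, h.1], by rw [aP_dV, (h.2 i hi).1], fun hne e => ?_⟩
  rcases (h.2 i hi).2 with e' | e'
  · exact hne e'
  · exact absurd e (by simpa [← Bool.not_eq_true, Nat.beq_eq] using e')

theorem e0P_one : e0P (dV 1) = dV 1 := by
  have h : oC 1 = 1 := by decide +kernel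
  rw [e0P_dV, h]

theorem oP_one {j : ℕ} (hj : j < 16) : oP j (dV 1) = dV (ylC j) := by
  rw [oP, e0P_aP, Equiv.Perm.mul_apply, e0P_one, (yl_facts hj hj).1]

theorem Fixes.classify {θ : Bool} {a : Equiv.Perm Vec} (h : Fixes θ a)
    (hpres : ∀ u, cls u = 2 → cls (a u) = 2) :
    ∃ j < 16, a (dV 1) = dV (ylC j) := by
  set y := eV (a (dV 1)) with hy'
  have hy : a (dV 1) = dV y := (dV_eV _).symm
  have hyl : y < 4096 := eV_lt _
  obtain ⟨t1, t2, t3, t4, t5, t6⟩ := test_ok
  have hclsC : ∀ v < 4096, clsC v = 2 → ∀ w < 4096, a (dV v) = dV w → clsC w = 2 := by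
    intro v hv hc w hw e
    have := hpres (dV v) (by rw [cls, eV_dV hv, hc])
    rwa [e, cls, eV_dV hw] at this
  have hsh : ∀ i : Fin 4, shC i y < 4096 := fun i => xor_lt (mulVecC_lt _ _) hyl
  have h0 : clsC (shC 0 y) = 2 := hclsC 5 (by norm_num) t4 _ (hsh 0) (t1 ▸ h.sh hy 0)
  have ht : twC θ 3 < 4 ∧ fe (twC θ 3) = tw θ (fe 3) := twC_spec θ 3 (by norm_num)
  have hs : a (dV (scalC 3 1)) = dV (scalC (twC θ 3) y) := by
    rw [dV_scalC (by norm_num), dV_scalC ht.1, h.semi.smul, hy, ht.2]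
  have h1 : clsC (Nat.xor (scalC (twC θ 3) y) (shC 0 y)) = 2 := by
    refine hclsC 6 (by norm_num) t5 _ (xor_lt (scalC_lt _ _) (hsh 0)) ?_
    rw [← t2, dV_xor, h.semi.add, hs, show a (dV (shC 0 1)) = _ from h.sh hy 0, dV_xor]
    rfl
  have h2 : clsC (Nat.xor (scalC (twC θ 3) y) (Nat.xor (shC 0 y) (Nat.xor (shC 1 y) 85))) = 2 := by
    refine hclsC 66 (by norm_num) t6 _
      (xor_lt (scalC_lt _ _) (xor_lt (hsh 0) (xor_lt (hsh 1) (by norm_num)))) ?_
    rw [← t3]
    simp only [dV_xor, h.semi.add]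
    rw [hs, show a (dV (shC 0 1)) = _ from h.sh hy 0, show a (dV (shC 1 1)) = _ from h.sh hy 1,
      show a (dV 85) = dV 85 from h.root]
    rfl
  have he : enumC (twC θ 3) y = true := by
    have h3 : twC false 3 = 3 ∧ twC true 3 = 2 := by decide +kernel
    cases θ
    · rw [h3.1]; exact (allN_iff _ _).1 enum_lin y hyl
    · rw [h3.2]; exact (allN_iff _ _).1 enum_semi y hyl
  simp only [enumC, h0, h1, h2, Nat.beq_refl, Bool.not_true, Bool.or_false, inYl, anyN_iff] at he
  obtain ⟨j, hj, e⟩ := he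
  exact ⟨j, hj, by rw [hy, Nat.eq_of_beq_eq_true e]⟩

theorem classify_lin {a : Equiv.Perm Vec} (h : Fixes false a)
    (hpres : ∀ u, cls u = 2 → cls (a u) = 2) : ∃ j < 16, a = aP j := by
  obtain ⟨j, hj, e⟩ := h.classify hpres
  exact ⟨j, hj, h.ext (fixes_aP j) (e.trans (yl_facts hj hj).1.symm)⟩

theorem classify_semi {a : Equiv.Perm Vec} (h : Fixes true a)
    (hpres : ∀ u, cls u = 2 → cls (a u) = 2) : ∃ j < 16, a = oP j := by
  obtain ⟨j, hj, e⟩ := h.classify hpres
  exact ⟨j, hj, h.ext (fixes_oP j) (e.trans (oP_one hj).symm)⟩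

theorem aP_mul {i j : ℕ} (hi : i < 16) (hj : j < 16) : aP i * aP j = aP (Nat.xor i j) := by
  have hij : Nat.xor i j < 16 := Nat.xor_lt_two_pow (n := 4) hi hj
  refine Fixes.ext ⟨(semi_aP i).comp (semi_aP j), by
    rw [Equiv.Perm.mul_apply, aP_r85, aP_r85], fun k => Commute.mul_left (aP_gP i k) (aP_gP j k)⟩
    (fixes_aP _) ?_
  rw [Equiv.Perm.mul_apply, (yl_facts hj hj).1, (yl_facts hi hj).2.1, (yl_facts hij hij).1]

theorem aP_inj {i j : ℕ} (hi : i < 16) (hj : j < 16) (h : aP i = aP j) : i = j := by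
  by_contra hne
  refine (yl_facts hi hj).2.2 hne ?_
  have hlt : ∀ k, k < 16 → ylC k < 4096 := fun k hk => by
    have e := (yl_facts hk hk).1
    rw [aP_dV] at e
    revert k
    decide +kernel
  exact dV_inj (hlt i hi) (hlt j hj)
    ((yl_facts hi hi).1.symm.trans ((congrArg (fun f : Equiv.Perm Vec => f (dV 1)) h).trans
      (yl_facts hj hj).1))

theorem oP_ne_aP {i j : ℕ} : oP i ≠ aP j := by
  intro h
  have h1 := (semi_oP i).smul ω₄ r85
  rw [h, (semi_aP j).smul, aP_r85] at h1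
  have h2 := congrFun h1 0
  have e : ω₄ * dV 85 (0 : Fin 6) ≠ ω₄ * ω₄ * dV 85 (0 : Fin 6) := by decide +kernel
  exact e h2

end Cfsg.Agent.H41.LFi
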