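import Cfsg.Agent.H41.LFi.Coords
import Cfsg.Agent.H41.LFi.Semi

/-!
Maps preserving the parity of the support: the linear ones are unitary.
-/

set_option autoImplicit false
set_option linter.unusedSectionVars false

namespace Cfsg.Agent.H41.LFi

open Cfsg Cfsg.Agent.Compute Cfsg.Agent.Unitary Cfsg.Agent.H41.SUSix Matrix

/-- The embedding of the prime field. -/
def iot (a : ZMod 2) : K4 := if a = 0 then 0 else 1

theorem iot_add : ∀ a b, iot (a + b) = iot a + iot b := by decide +kernel

theorem iot_eq_one : ∀ a, iot a = 1 ↔ a = 1 := by decide +kernel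

/-- The trace to the prime field. -/
def trK : K4 → ZMod 2
  | .o => 0 | .e => 0 | .w => 1 | .v => 1

theorem trK_add : ∀ a b, trK (a + b) = trK a + trK b := by decide +kernel

/-- The bilinear form of the parity of the support. -/
def pol (u v : Vec) : ZMod 2 := wt (u + v) + wt u + wt v

theorem wt_zero {k : ℕ} : wt (0 : Fin k → K4) = 0 := by simp [wt]

theorem herm_self (u : Vec) : hermForm 6 K4 2 u u = iot (wt u) := by
  have h : ∀ c : K4, c * c ^ 2 = iot (if c = 0 then 0 else 1) := by decide +kernel
  rw [hermForm, wt, ← AddMonoidHom.mk'_apply iot iot_add, map_sum]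
  exact Finset.sum_congr rfl fun i _ => h (u i)

theorem cls_one_iff (u : Vec) : cls u = 1 ↔ wt u = 1 := by
  rw [(facts u).1, herm_self, iot_eq_one]

theorem pol_eq (u v : Vec) : pol u v = trK (hermForm 6 K4 2 u v) := by
  have h : ∀ a b : K4, (if a + b = 0 then (0 : ZMod 2) else 1) + (if a = 0 then 0 else 1) +
      (if b = 0 then 0 else 1) = trK (a * b ^ 2) := by decide +kernel
  rw [hermForm, ← AddMonoidHom.mk'_apply trK trK_add, map_sum, pol, wt, wt, wt,
    ← Finset.sum_add_distrib, ← Finset.sum_add_distrib]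
  exact Finset.sum_congr rfl fun i _ => h (u i) (v i)

theorem herm_smul_left (c : K4) (u v : Vec) :
    hermForm 6 K4 2 (c • u) v = c * hermForm 6 K4 2 u v := by
  rw [hermForm, hermForm, Finset.mul_sum]
  exact Finset.sum_congr rfl fun i _ => mul_assoc _ _ _

theorem herm_of_wt {a : Vec → Vec} (ha : Semi false a) (hw : ∀ u, wt (a u) = wt u) (u v : Vec) :
    hermForm 6 K4 2 (a u) (a v) = hermForm 6 K4 2 u v := by
  have hp : ∀ x y, pol (a x) (a y) = pol x y := fun x y => by
    rw [pol, pol, ← ha.add, hw, hw, hw]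
  have h1 := hp u v
  have h2 := hp (ω₄ • u) v
  rw [pol_eq, pol_eq] at h1 h2
  rw [ha.smul, herm_smul_left, herm_smul_left] at h2
  have key : ∀ x y : K4, trK x = trK y → trK (tw false ω₄ * x) = trK (ω₄ * y) → x = y := by
    decide +kernel
  exact key _ _ h1 h2

/-- The matrix of a map. -/
def matOf (a : Vec → Vec) : Mat := Matrix.of fun r c => a (eb c) r

theorem semi_mulVec (M : Mat) : Semi false (fun u : Vec => M *ᵥ u) :=
  ⟨Matrix.mulVec_add M, fun c u => Matrix.mulVec_smul M c u⟩

theorem matOf_mulVec {a : Vec → Vec} (ha : Semi false a) (u : Vec) : matOf a *ᵥ u = a u :=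
  congrFun (semi_ext (semi_mulVec _) ha fun k => by
    show matOf a *ᵥ eb k = a (eb k)
    rw [eb, Matrix.mulVec_single_one]
    rfl) u

theorem matOf_mul {a b : Equiv.Perm Vec} (ha : Semi false a) (hb : Semi false b) :
    matOf (a * b : Equiv.Perm Vec) = matOf a * matOf b := by
  refine Matrix.ext fun r c => ?_
  have h : (matOf a * matOf b) *ᵥ eb c = a (b (eb c)) := by
    rw [← Matrix.mulVec_mulVec, matOf_mulVec hb, matOf_mulVec ha]
  rw [eb, Matrix.mulVec_single_one] at h
  exact (congrFun h r).symm

theorem matOf_one : matOf (1 : Equiv.Perm Vec) = 1 := by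
  refine Matrix.ext fun r c => ?_
  show eb c r = _
  rw [eb, Pi.single_apply, Matrix.one_apply]

theorem preserves_matOf {a : Vec → Vec} (ha : Semi false a) (hw : ∀ u, wt (a u) = wt u) :
    Preserves 2 (matOf a) := fun u v => by
  rw [matOf_mulVec ha, matOf_mulVec ha, herm_of_wt ha hw]

/-- A linear map preserving parities with determinant one lies in the special unitary group. -/
theorem mem_range_lin {a : Equiv.Perm Vec} (ha : Semi false a) (hw : ∀ u, wt (a u) = wt u)
    (hd : (matOf a).det = 1) : a ∈ lin.range :=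
  ⟨toSU (preserves_matOf ha hw) hd, Equiv.ext fun u => matOf_mulVec ha u⟩

theorem wt_lin (g : ↥SG) (u : Vec) : wt (lin g u) = wt u := by
  have h : iot (wt (lin g u)) = iot (wt u) := by rw [← herm_self, ← herm_self, lin_apply, herm_ap]
  have key : ∀ a b, iot a = iot b → a = b := by decide +kernel
  exact key _ _ h

end Cfsg.Agent.H41.LFi
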