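import Cfsg.Agent.H41.SUSix.Pull
import Mathlib.GroupTheory.SpecificGroups.Alternating.KleinFour

/-!
The simple quotient of the model has no faithful action on a group of exponent two of order at
most `2 ^ 10`: the elementary abelian subgroup of order `3 ^ 4` would need more than five
subgroups of index three.
-/

set_option autoImplicit false
set_option linter.style.haveILetI false

namespace Cfsg.Agent.H41.LFi

open Cfsg Cfsg.Agent.H95 Cfsg.Agent.Unitary Cfsg.Agent.H41.SUSix Finset Matrix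

/-! ### Averaging over subgroups of odd order -/

variable {P V : Type*} [Group P] [Finite P] [AddCommGroup V]

/-- The sum of a vector over a subgroup. -/
noncomputable def avg (φ : P →* Equiv.Perm V) (S : Subgroup P) (v : V) : V :=
  letI := Fintype.ofFinite ↥S
  ∑ s : ↥S, φ s v

theorem odd_nsmul (h2 : ∀ v : V, v + v = 0) {n : ℕ} (hn : Odd n) (v : V) : n • v = v := by
  obtain ⟨k, rfl⟩ := hn
  rw [add_nsmul, one_nsmul, mul_nsmul, two_nsmul, h2, nsmul_zero, zero_add]

variable (φ : P →* Equiv.Perm V)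

theorem avg_fixed (hadd : ∀ p u v, φ p (u + v) = φ p u + φ p v) (S : Subgroup P) {t : P}
    (ht : t ∈ S) (v : V) : φ t (avg φ S v) = avg φ S v := by
  letI := Fintype.ofFinite ↥S
  let f : V →+ V := AddMonoidHom.mk' (φ t) (hadd t)
  show f (∑ s : ↥S, φ s v) = ∑ s : ↥S, φ s v
  rw [map_sum]
  refine Fintype.sum_equiv (Equiv.mulLeft (⟨t, ht⟩ : ↥S)) _ _ fun s => ?_
  show φ t (φ s v) = φ ((⟨t, ht⟩ * s : ↥S) : P) v
  rw [Subgroup.coe_mul, map_mul, Equiv.Perm.mul_apply]

theorem avg_comm (hadd : ∀ p u v, φ p (u + v) = φ p u + φ p v) (S : Subgroup P) {t : P}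
    (ht : ∀ s ∈ S, t * s = s * t) (v : V) : φ t (avg φ S v) = avg φ S (φ t v) := by
  letI := Fintype.ofFinite ↥S
  let f : V →+ V := AddMonoidHom.mk' (φ t) (hadd t)
  show f (∑ s : ↥S, φ s v) = ∑ s : ↥S, φ s (φ t v)
  rw [map_sum]
  refine Finset.sum_congr rfl fun s _ => ?_
  show φ t (φ s v) = φ s (φ t v)
  rw [← Equiv.Perm.mul_apply, ← map_mul, ht s s.2, map_mul, Equiv.Perm.mul_apply]

theorem avg_of_fixed (h2 : ∀ v : V, v + v = 0) (S : Subgroup P) (hS : Odd (Nat.card S)) {v : V}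
    (hv : ∀ s ∈ S, φ s v = v) : avg φ S v = v := by
  letI := Fintype.ofFinite ↥S
  show ∑ s : ↥S, φ s v = v
  rw [Finset.sum_congr rfl fun (s : ↥S) _ => hv s s.2, Finset.sum_const, Finset.card_univ,
    ← Nat.card_eq_fintype_card, odd_nsmul h2 hS]

theorem avg_add (hadd : ∀ p u v, φ p (u + v) = φ p u + φ p v) (S : Subgroup P) (u v : V) :
    avg φ S (u + v) = avg φ S u + avg φ S v := by
  letI := Fintype.ofFinite ↥S
  show ∑ s : ↥S, φ s (u + v) = (∑ s : ↥S, φ s u) + ∑ s : ↥S, φ s v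
  rw [← Finset.sum_add_distrib]
  exact Finset.sum_congr rfl fun s _ => hadd _ _ _

/-! ### An elementary abelian group of order a power of three -/

/-- The subgroups behaving like those of index three. -/
structure IsHyp (E H : Subgroup P) : Prop where
  le : H ≤ E
  ne : H ≠ E
  cases : ∀ a ∈ E, a ∉ H → ∀ b ∈ E, b ∈ H ∨ b * a ∈ H ∨ b * a * a ∈ H

/-- The vectors fixed by `H` whose sum over `E` vanishes. -/
def compU (hadd : ∀ p u v, φ p (u + v) = φ p u + φ p v) (E H : Subgroup P) : AddSubgroup V where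
  carrier := {v | (∀ h ∈ H, φ h v = v) ∧ avg φ E v = 0}
  zero_mem' := by
    have hz : ∀ p, φ p 0 = 0 := fun p => (AddMonoidHom.mk' (φ p) (hadd p)).map_zero
    refine ⟨fun h _ => hz h, ?_⟩
    exact Finset.sum_eq_zero fun s _ => hz s
  add_mem' {u v} hu hv := ⟨fun h hh => by rw [hadd, hu.1 h hh, hv.1 h hh],
    by rw [avg_add φ hadd, hu.2, hv.2, add_zero]⟩
  neg_mem' {u} hu := by
    have hn : ∀ p, φ p (-u) = -φ p u := fun p => (AddMonoidHom.mk' (φ p) (hadd p)).map_neg u
    refine ⟨fun h hh => by rw [hn, hu.1 h hh], ?_⟩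
    letI := Fintype.ofFinite ↥E
    show ∑ s : ↥E, φ s (-u) = 0
    rw [Finset.sum_congr rfl fun (s : ↥E) _ => hn s, Finset.sum_neg_distrib]
    exact neg_eq_zero.2 hu.2

variable {φ}

theorem fixed_of_hyp {E H : Subgroup P} (hH : IsHyp E H) {a : P} (ha : a ∈ E) (haH : a ∉ H)
    {v : V} (hv : ∀ h ∈ H, φ h v = v) (hav : φ a v = v) : ∀ e ∈ E, φ e v = v := by
  intro e he
  rcases hH.cases a ha haH e he with h | h | h
  · exact hv e h
  · have := hv _ h
    rwa [map_mul, Equiv.Perm.mul_apply, hav] at this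
  · have := hv _ h
    rwa [map_mul, map_mul, Equiv.Perm.mul_apply, Equiv.Perm.mul_apply, hav, hav] at this

theorem IsHyp.eq_of_le {E H K : Subgroup P} (hH : IsHyp E H) (hK : IsHyp E K) (h : K ≤ H) :
    K = H := by
  refine le_antisymm h fun a ha => ?_
  by_contra haK
  refine hH.ne (le_antisymm hH.le fun b hb => ?_)
  rcases hK.cases a (hH.le ha) haK b hb with g | g | g
  · exact h g
  · exact (H.mul_mem_cancel_right ha).1 (h g)
  · exact (H.mul_mem_cancel_right ha).1 ((H.mul_mem_cancel_right ha).1 (h g))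

/-- The four vectors attached to a vector by a group of order nine do not all vanish. -/
theorem four_sums (h2 : ∀ v : V, v + v = 0) {a b : P} (hc : a * b = b * a) (ha : a * a * a = 1)
    (hb : b * b * b = 1) (hadd : ∀ p u v, φ p (u + v) = φ p u + φ p v) {v : V}
    (h : ∀ c ∈ ({a, b, a * b, a * (b * b)} : Set P), v + φ c v + φ (c * c) v = 0) : v = 0 := by
  have e1 := h a (by simp)
  have e2 := h b (by simp)
  have e3 := h (a * b) (by simp)
  have e4 := h (a * (b * b)) (by simp)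
  have hz : φ a 0 = 0 := (AddMonoidHom.mk' (φ a) (hadd a)).map_zero
  have hz' : φ (a * a) 0 = 0 := (AddMonoidHom.mk' (φ (a * a)) (hadd (a * a))).map_zero
  have f1 : φ a (v + φ b v + φ (b * b) v) = 0 := by rw [e2, hz]
  have f2 : φ (a * a) (v + φ b v + φ (b * b) v) = 0 := by rw [e2, hz']
  have hc' : Commute a b := hc
  have sq : a * b * (a * b) = a * a * (b * b) :=
    (hc'.symm.mul_mul_mul_comm a b)
  have sq' : a * (b * b) * (a * (b * b)) = a * a * b := by
    rw [((hc'.mul_right hc').symm.mul_mul_mul_comm a (b * b)),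
      show b * b * (b * b) = b * b * b * b by group, hb, one_mul]
  rw [sq] at e3
  rw [sq'] at e4
  simp only [hadd, ← Equiv.Perm.mul_apply, ← map_mul] at f1 f2
  have key : v = (v + φ b v + φ (b * b) v) + (φ a v + φ (a * b) v + φ (a * (b * b)) v) +
      (φ (a * a) v + φ (a * a * b) v + φ (a * a * (b * b)) v) -
      ((v + φ a v + φ (a * a) v) + (v + φ b v + φ (b * b) v) +
        (v + φ (a * b) v + φ (a * a * (b * b)) v) + (v + φ (a * (b * b)) v + φ (a * a * b) v)) +
      (v + v) + (v + v) := by abel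
  rw [e1, e2, e3, e4, f1, f2, h2] at key
  simpa [h2] using key

theorem map_add_zero (hadd : ∀ p u v, φ p (u + v) = φ p u + φ p v) (p : P) : φ p 0 = 0 :=
  (AddMonoidHom.mk' (φ p) (hadd p)).map_zero

theorem exists_hyp [Finite V] (h2 : ∀ v : V, v + v = 0)
    (hadd : ∀ p u v, φ p (u + v) = φ p u + φ p v) {E : Subgroup P} (hE : Odd (Nat.card E))
    (hab : ∀ x ∈ E, ∀ y ∈ E, x * y = y * x) (h3 : ∀ x ∈ E, x * x * x = 1)
    (hne : ∃ e ∈ E, φ e ≠ 1) : ∃ H, IsHyp E H ∧ compU φ hadd E H ≠ ⊥ := by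
  classical
  obtain ⟨e, he, hne⟩ := hne
  obtain ⟨u, hu⟩ : ∃ u, φ e u ≠ u := by
    by_contra hcon; push Not at hcon; exact hne (Equiv.ext hcon)
  let T : Set (Subgroup P) := {S | S ≤ E ∧ ∃ v, v ≠ 0 ∧ avg φ E v = 0 ∧ ∀ s ∈ S, φ s v = v}
  have hT : T.Nonempty := by
    refine ⟨⊥, bot_le, φ e u + u, fun h => ?_, ?_, fun s hs => ?_⟩
    · exact hu (by rw [← add_zero (φ e u), ← h2 u, ← add_assoc, h, zero_add])
    · rw [avg_add φ hadd, ← avg_comm φ hadd E (fun s hs => hab e he s hs), avg_fixed φ hadd E he, h2]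
    · rw [Subgroup.mem_bot.1 hs, map_one]; rfl
  obtain ⟨H, hH⟩ := T.toFinite.exists_maximal hT
  obtain ⟨hHE, v, hv0, hvE, hvH⟩ := hH.prop
  refine ⟨H, ⟨hHE, ?_, ?_⟩, fun h => hv0 ?_⟩
  · rintro rfl
    exact hv0 (by rw [← hvE, avg_of_fixed φ h2 _ hE hvH])
  · intro a ha haH b hb
    by_contra hcon
    push Not at hcon
    obtain ⟨g1, g2, g3⟩ := hcon
    have hout : ∀ c ∈ ({a, b, a * b, a * (b * b)} : Set P), c ∈ E ∧ c ∉ H := by
      intro c hc
      simp only [Set.mem_insert_iff, Set.mem_singleton_iff] at hc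
      rcases hc with rfl | rfl | rfl | rfl
      · exact ⟨ha, haH⟩
      · exact ⟨hb, g1⟩
      · exact ⟨mul_mem ha hb, fun h => g2 (hab a ha b hb ▸ h)⟩
      · refine ⟨mul_mem ha (mul_mem hb hb), fun h => g3 ?_⟩
        have e1 : b * a * a = (a * (b * b))⁻¹ := by
          rw [eq_inv_iff_mul_eq_one]
          calc b * a * a * (a * (b * b)) = b * (a * a * a) * (b * b) := by group
            _ = b * b * b := by rw [h3 a ha]; group
            _ = 1 := h3 b hb
        rw [e1]
        exact inv_mem h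
    refine hv0 (four_sums h2 (hab a ha b hb) (h3 a ha) (h3 b hb) hadd fun c hc => ?_)
    obtain ⟨hcE, hcH⟩ := hout c hc
    by_contra hw
    set w := v + φ c v + φ (c * c) v with hwdef
    have hcw : φ c w = w := by
      rw [hwdef, hadd, hadd, ← Equiv.Perm.mul_apply, ← Equiv.Perm.mul_apply, ← map_mul, ← map_mul,
        ← mul_assoc, h3 c hcE, map_one, Equiv.Perm.one_apply]
      abel
    have hle : H ⊔ Subgroup.zpowers c ∈ T := by
      refine ⟨sup_le hHE (Subgroup.zpowers_le.2 hcE), w, hw, ?_, ?_⟩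
      · rw [hwdef, avg_add φ hadd, avg_add φ hadd, ← avg_comm φ hadd E (fun s hs => hab c hcE s hs),
          ← avg_comm φ hadd E (fun s hs => hab _ (mul_mem hcE hcE) s hs), hvE,
          map_add_zero hadd, map_add_zero hadd, add_zero, add_zero]
      · let S : Subgroup P :=
          { carrier := {p | φ p w = w}
            one_mem' := by show φ 1 w = w; rw [map_one]; rfl
            mul_mem' := fun {p q} hp hq => by
              show φ (p * q) w = w
              rw [map_mul, Equiv.Perm.mul_apply, hq, hp]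
            inv_mem' := fun {p} hp => by
              show φ p⁻¹ w = w
              rw [map_inv, Equiv.Perm.inv_eq_iff_eq, hp] }
        refine fun s hs => (?_ : H ⊔ Subgroup.zpowers c ≤ S) hs
        refine sup_le (fun p hp => ?_) (Subgroup.zpowers_le.2 hcw)
        have hcp : ∀ q ∈ E, φ p (φ q v) = φ q v := fun q hq => by
          rw [← Equiv.Perm.mul_apply, ← map_mul, hab p (hHE hp) q hq, map_mul,
            Equiv.Perm.mul_apply, hvH p hp]
        show φ p w = w
        rw [hwdef, hadd, hadd, hvH p hp, hcp c hcE, hcp _ (mul_mem hcE hcE)]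
    exact hcH (hH.le_of_ge hle le_sup_left (Subgroup.mem_sup_right (Subgroup.mem_zpowers c)))
  · have : v ∈ compU φ hadd E H := ⟨hvH, hvE⟩
    rwa [h, AddSubgroup.mem_bot] at this

theorem avg_other (h2 : ∀ v : V, v + v = 0) (hadd : ∀ p u v, φ p (u + v) = φ p u + φ p v)
    {E H K : Subgroup P} (hE : Odd (Nat.card E)) (hab : ∀ x ∈ E, ∀ y ∈ E, x * y = y * x)
    (hH : IsHyp E H) (hK : IsHyp E K) (hne : K ≠ H) {v : V} (hv : v ∈ compU φ hadd E H) :
    avg φ K v = 0 := by
  obtain ⟨a, haK, haH⟩ : ∃ a ∈ K, a ∉ H := by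
    by_contra hcon; push Not at hcon; exact hne (hH.eq_of_le hK hcon)
  have hfix : ∀ e ∈ E, φ e (avg φ K v) = avg φ K v := by
    refine fixed_of_hyp hH (hK.le haK) haH (fun h hh => ?_) (avg_fixed φ hadd K haK v)
    rw [avg_comm φ hadd K (fun s hs => hab h (hH.le hh) s (hK.le hs)), hv.1 h hh]
  rw [← avg_of_fixed φ h2 E hE hfix]
  letI := Fintype.ofFinite ↥E
  letI := Fintype.ofFinite ↥K
  show ∑ s : ↥E, φ s (avg φ K v) = 0
  rw [Finset.sum_congr rfl fun (s : ↥E) _ =>
    avg_comm φ hadd K (fun t ht => hab s s.2 t (hK.le ht)) v]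
  show ∑ s : ↥E, ∑ t : ↥K, φ t (φ s v) = 0
  rw [Finset.sum_comm]
  refine Finset.sum_eq_zero fun t _ => ?_
  refine Eq.trans ?_ ((congrArg (φ t) hv.2).trans (map_add_zero hadd t))
  exact (map_sum (AddMonoidHom.mk' (φ t) (hadd t)) (fun s : ↥E => φ s v) Finset.univ).symm

theorem four_le_compU [Finite V] (h2 : ∀ v : V, v + v = 0)
    (hadd : ∀ p u v, φ p (u + v) = φ p u + φ p v) {E H : Subgroup P} (hE : Odd (Nat.card E))
    (hab : ∀ x ∈ E, ∀ y ∈ E, x * y = y * x) (h3 : ∀ x ∈ E, x * x * x = 1) (hH : IsHyp E H)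
    (hU : compU φ hadd E H ≠ ⊥) : 4 ≤ Nat.card (compU φ hadd E H) := by
  classical
  obtain ⟨v, hv, hv0⟩ := (AddSubgroup.bot_or_exists_ne_zero (compU φ hadd E H)).resolve_left hU
  obtain ⟨a, haE, haH⟩ : ∃ a ∈ E, a ∉ H := by
    by_contra hcon; push Not at hcon; exact hH.ne (le_antisymm hH.le hcon)
  have hmem : ∀ c ∈ E, φ c v ∈ compU φ hadd E H := fun c hc => by
    refine ⟨fun h hh => ?_, ?_⟩
    · rw [← Equiv.Perm.mul_apply, ← map_mul, hab h (hH.le hh) c hc, map_mul,
        Equiv.Perm.mul_apply, hv.1 h hh]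
    · rw [← avg_comm φ hadd E (fun s hs => hab c hc s hs), hv.2, map_add_zero hadd]
  have hav : φ a v ≠ v := fun h =>
    hv0 (by rw [← hv.2, avg_of_fixed φ h2 E hE (fixed_of_hyp hH haE haH hv.1 h)])
  have hz : φ a 0 = 0 := (AddMonoidHom.mk' (φ a) (hadd a)).map_zero
  have d1 : φ a v ≠ 0 := fun h => hv0 ((φ a).injective (h.trans hz.symm))
  have d2 : φ (a * a) v ≠ 0 := by
    rw [map_mul, Equiv.Perm.mul_apply]
    exact fun h => d1 ((φ a).injective (h.trans hz.symm))
  have d3 : φ (a * a) v ≠ φ a v := by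
    rw [map_mul, Equiv.Perm.mul_apply]
    exact fun h => hav ((φ a).injective h)
  have d4 : φ (a * a) v ≠ v := fun h => hav (by
    conv_lhs => rw [← h]
    rw [← Equiv.Perm.mul_apply, ← map_mul, ← mul_assoc, h3 a haE, map_one, Equiv.Perm.one_apply])
  have hcard : ({0, v, φ a v, φ (a * a) v} : Set V).ncard = 4 := by
    rw [Set.ncard_insert_of_notMem (by
        simp only [Set.mem_insert_iff, Set.mem_singleton_iff, not_or]
        exact ⟨Ne.symm hv0, Ne.symm d1, Ne.symm d2⟩),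
      Set.ncard_insert_of_notMem (by
        simp only [Set.mem_insert_iff, Set.mem_singleton_iff, not_or]
        exact ⟨hav.symm, d4.symm⟩), Set.ncard_pair d3.symm]
  rw [← hcard]
  refine le_trans ?_ (Nat.card_coe_set_eq (compU φ hadd E H : Set V)).ge
  refine Set.ncard_le_ncard ?_ (Set.toFinite _)
  rintro x (rfl | rfl | rfl | rfl)
  exacts [zero_mem _, hv, hmem a haE, hmem _ (mul_mem haE haE)]

/-- At most five subgroups occur. -/
theorem card_hyps [Finite V] (h2 : ∀ v : V, v + v = 0) (hV : Nat.card V ≤ 2 ^ 10)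
    (hadd : ∀ p u v, φ p (u + v) = φ p u + φ p v) {E : Subgroup P} (hE : Odd (Nat.card E))
    (hab : ∀ x ∈ E, ∀ y ∈ E, x * y = y * x) (h3 : ∀ x ∈ E, x * x * x = 1) :
    Nat.card {H : Subgroup P // IsHyp E H ∧ compU φ hadd E H ≠ ⊥} ≤ 5 := by
  classical
  set I := {H : Subgroup P // IsHyp E H ∧ compU φ hadd E H ≠ ⊥}
  letI := Fintype.ofFinite I
  let f : ((i : I) → ↥(compU φ hadd E i.1)) → V := fun x => ∑ i, (x i : V)
  have hodd : ∀ K : Subgroup P, K ≤ E → Odd (Nat.card K) := fun K hK =>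
    hE.of_dvd_nat (Subgroup.card_dvd_of_le hK)
  have hproj : ∀ x j, avg φ (j : I).1 (f x) = x j := by
    intro x j
    rw [show avg φ j.1 (f x) = ∑ i, avg φ j.1 (x i : V) from
      map_sum (AddMonoidHom.mk' (avg φ j.1) (avg_add φ hadd _)) _ _,
      Finset.sum_eq_single j]
    · exact avg_of_fixed φ h2 _ (hodd _ j.2.1.le) (x j).2.1
    · exact fun i _ hij => avg_other h2 hadd hE hab i.2.1 j.2.1
        (fun e => hij (Subtype.ext e.symm)) (x i).2
    · exact fun h => absurd (Finset.mem_univ j) h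
  have hf : Function.Injective f := fun x y h =>
    funext fun j => Subtype.ext (by rw [← hproj x j, ← hproj y j, h])
  have h1 := Nat.card_le_card_of_injective f hf
  rw [Nat.card_pi] at h1
  have h4 : 4 ^ Fintype.card I ≤ ∏ i : I, Nat.card ↥(compU φ hadd E i.1) := by
    rw [← Finset.card_univ]
    exact Finset.pow_card_le_prod _ _ _ fun i _ => four_le_compU h2 hadd hE hab h3 i.2.1 i.2.2
  rw [Nat.card_eq_fintype_card]
  by_contra hcon
  have h6 : 4 ^ 6 ≤ 4 ^ Fintype.card I := Nat.pow_le_pow_right (by norm_num) (by omega)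
  have := (h6.trans (h4.trans (h1.trans hV)))
  norm_num at this

/-! ### The quotient of the model -/

theorem Ebar_comm : ∀ x ∈ Ebar, ∀ y ∈ Ebar, x * y = y * x := by
  rintro _ ⟨g, ⟨d, hd⟩, rfl⟩ _ ⟨g', ⟨d', hd'⟩, rfl⟩
  rw [← map_mul, ← map_mul]
  refine congrArg thetaK (Subtype.ext (mat_ext ?_))
  rw [Subgroup.coe_mul, Subgroup.coe_mul, mat_mul, mat_mul]
  change mat (g : ↥SG) = _ at hd
  change mat (g' : ↥SG) = _ at hd'
  rw [hd, hd', mono_mul, mono_mul]
  congr 1
  exact funext fun c => mul_comm _ _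

theorem Ebar_cube : ∀ x ∈ Ebar, x * x * x = 1 := by
  rintro _ ⟨g, ⟨d, hd⟩, rfl⟩
  change mat (g : ↥SG) = _ at hd
  rw [← map_mul, ← map_mul, ← map_one thetaK]
  refine congrArg thetaK (Subtype.ext (mat_ext ?_))
  rw [Subgroup.coe_mul, Subgroup.coe_mul, mat_mul, mat_mul, hd, mono_mul, mono_mul, one_mul,
    one_mul, OneMemClass.coe_one, mat_one, ← mono_one]
  congr 1
  funext c
  simp only [Equiv.Perm.one_apply]
  have hdet := det_mat (g : ↥SG)
  rw [hd, det_mono] at hdet
  have key : ∀ x : K4, x ≠ 0 → x * x * x = 1 := by decide +kernel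
  exact key _ (ne_zero_of_prod (by simpa using hdet) c)

theorem odd_card_Ebar : Odd (Nat.card Ebar) := by
  have h : Nat.card Ebar ∣ 243 := by
    have := Subgroup.card_map_dvd (H := Dgrp.subgroupOf Kg) thetaK
    rw [Nat.card_congr (Subgroup.subgroupOfEquivOfLe D_le_K).toEquiv, card_D] at this
    exact this
  exact Odd.of_dvd_nat (by decide) h

theorem aG_not_scalar : thetaK ⟨aG 0, aG_mem 0⟩ ≠ 1 := by
  rw [Ne, thetaK_eq_one_iff]
  rintro ⟨c, hc⟩
  have h0 := congrFun (congrFun hc 0) 0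
  have h1 := congrFun (congrFun hc 1) 1
  change mat (aG 0) 0 0 = _ at h0
  change mat (aG 0) 1 1 = _ at h1
  rw [aG, diagG, mat_monoG] at h0 h1
  simp only [mono_apply, Equiv.Perm.one_apply, if_true] at h0 h1
  have key : dd 0 0 ≠ dd 0 1 ∨ dd 0 2 ≠ dd 0 0 := by decide +kernel
  rcases key with e | e
  · exact e (h0.trans h1.symm)
  · have h2 := congrFun (congrFun hc 2) 2
    change mat (aG 0) 2 2 = _ at h2
    rw [aG, diagG, mat_monoG] at h2
    simp only [mono_apply, Equiv.Perm.one_apply, if_true] at h2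
    exact e (h2.trans h0.symm)

/-- The permutation part of the monomial group in the quotient. -/
noncomputable def pmBar : ↥(alternatingGroup (Fin 6)) →* ↥UFourThree.chainGrp :=
  MonoidHom.mk' (fun π => ⟨thetaK ⟨pmG (π : Equiv.Perm (Fin 6)),
      M_le_K (pmG_mem (Equiv.Perm.mem_alternatingGroup.1 π.2))⟩, thetaK_mem _⟩)
    fun π π' => Subtype.ext (by
      show thetaK _ = thetaK _ * thetaK _
      rw [← map_mul]
      exact congrArg thetaK (Subtype.ext (map_mul pmG _ _)))

theorem no_small_action {V : Type*} [AddCommGroup V] [Finite V] (h2 : ∀ v : V, v + v = 0)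
    (hV : Nat.card V ≤ 2 ^ 10) (φ : ↥UFourThree.chainGrp →* Equiv.Perm V)
    (hadd : ∀ p u v, φ p (u + v) = φ p u + φ p v) : ¬ Function.Injective φ := by
  classical
  intro hinj
  set E : Subgroup ↥UFourThree.chainGrp := Ebar.subgroupOf UFourThree.chainGrp with hEdef
  have hab : ∀ x ∈ E, ∀ y ∈ E, x * y = y * x := fun x hx y hy =>
    Subtype.ext (Ebar_comm _ hx _ hy)
  have h3 : ∀ x ∈ E, x * x * x = 1 := fun x hx => Subtype.ext (Ebar_cube _ hx)
  have hE : Odd (Nat.card E) := by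
    rw [hEdef, Nat.card_congr (Subgroup.subgroupOfEquivOfLe Ebar_le).toEquiv]
    exact odd_card_Ebar
  let a : Fin 5 → ↥UFourThree.chainGrp := fun k => ⟨thetaK ⟨aG k, aG_mem k⟩, thetaK_mem _⟩
  have haE : ∀ k, a k ∈ E := fun k => ⟨⟨aG k, aG_mem k⟩, diagG_mem _ (dd_prod k), rfl⟩
  obtain ⟨H₀, hH₀⟩ := exists_hyp (φ := φ) h2 hadd hE hab h3 ⟨a 0, haE 0, fun h =>
    aG_not_scalar (congrArg Subtype.val (hinj (h.trans (map_one φ).symm)))⟩
  set I := {H : Subgroup ↥UFourThree.chainGrp // IsHyp E H ∧ compU φ hadd E H ≠ ⊥}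
  have hI : Nat.card I ≤ 5 := card_hyps h2 hV hadd hE hab h3
  -- the permutation matrices normalise the group
  have hnorm : ∀ π, ∀ x ∈ E, pmBar π * x * (pmBar π)⁻¹ ∈ E := by
    rintro π x ⟨g, hg, hgx⟩
    refine ⟨⟨pmG (π : Equiv.Perm (Fin 6)), M_le_K (pmG_mem (Equiv.Perm.mem_alternatingGroup.1 π.2))⟩
      * g * ⟨pmG (π : Equiv.Perm (Fin 6)),
        M_le_K (pmG_mem (Equiv.Perm.mem_alternatingGroup.1 π.2))⟩⁻¹, ?_, ?_⟩
    · exact D_conj_M (pmG_mem (Equiv.Perm.mem_alternatingGroup.1 π.2)) hg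
    · rw [map_mul, map_mul, map_inv, hgx]; rfl
  -- conjugation permutes the subgroups that occur
  have hmove : ∀ π H, (IsHyp E H ∧ compU φ hadd E H ≠ ⊥) →
      IsHyp E (H.map (MulAut.conj (pmBar π)).toMonoidHom) ∧
        compU φ hadd E (H.map (MulAut.conj (pmBar π)).toMonoidHom) ≠ ⊥ := by
    intro π H hH
    set n := pmBar π with hn
    have hn' : ∀ x ∈ E, n⁻¹ * x * n ∈ E := fun x hx => by
      have := hnorm π⁻¹ x hx
      rwa [map_inv, inv_inv] at this
    refine ⟨⟨?_, ?_, ?_⟩, ?_⟩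
    · rintro _ ⟨h, hh, rfl⟩
      exact hnorm π h (hH.1.le hh)
    · intro h
      refine hH.1.ne (le_antisymm hH.1.le fun x hx => ?_)
      have : n * x * n⁻¹ ∈ H.map (MulAut.conj n).toMonoidHom := h.symm ▸ hnorm π x hx
      obtain ⟨y, hy, e⟩ := this
      rwa [← (MulAut.conj n).injective e]
    · intro x hx hxH b hb
      have hx' : n⁻¹ * x * n ∉ H := fun h => hxH ⟨_, h, by
        show n * (n⁻¹ * x * n) * n⁻¹ = x; group⟩
      rcases hH.1.cases _ (hn' x hx) hx' _ (hn' b hb) with h | h | h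
      · exact Or.inl ⟨_, h, by show n * (n⁻¹ * b * n) * n⁻¹ = b; group⟩
      · exact Or.inr (Or.inl ⟨_, h, by
          show n * (n⁻¹ * b * n * (n⁻¹ * x * n)) * n⁻¹ = b * x; group⟩)
      · exact Or.inr (Or.inr ⟨_, h, by
          show n * (n⁻¹ * b * n * (n⁻¹ * x * n) * (n⁻¹ * x * n)) * n⁻¹ = b * x * x; group⟩)
    · intro hbot
      refine hH.2 ((AddSubgroup.eq_bot_iff_forall _).2 fun v hv => ?_)
      have hmem : φ n v ∈ compU φ hadd E (H.map (MulAut.conj n).toMonoidHom) := by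
        refine ⟨?_, ?_⟩
        · rintro _ ⟨h, hh, rfl⟩
          show φ (n * h * n⁻¹) (φ n v) = φ n v
          rw [← Equiv.Perm.mul_apply, ← map_mul, inv_mul_cancel_right, map_mul,
            Equiv.Perm.mul_apply, hv.1 h hh]
        · letI := Fintype.ofFinite ↥E
          let f : V →+ V := AddMonoidHom.mk' (φ n) (hadd n)
          show ∑ s : ↥E, φ s (φ n v) = 0
          have e0 : f (avg φ E v) = ∑ s : ↥E, f (φ s v) := map_sum f _ _
          rw [hv.2, map_zero] at e0
          rw [e0]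
          let σE : ↥E ≃ ↥E :=
            { toFun := fun s => ⟨n⁻¹ * s * n, hn' s s.2⟩
              invFun := fun s => ⟨n * s * n⁻¹, hnorm π s s.2⟩
              left_inv := fun s => Subtype.ext (by show n * (n⁻¹ * s * n) * n⁻¹ = _; group)
              right_inv := fun s => Subtype.ext (by show n⁻¹ * (n * s * n⁻¹) * n = _; group) }
          refine Fintype.sum_equiv σE _ _ fun s => ?_
          show φ s (φ n v) = φ n (φ (n⁻¹ * s * n) v)
          rw [← Equiv.Perm.mul_apply, ← map_mul, ← Equiv.Perm.mul_apply, ← map_mul]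
          group
      rw [hbot, AddSubgroup.mem_bot] at hmem
      exact (φ n).injective (hmem.trans (AddMonoidHom.mk' (φ n) (hadd n)).map_zero.symm)
  let σ : ↥(alternatingGroup (Fin 6)) → I → I := fun π H => ⟨_, hmove π H.1 H.2⟩
  have σ_one : ∀ H, σ 1 H = H := fun H => Subtype.ext (by
    show H.1.map (MulAut.conj (pmBar 1)).toMonoidHom = H.1
    rw [map_one, map_one]; exact Subgroup.map_id _)
  have σ_mul : ∀ π π' H, σ (π * π') H = σ π (σ π' H) := fun π π' H => Subtype.ext (by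
    show H.1.map (MulAut.conj (pmBar (π * π'))).toMonoidHom =
      (H.1.map (MulAut.conj (pmBar π')).toMonoidHom).map (MulAut.conj (pmBar π)).toMonoidHom
    rw [Subgroup.map_map, map_mul, map_mul]; rfl)
  let act : ↥(alternatingGroup (Fin 6)) →* Equiv.Perm I := MonoidHom.mk'
    (fun π => ⟨σ π, σ π⁻¹, fun H => by rw [← σ_mul, inv_mul_cancel, σ_one],
      fun H => by rw [← σ_mul, mul_inv_cancel, σ_one]⟩)
    fun π π' => Equiv.ext fun H => σ_mul π π' H
  have htriv : ∀ π, act π = 1 := by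
    haveI : IsSimpleGroup ↥(alternatingGroup (Fin 6)) :=
      alternatingGroup.isSimpleGroup (by simp)
    rcases IsSimpleGroup.eq_bot_or_eq_top_of_normal act.ker (MonoidHom.normal_ker act) with h | h
    · exfalso
      have h1 := Nat.card_le_card_of_injective act ((MonoidHom.ker_eq_bot_iff act).1 h)
      rw [nat_card_alternatingGroup, Nat.card_fin, Nat.card_perm] at h1
      have h2 : (Nat.card I).factorial ≤ (5 : ℕ).factorial := Nat.factorial_le hI
      norm_num [Nat.factorial] at h1 h2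
      omega
    · exact fun π => MonoidHom.mem_ker.1 (h ▸ Subgroup.mem_top π)
  have hfix : ∀ π, ∀ x ∈ H₀, pmBar π * x * (pmBar π)⁻¹ ∈ H₀ := by
    intro π x hx
    have e : σ π ⟨H₀, hH₀⟩ = ⟨H₀, hH₀⟩ := congrFun (congrArg DFunLike.coe (htriv π)) _
    have hm : H₀.map (MulAut.conj (pmBar π)).toMonoidHom = H₀ := congrArg Subtype.val e
    have := Subgroup.mem_map_of_mem (MulAut.conj (pmBar π)).toMonoidHom hx
    rwa [hm] at this
  -- the two relations between generators
  have hrel : ∀ k l, k ≠ l → ∃ π, pmBar π * a k * (pmBar π)⁻¹ = (a k)⁻¹ ∧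
      pmBar π * a l * (pmBar π)⁻¹ = a l * (a k)⁻¹ := by
    intro k l hkl
    obtain ⟨π, hs, hr⟩ := perm_rel k l hkl
    refine ⟨⟨π, Equiv.Perm.mem_alternatingGroup.2 hs⟩, ?_, ?_⟩
    · rw [eq_inv_iff_mul_eq_one]
      refine Subtype.ext ?_
      show thetaK _ * thetaK _ * (thetaK _)⁻¹ * thetaK _ = 1
      rw [← map_inv, ← map_mul, ← map_mul, ← map_mul, ← map_one thetaK]
      refine congrArg thetaK (Subtype.ext ?_)
      show pmG π * aG k * (pmG π)⁻¹ * aG k = 1
      have hp : ∏ c, dd k (π⁻¹ c) = 1 := by rw [Equiv.prod_comp]; exact dd_prod k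
      rw [show aG k = diagG (dd k) (dd_prod k) from rfl, conj_diag π _ hp fun _ => rfl]
      refine mat_ext ?_
      rw [mat_mul, diagG, diagG, mat_monoG, mat_monoG, mono_mul, mul_one, mat_one, ← mono_one]
      congr 1
      exact funext fun c => (hr c).1
    · rw [eq_mul_inv_iff_mul_eq]
      refine Subtype.ext ?_
      show thetaK _ * thetaK _ * (thetaK _)⁻¹ * thetaK _ = thetaK _
      rw [← map_inv, ← map_mul, ← map_mul, ← map_mul]
      refine congrArg thetaK (Subtype.ext ?_)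
      show pmG π * aG l * (pmG π)⁻¹ * aG k = aG l
      have hp : ∏ c, dd l (π⁻¹ c) = 1 := by rw [Equiv.prod_comp]; exact dd_prod l
      rw [show aG l = diagG (dd l) (dd_prod l) from rfl, conj_diag π _ hp fun _ => rfl]
      refine mat_ext ?_
      rw [mat_mul, aG, diagG, diagG, diagG, mat_monoG, mat_monoG, mat_monoG, mono_mul, mul_one]
      congr 1
      exact funext fun c => (hr c).2
  have hpair : ∀ k l, k ≠ l → a k ∉ H₀ → a l ∉ H₀ ∧ a l * a k ∈ H₀ := by
    intro k l hkl hk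
    obtain ⟨π, r1, r2⟩ := hrel k l hkl
    have n1 : a l ∉ H₀ := fun h => by
      have := hfix π _ h
      rw [r2] at this
      exact hk (inv_mem_iff.1 ((H₀.mul_mem_cancel_left h).1 this))
    refine ⟨n1, ?_⟩
    rcases hH₀.1.cases _ (haE k) hk _ (haE l) with h | h | h
    · exact absurd h n1
    · exact h
    · exfalso
      have e1 : a l * a k * a k = a l * (a k)⁻¹ := by
        rw [mul_assoc]; congr 1
        exact eq_inv_of_mul_eq_one_left (h3 _ (haE k))
      rw [e1] at h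
      have := hfix π _ h
      rw [show pmBar π * (a l * (a k)⁻¹) * (pmBar π)⁻¹ = (pmBar π * a l * (pmBar π)⁻¹) *
        (pmBar π * a k * (pmBar π)⁻¹)⁻¹ by group, r1, r2, inv_inv, inv_mul_cancel_right] at this
      exact n1 this
  obtain ⟨k, hk⟩ : ∃ k, a k ∉ H₀ := by
    by_contra hcon
    push Not at hcon
    refine hH₀.1.ne (le_antisymm hH₀.1.le fun x hx => ?_)
    have hle : Ebar ≤ H₀.map UFourThree.chainGrp.subtype := by
      refine Ebar_eq_closure.trans ((Subgroup.closure_le _).2 ?_)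
      rintro _ ⟨k, rfl⟩
      exact ⟨a k, hcon k, rfl⟩
    obtain ⟨y, hy, e⟩ := hle hx
    rwa [← UFourThree.chainGrp.subtype_injective e]
  obtain ⟨l, m, hkl, hkm, hlm⟩ : ∃ l m : Fin 5, k ≠ l ∧ k ≠ m ∧ l ≠ m := by
    have : ∀ k : Fin 5, ∃ l m : Fin 5, k ≠ l ∧ k ≠ m ∧ l ≠ m := by decide
    exact this k
  obtain ⟨hl, glk⟩ := hpair k l hkl hk
  obtain ⟨-, gmk⟩ := hpair k m hkm hk
  obtain ⟨-, gml⟩ := hpair l m hlm hl
  apply hk
  have e1 : a k * (a l)⁻¹ ∈ H₀ := by
    have := mul_mem (inv_mem gml) gmk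
    rw [_root_.mul_inv_rev, mul_assoc, inv_mul_cancel_left] at this
    rwa [hab _ (haE k) _ (inv_mem (haE l))]
  have e2 : a k * a k ∈ H₀ := by
    have := mul_mem e1 glk
    rwa [mul_assoc, inv_mul_cancel_left] at this
  have e3 : a k = (a k * a k)⁻¹ := eq_inv_of_mul_eq_one_right (h3 _ (haE k))
  rw [e3]
  exact inv_mem e2

end Cfsg.Agent.H41.LFi
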