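import Cfsg.Agent.H41.LFi.Six
import Cfsg.Agent.H41.LFi.Perfect
import Cfsg.Prelude.Def_CaseTheorems

/-!
The centraliser in the centraliser of the involution of a subgroup of order three over the scalars
is the six-fold cover of U4(3).
-/

set_option autoImplicit false
set_option linter.unusedSectionVars false
set_option linter.style.haveILetI false
set_option maxRecDepth 20000
set_option maxHeartbeats 1000000

namespace Cfsg.Agent.H41.LFi

open Cfsg Cfsg.Agent.Compute Cfsg.Agent.Unitary Cfsg.Agent.H41.SUSix Matrix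

attribute [local irreducible] mapsC sift invPerm H95.UFourThree.u43Chain

theorem lin_scalar {g : ↥SG} {c : K4} (hc : mat g = mono (fun _ => c) 1) (u : Vec) :
    lin g u = c • u := by
  rw [lin_apply, ap_def, hc, mono_eq_diagonal]
  funext i
  rw [Matrix.mulVec_diagonal, Pi.smul_apply, smul_eq_mul]

variable {G : Type*} [Group G] [Finite G] {z : G}

namespace LSetup

variable {Qm : Subgroup G} (S : LSetup z Qm)
include S

/-- A generator acting as the primitive scalar. -/
theorem exists_omega {X : Subgroup ↥(Subgroup.centralizer ({z} : Set G))} (hX : Nat.card X = 3)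
    (hXQ : (X ⊔ Qm.subgroupOf (Subgroup.centralizer ({z} : Set G))).Normal) :
    ∃ x : ↥(Subgroup.centralizer ({z} : Set G)), x ∈ X ∧ x * x * x = 1 ∧
      (∀ h : ↥(Subgroup.centralizer ({z} : Set G)),
        h ∈ Subgroup.centralizer (X : Set ↥(Subgroup.centralizer ({z} : Set G))) ↔
          h * x = x * h) ∧
      ∀ u, S.ρ (x : G) u = ω₄ • u := by
  classical
  haveI : Fact (Nat.Prime 3) := ⟨Nat.prime_three⟩
  haveI : Nontrivial X := Finite.one_lt_card_iff_nontrivial.1 (by rw [hX]; norm_num)
  obtain ⟨⟨x, hx⟩, hne⟩ := exists_ne (1 : X)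
  have hgen : ∀ y ∈ X, y = 1 ∨ y = x ∨ y = x * x := by
    intro y hy
    obtain ⟨i, hi⟩ := mem_powers_of_prime_card hX hne (g' := (⟨y, hy⟩ : ↥X))
    simp only at hi
    rw [← pow_mod_natCard, hX] at hi
    have e : y = x ^ (i % 3) := (congrArg Subtype.val hi).symm
    rcases (show i % 3 = 0 ∨ i % 3 = 1 ∨ i % 3 = 2 by omega) with h | h | h <;> rw [h] at e
    · exact Or.inl (e.trans (pow_zero _))
    · exact Or.inr (Or.inl (e.trans (pow_one _)))
    · exact Or.inr (Or.inr (e.trans (pow_two _)))
  have hx3 : x * x * x = 1 := by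
    have h := pow_card_eq_one' (G := ↥X) (x := ⟨x, hx⟩)
    rw [hX, pow_succ, pow_two] at h
    exact congrArg Subtype.val h
  have hcent : ∀ {y : ↥(Subgroup.centralizer ({z} : Set G))}, y ∈ X → y ≠ 1 → y * y * y = 1 →
      ∀ h : ↥(Subgroup.centralizer ({z} : Set G)),
        h ∈ Subgroup.centralizer (X : Set ↥(Subgroup.centralizer ({z} : Set G))) ↔
          h * y = y * h := by
    intro y hy hy1 hy3 h
    rw [Subgroup.mem_centralizer_iff]
    refine ⟨fun hh => (hh y hy).symm, fun hh w hw => ?_⟩
    have hc : Commute h y := hh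
    have hxy : x = y ∨ x = y * y := by
      rcases hgen y hy with e | e | e
      · exact absurd e hy1
      · exact Or.inl e.symm
      · refine Or.inr ?_
        rw [e, show x * x * (x * x) = x * x * x * x by group, hx3, one_mul]
    have hcx : Commute h x := by
      rcases hxy with e | e <;> rw [e]
      · exact hc
      · exact hc.mul_right hc
    rcases hgen w hw with e | e | e <;> rw [e]
    · simp
    · exact hcx.eq.symm
    · exact (hcx.mul_right hcx).eq.symm
  set r := S.rhoHom with hr
  have hmap : (X ⊔ Qm.subgroupOf (Subgroup.centralizer ({z} : Set G))).map r = X.map r := by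
    rw [Subgroup.map_sup, ← S.rhoHom_ker, (Subgroup.map_eq_bot_iff _).2 le_rfl, sup_bot_eq]
  have hr1 : r x ≠ 1 := by
    intro e
    have : x ∈ Qm.subgroupOf (Subgroup.centralizer ({z} : Set G)) := by
      rw [← S.rhoHom_ker]; exact e
    have hd := Subgroup.orderOf_dvd_natCard Qm (Subgroup.mem_subgroupOf.1 this)
    rw [Subgroup.orderOf_coe, orderOf_eq_prime (by rw [pow_succ, pow_two]; exact hx3)
      (fun e => hne (Subtype.ext e)), S.card_Q] at hd
    norm_num at hd
  have hxK : r x ∈ Kl := by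
    by_contra hK
    have hzx := Subgroup.mem_centralizer_singleton_iff.1 x.2
    have h2 : r (x * x) ∈ Kl := by
      rw [map_mul]; exact S.two_elts hzx hzx hK hK
    refine hK ?_
    have e : x = x * x * (x * x) := by
      rw [show x * x * (x * x) = x * x * x * x by group, hx3, one_mul]
    rw [e, map_mul]
    exact Kl.mul_mem h2 h2
  have hscal := scalar_of_normal_three hxK (by rw [← map_mul, ← map_mul, hx3, map_one]) hr1
    (fun k hk => by
      obtain ⟨c, hc, ec⟩ := S.ρ_surj k hk
      let c' : ↥(Subgroup.centralizer ({z} : Set G)) :=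
        ⟨c, Subgroup.mem_centralizer_singleton_iff.2 hc⟩
      have hm := Subgroup.mem_map_of_mem r
        (hXQ.conj_mem x (Subgroup.mem_sup_left hx) c')
      rw [hmap, map_mul, map_mul, map_inv, show r c' = k from ec] at hm
      obtain ⟨y, hy, ey⟩ := hm
      rcases hgen y hy with e | e | e <;> rw [e] at ey
      · rw [map_one] at ey
        exact absurd (conj_eq_one_iff.1 ey.symm) hr1
      · exact Or.inl ey.symm
      · rw [map_mul] at ey
        exact Or.inr ey.symm)
  have hx1 : x ≠ 1 := fun e => hne (Subtype.ext e)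
  rcases hscal with h | h
  · exact ⟨x, hx, hx3, hcent hx hx1 hx3, h⟩
  · have hxx3 : x * x * (x * x) * (x * x) = 1 := by
      rw [show x * x * (x * x) * (x * x) = (x * x * x) * (x * x * x) by group, hx3, one_mul]
    refine ⟨x * x, X.mul_mem hx hx, hxx3, hcent (X.mul_mem hx hx) (fun e => hx1 ?_) hxx3, fun u => ?_⟩
    · rw [← hx3, e, one_mul]
    · show r (x * x) u = _
      rw [map_mul, Equiv.Perm.mul_apply, h, h, smul_smul]
      congr 1

/-- The structure of the centraliser of the element of order three. -/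
theorem centraliser_six
    (hP : ∀ g : G, g * z * g⁻¹ ∈ Qm → g * z * g⁻¹ ≠ z → H92.PairSetting Qm z g)
    (x : ↥(Subgroup.centralizer ({z} : Set G))) (hx3 : x * x * x = 1)
    (hω : ∀ u, S.ρ (x : G) u = ω₄ • u)
    (H : Subgroup ↥(Subgroup.centralizer ({z} : Set G))) (hH : ∀ h, h ∈ H ↔ h * x = x * h) :
    Cfsg.IsQuasisimple ↥H ∧ IsCyclic ↥(Subgroup.center ↥H) ∧
      Nat.card ↥(Subgroup.center ↥H) = 6 ∧
      ∃ (K : Type) (_ : Field K) (_ : Fintype K), Fintype.card K = 9 ∧
        Nonempty (↥H ⧸ Subgroup.center ↥H ≃* Cfsg.PSU 4 K 3) := by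
  classical
  have hxz := Subgroup.mem_centralizer_singleton_iff.1 x.2
  have hzz : z * z = z * z := rfl
  let zC : ↥(Subgroup.centralizer ({z} : Set G)) :=
    ⟨z, Subgroup.mem_centralizer_singleton_iff.2 hzz⟩
  have hzcomm : ∀ c : ↥(Subgroup.centralizer ({z} : Set G)), c * zC = zC * c :=
    fun c => Subtype.ext (Subgroup.mem_centralizer_singleton_iff.1 c.2)
  let zH : ↥H := ⟨zC, (hH _).2 (hzcomm x).symm⟩
  let xH : ↥H := ⟨x, (hH _).2 rfl⟩
  obtain ⟨g0, hg0, hne0⟩ := S.nwc
  have h0 := hP g0 hg0 hne0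
  let rH : ↥H →* Equiv.Perm Vec := S.rhoHom.comp H.subtype
  have hrH : ∀ h : ↥H, rH h = S.ρ ((h : ↥(Subgroup.centralizer ({z} : Set G))) : G) := fun h => rfl
  -- elements of the core commuting with `x`
  have hQx : ∀ q ∈ Qm, (x : G) * q * (x : G)⁻¹ = q → q = 1 ∨ q = z := by
    intro q hq e
    refine (S.π_zero q hq).1 ?_
    have h := S.ρ_π x hxz q hq
    rw [e, hω] at h
    funext i
    have key : ∀ b : K4, b = ω₄ * b → b = 0 := by decide +kernel
    exact key _ (congrFun h i)
  have hker : ∀ h : ↥H, rH h = 1 → h = 1 ∨ h = zH := by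
    intro h e
    have hz := Subgroup.mem_centralizer_singleton_iff.1 (h : ↥(Subgroup.centralizer ({z} : Set G))).2
    have hq := (S.ρ_ker _ hz).1 e
    rcases hQx _ hq (mul_inv_eq_iff_eq_mul.2 (congrArg Subtype.val ((hH _).1 h.2)).symm) with e1 | e1
    · exact Or.inl (Subtype.ext (Subtype.ext e1))
    · exact Or.inr (Subtype.ext (Subtype.ext e1))
  have hzker : rH zH = 1 := (S.ρ_ker z hzz).2 S.hzQ
  have hmem : ∀ h : ↥H, rH h ∈ Kl := by
    intro h
    by_contra hK
    have hz := Subgroup.mem_centralizer_singleton_iff.1 (h : ↥(Subgroup.centralizer ({z} : Set G))).2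
    have hs := S.outer_semi h0 hz hK
    have e : rH h * rH xH = rH xH * rH h := by
      rw [← map_mul, ← map_mul]
      exact congrArg rH (Subtype.ext ((hH _).1 h.2))
    have e' := Equiv.congr_fun e (Pi.single 0 1)
    rw [Equiv.Perm.mul_apply, Equiv.Perm.mul_apply, hrH xH, hω, hω, hrH h, hs.smul] at e'
    have hne : S.ρ ((h : ↥(Subgroup.centralizer ({z} : Set G))) : G) (Pi.single 0 1) ≠ (0 : Vec) :=
      fun e0 => by
        have := (S.ρ _).injective (e0.trans hs.map_zero.symm)
        exact absurd this (by decide +kernel)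
    obtain ⟨i, hi⟩ := Function.ne_iff.1 hne
    have key : ∀ b : K4, b ≠ 0 → tw true ω₄ * b ≠ ω₄ * b := by decide +kernel
    exact key _ hi (congrFun e' i)
  let rK : ↥H →* ↥Kl := rH.codRestrict _ hmem
  have hsurj : Function.Surjective rK := by
    rintro ⟨k, hk⟩
    obtain ⟨c, hc, ec⟩ := S.ρ_surj k hk
    have hlin := semi_of_mem_Kl hk
    -- the quotient of the conjugate by the element lies in the core
    have hy : c * (x : G) * c⁻¹ * (x : G)⁻¹ ∈ Qm := by
      have hcx := S.z_comm_mul (S.z_comm_mul hc hxz) (S.z_comm_inv hc)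
      refine (S.ρ_ker _ (S.z_comm_mul hcx (S.z_comm_inv hxz))).1 ?_
      rw [S.ρ_mul _ _ hcx (S.z_comm_inv hxz), S.ρ_mul _ _ (S.z_comm_mul hc hxz) (S.z_comm_inv hc),
        S.ρ_mul _ _ hc hxz, S.ρ_inv hc, S.ρ_inv hxz, ec, mul_inv_eq_one, mul_inv_eq_iff_eq_mul]
      refine Equiv.ext fun u => ?_
      rw [Equiv.Perm.mul_apply, Equiv.Perm.mul_apply, hω, hω, hlin.smul]
      rfl
    obtain ⟨r, hr, er⟩ := S.π_surj (ω₄ • S.π (c * (x : G) * c⁻¹ * (x : G)⁻¹))
    set q := c * (x : G) * c⁻¹ * (x : G)⁻¹ with hq'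
    set q' := r * ((x : G) * r⁻¹ * (x : G)⁻¹) with hq''
    have hq'Q : q' ∈ Qm := mul_mem hr (S.norm _ hxz _ (inv_mem hr))
    have hπ : S.π q' = S.π q := by
      rw [hq'', S.π_mul r hr _ (S.norm _ hxz _ (inv_mem hr)), S.ρ_π _ hxz _ (inv_mem hr),
        S.π_inv hr, hω, er, smul_smul]
      funext i
      have key : ∀ b : K4, ω₄ * b + ω₄ * ω₄ * b = b := by decide +kernel
      exact key _
    have hx3' : (x : G) * x * x = 1 := congrArg Subtype.val hx3
    have heq : c * (x : G) * c⁻¹ = r * (x : G) * r⁻¹ := by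
      have e1 : c * (x : G) * c⁻¹ = q * x := by rw [hq']; group
      have e2 : r * (x : G) * r⁻¹ = q' * x := by rw [hq'']; group
      rcases S.π_eq hq'Q hy hπ with e | e
      · rw [e1, e2, e]
      · exfalso
        have c1 : (q * x) * (q * x) * (q * x) = 1 := by
          rw [← e1]
          calc c * (x : G) * c⁻¹ * (c * x * c⁻¹) * (c * x * c⁻¹) = c * ((x : G) * x * x) * c⁻¹ := by
                group
            _ = 1 := by rw [hx3']; group
        have c2 : (q' * x) * (q' * x) * (q' * x) = 1 := by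
          rw [← e2]
          calc r * (x : G) * r⁻¹ * (r * x * r⁻¹) * (r * x * r⁻¹) = r * ((x : G) * x * x) * r⁻¹ := by
                group
            _ = 1 := by rw [hx3']; group
        have hwz : Commute (q' * (x : G)) z := S.z_comm_mul (S.le _ hq'Q) hxz
        rw [e, mul_assoc z q'] at c1
        apply S.z_ne
        calc z = (z * z) * z * ((q' * x) * (q' * x) * (q' * x)) := by
              rw [c2, mul_one, S.z_sq, one_mul]
          _ = z * (q' * x) * (z * (q' * x)) * (z * (q' * x)) := by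
              have h3 := hwz.symm.mul_pow 3
              simp only [pow_succ, pow_zero, one_mul] at h3
              exact h3.symm
          _ = 1 := c1
    have hd : (r⁻¹ * c) * (x : G) = (x : G) * (r⁻¹ * c) := by
      calc (r⁻¹ * c) * (x : G) = r⁻¹ * (c * (x : G) * c⁻¹) * c := by group
        _ = _ := by rw [heq]; group
    have hdz := S.z_comm_mul (S.z_comm_inv (S.le r hr)) hc
    refine ⟨⟨⟨r⁻¹ * c, Subgroup.mem_centralizer_singleton_iff.2 hdz⟩,
      (hH _).2 (Subtype.ext hd)⟩, Subtype.ext ?_⟩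
    show S.ρ (r⁻¹ * c) = k
    rw [S.ρ_mul _ _ (S.z_comm_inv (S.le r hr)) hc, S.ρ_inv (S.le r hr),
      (S.ρ_ker r (S.le r hr)).2 hr, inv_one, one_mul, ec]
  -- perfect
  set D := _root_.commutator ↥H with hD
  have hDmap : D.map rK = ⊤ := by
    rw [hD, _root_.commutator_def, Subgroup.map_commutator,
      Subgroup.map_top_of_surjective _ hsurj, ← _root_.commutator_def, commutator_Kl]
  have hperf : D = ⊤ := by
    by_cases hzD : zH ∈ D
    · have hle : rK.ker ≤ D := by
        intro h hh
        rcases hker h (congrArg Subtype.val (MonoidHom.mem_ker.1 hh)) with e | e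
        · exact e ▸ D.one_mem
        · exact e ▸ hzD
      rw [← Subgroup.comap_map_eq_self hle, hDmap, Subgroup.comap_top]
    exfalso
    refine S.no_complement hP hxz (congrArg Subtype.val hx3) hω
      ((D.map H.subtype).map (Subgroup.centralizer ({z} : Set G)).subtype) ?_ ?_ ?_ ?_
    · rintro _ ⟨_, ⟨h, -, rfl⟩, rfl⟩
      exact Subgroup.mem_centralizer_singleton_iff.1
        (h : ↥(Subgroup.centralizer ({z} : Set G))).2
    · rintro _ ⟨_, ⟨h, -, rfl⟩, rfl⟩
      exact congrArg Subtype.val ((hH _).1 h.2)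
    · intro k hk
      obtain ⟨h, hh, e⟩ : (⟨k, hk⟩ : ↥Kl) ∈ D.map rK := hDmap.symm ▸ Subgroup.mem_top _
      exact ⟨_, ⟨_, ⟨h, hh, rfl⟩, rfl⟩, congrArg Subtype.val e⟩
    · rintro _ ⟨_, ⟨h, hh, rfl⟩, rfl⟩ e
      rcases hker h e with e1 | e1
      · rw [e1]; rfl
      · exact absurd (e1 ▸ hh) hzD
  -- centre
  let eK : ↥Kg ≃* ↥Kl := Kg.equivMapOfInjective lin lin_injective
  let ψ : ↥H →* ↥H95.UFourThree.chainGrp := thetaR.comp (eK.symm.toMonoidHom.comp rK)
  have hψs : Function.Surjective ψ :=
    thetaR_surjective.comp (eK.symm.surjective.comp hsurj)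
  haveI := isSimple_chain
  have hcen : Subgroup.center ↥H = ψ.ker := by
    refine le_antisymm ?_ ?_
    · intro c hc
      rw [MonoidHom.mem_ker]
      have hψc : ψ c ∈ Subgroup.center ↥H95.UFourThree.chainGrp := by
        rw [Subgroup.mem_center_iff]
        intro y
        obtain ⟨h, rfl⟩ := hψs y
        rw [← map_mul, ← map_mul, Subgroup.mem_center_iff.1 hc h]
      rcases IsSimpleGroup.eq_bot_or_eq_top_of_normal
        (Subgroup.center ↥H95.UFourThree.chainGrp) inferInstance with e | e
      · rwa [e, Subgroup.mem_bot] at hψc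
      · exfalso
        letI : CommGroup ↥H95.UFourThree.chainGrp :=
          { (inferInstance : Group ↥H95.UFourThree.chainGrp) with
            mul_comm := fun a b => Subgroup.mem_center_iff.1 (e ▸ Subgroup.mem_top b) a }
        have hp := IsSimpleGroup.prime_card (α := ↥H95.UFourThree.chainGrp)
        rw [H95.UFourThree.card_chainGrp] at hp
        norm_num at hp
    · intro c hc
      have hs : IsScalar ((eK.symm (rK c) : ↥Kg) : ↥SG) := (thetaR_eq_one _).1 hc
      obtain ⟨a, ha⟩ := hs
      have hρ : ∀ u, rH c u = a • u := by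
        intro u
        have e : lin ((eK.symm (rK c) : ↥Kg) : ↥SG) = rH c :=
          congrArg Subtype.val (eK.apply_symm_apply (rK c))
        rw [← e]
        exact lin_scalar ha u
      have hcases : ∀ b : K4, b = 0 ∨ b = 1 ∨ b = ω₄ ∨ b = ω₄ * ω₄ := by decide +kernel
      have hcent : ∀ y : ↥H, rH (c * y⁻¹) = 1 → (∀ h, h * y = y * h) →
          c ∈ Subgroup.center ↥H := by
        intro y e hy
        have hy' : y ∈ Subgroup.center ↥H := Subgroup.mem_center_iff.2 hy
        have hz' : zH ∈ Subgroup.center ↥H :=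
          Subgroup.mem_center_iff.2 fun h => Subtype.ext (hzcomm _)
        rcases hker _ e with e1 | e1
        · exact (mul_inv_eq_one.1 e1).symm ▸ hy'
        · exact (mul_inv_eq_iff_eq_mul.1 e1).symm ▸ mul_mem hz' hy'
      have hxc : ∀ h : ↥H, h * xH = xH * h := fun h => Subtype.ext ((hH _).1 h.2)
      rcases hcases a with rfl | rfl | rfl | rfl
      · have h1 := (rH c).injective ((hρ (Pi.single 0 1)).trans ((zero_smul K4 _).trans
          ((hρ 0).trans (zero_smul K4 _)).symm))
        exact absurd h1 (by decide +kernel)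
      · refine hcent 1 ?_ (fun h => by rw [mul_one, one_mul])
        rw [inv_one, mul_one]
        exact Equiv.ext fun u => (hρ u).trans (one_smul K4 u)
      · refine hcent xH ?_ hxc
        rw [map_mul, map_inv, mul_inv_eq_one]
        exact Equiv.ext fun u => (hρ u).trans (hω u).symm
      · refine hcent (xH * xH) ?_ (fun h => by rw [← mul_assoc, hxc, mul_assoc, hxc, ← mul_assoc])
        rw [map_mul, map_inv, mul_inv_eq_one]
        refine Equiv.ext fun u => (hρ u).trans ?_
        rw [map_mul, Equiv.Perm.mul_apply, hrH, hω, hω, smul_smul]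
  have hcardH : Nat.card ↥H = 2 * (3 * 3265920) := by
    have h := Subgroup.card_mul_index rK.ker
    rw [Subgroup.index_ker, MonoidHom.range_eq_top.2 hsurj,
      Nat.card_congr Subgroup.topEquiv.toEquiv, card_Kl] at h
    have hk : Nat.card rK.ker = 2 := by
      rw [Nat.card_eq_two_iff' (⟨1, one_mem _⟩ : rK.ker)]
      refine ⟨⟨zH, MonoidHom.mem_ker.2 (Subtype.ext hzker)⟩, fun e => S.z_ne
        (congrArg (fun y : rK.ker => (((y : ↥H) : ↥(Subgroup.centralizer ({z} : Set G))) : G)) e), ?_⟩
      rintro ⟨h', hh⟩ h1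
      rcases hker h' (congrArg Subtype.val (MonoidHom.mem_ker.1 hh)) with e | e
      · exact absurd (Subtype.ext e) h1
      · exact Subtype.ext e
    rw [hk] at h
    exact h.symm
  have h6 : Nat.card ↥(Subgroup.center ↥H) = 6 := by
    have h := Subgroup.card_mul_index ψ.ker
    rw [Subgroup.index_ker, MonoidHom.range_eq_top.2 hψs,
      Nat.card_congr Subgroup.topEquiv.toEquiv, H95.UFourThree.card_chainGrp, hcardH,
      show 2 * (3 * 3265920) = 6 * 3265920 by norm_num] at h
    rw [hcen]
    exact Nat.eq_of_mul_eq_mul_right (by norm_num) h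
  have hcyc : IsCyclic ↥(Subgroup.center ↥H) := by
    have hxzc : Commute xH zH := Subtype.ext (hzcomm _)
    have hmem' : xH * zH ∈ Subgroup.center ↥H := by
      refine mul_mem (Subgroup.mem_center_iff.2 fun h => Subtype.ext ((hH _).1 h.2))
        (Subgroup.mem_center_iff.2 fun h => Subtype.ext (hzcomm _))
    refine isCyclic_of_orderOf_eq_card (⟨_, hmem'⟩ : ↥(Subgroup.center ↥H)) ?_
    rw [h6, Subgroup.orderOf_mk]
    haveI : Fact (Nat.Prime 3) := ⟨Nat.prime_three⟩
    have hx1 : (x : G) ≠ 1 := fun e => by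
      have := hω (Pi.single 0 1)
      rw [e, S.ρ_one] at this
      exact absurd this (by decide +kernel)
    have ox : orderOf xH = 3 := by
      rw [← Subgroup.orderOf_coe, ← Subgroup.orderOf_coe]
      exact orderOf_eq_prime (by rw [pow_succ, pow_two]; exact congrArg Subtype.val hx3) hx1
    have oz : orderOf zH = 2 := by
      rw [← Subgroup.orderOf_coe, ← Subgroup.orderOf_coe]
      exact S.hzo
    rw [hxzc.orderOf_mul_eq_mul_orderOf_of_coprime (by rw [ox, oz]; norm_num), ox, oz]
  letI : Fintype (GaloisField 3 2) := Fintype.ofFinite _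
  have h9 : Fintype.card (GaloisField 3 2) = 9 := by
    rw [← Nat.card_eq_fintype_card, GaloisField.card 3 2 (by norm_num)]
    norm_num
  obtain ⟨e9⟩ := H95.UFourThree.psu_chain (F := GaloisField 3 2) h9
  let eQ : ↥H ⧸ Subgroup.center ↥H ≃* ↥H95.UFourThree.chainGrp :=
    (QuotientGroup.quotientMulEquivOfEq hcen).trans
      (QuotientGroup.quotientKerEquivOfSurjective ψ hψs)
  haveI : Nontrivial (↥H ⧸ Subgroup.center ↥H) := eQ.toEquiv.nontrivial
  refine ⟨⟨⟨hperf⟩, IsSimpleGroup.isSimpleGroup_of_surjective eQ.symm.toMonoidHom eQ.symm.surjective⟩,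
    hcyc, h6, GaloisField 3 2, inferInstance, inferInstance, h9, ⟨eQ.trans e9.symm⟩⟩

end LSetup

end Cfsg.Agent.H41.LFi
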