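import Cfsg.Agent.H41.LFi.NoSmall
import Cfsg.Agent.H41.LFi.Herm
import Cfsg.Agent.H41.LFi.Orbits
import Cfsg.Agent.H92.ExtraForm
import Cfsg.Agent.H92.LargeSimple
import Cfsg.Agent.Unitary.Simple
import Cfsg.Agent.H41.SUSix.Main
import Cfsg.Prelude.Def_MonsterType

/-!
Groups of large Fischer type: the centraliser of the central involution acts semilinearly on the
unitary space of the extraspecial core, with the model as the image of the subgroup of index two.
-/

set_option autoImplicit false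
set_option linter.style.haveILetI false
set_option linter.unusedSectionVars false
set_option maxRecDepth 20000

namespace Cfsg.Agent.H41.LFi

open Cfsg Cfsg.Agent.Compute Cfsg.Agent.Unitary Cfsg.Agent.H41.SUSix Matrix

open Cfsg.Agent.H92.ExtraForm (zp zp_inj zp_add FormMap exists_formMap)

attribute [local irreducible] mapsC sift invPerm H95.UFourThree.u43Chain

/-! ### The two characteristic subgroups -/

section Tower

variable {C : Type*} [Group C] [Finite C] {Q N M : Subgroup C}

/-- The hypothesis on the tower of normal subgroups. -/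
structure Tower (Q N M : Subgroup C) : Prop where
  QN : Q ≤ N
  NM : N ≤ M
  normalN : N.Normal
  normalM : M.Normal
  cardN : Nat.card N = 3 * Nat.card Q
  quot : ∃ (F9 : Type) (_ : Field F9) (_ : Fintype F9) (_ : (N.subgroupOf M).Normal),
    Fintype.card F9 = 9 ∧ Nonempty (↥M ⧸ N.subgroupOf M ≃* Cfsg.PSU 4 F9 3)
  cardQ : Nat.card Q = 2 ^ 13

theorem Tower.chain (T : Tower Q N M) [hN : (N.subgroupOf M).Normal] :
    Nonempty (↥M ⧸ N.subgroupOf M ≃* ↥H95.UFourThree.chainGrp) := by
  obtain ⟨F9, i1, i2, i3, h9, ⟨e⟩⟩ := T.quot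
  obtain ⟨e'⟩ := H95.UFourThree.psu_chain (F := F9) h9
  exact ⟨e.trans e'⟩

theorem Tower.simple (T : Tower Q N M) [hN : (N.subgroupOf M).Normal] :
    IsSimpleGroup (↥M ⧸ N.subgroupOf M) := by
  obtain ⟨F9, i1, i2, i3, h9, ⟨e⟩⟩ := T.quot
  haveI := isSimpleGroup_PSU (F := F9) (n := 4) (q := 3) (by rw [h9]; norm_num) (by norm_num)
    (by norm_num)
  haveI : Nontrivial (↥M ⧸ N.subgroupOf M) := e.toEquiv.nontrivial
  exact IsSimpleGroup.isSimpleGroup_of_surjective e.symm.toMonoidHom e.symm.surjective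

theorem Tower.card_quot (T : Tower Q N M) [hN : (N.subgroupOf M).Normal] :
    Nat.card (↥M ⧸ N.subgroupOf M) = 3265920 := by
  obtain ⟨e⟩ := T.chain
  rw [Nat.card_congr e.toEquiv, H95.UFourThree.card_chainGrp]

theorem Tower.not_comm (T : Tower Q N M) [hN : (N.subgroupOf M).Normal] :
    ¬ ∀ a b : ↥M ⧸ N.subgroupOf M, a * b = b * a := by
  intro h
  haveI := T.simple
  letI : CommGroup (↥M ⧸ N.subgroupOf M) :=
    { (inferInstance : Group (↥M ⧸ N.subgroupOf M)) with mul_comm := h }
  have hp := IsSimpleGroup.prime_card (α := ↥M ⧸ N.subgroupOf M)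
  rw [T.card_quot] at hp
  norm_num at hp

/-- A normal subgroup above the middle one is one of the two. -/
theorem Tower.normal_cases (T : Tower Q N M) {K : Subgroup ↥M} [hK : K.Normal]
    (h : N.subgroupOf M ≤ K) : K = ⊤ ∨ K = N.subgroupOf M := by
  haveI : (N.subgroupOf M).Normal := Subgroup.Normal.subgroupOf T.normalN M
  haveI := T.simple
  have hn : (K.map (QuotientGroup.mk' (N.subgroupOf M))).Normal :=
    Subgroup.Normal.map hK _ (QuotientGroup.mk'_surjective _)
  have hc : (K.map (QuotientGroup.mk' (N.subgroupOf M))).comap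
      (QuotientGroup.mk' (N.subgroupOf M)) = K :=
    Subgroup.comap_map_eq_self (by rwa [QuotientGroup.ker_mk'])
  rcases IsSimpleGroup.eq_bot_or_eq_top_of_normal _ hn with e | e
  · right
    rw [← hc, e, MonoidHom.comap_bot, QuotientGroup.ker_mk']
  · left
    rw [← hc, e, Subgroup.comap_top]

theorem Tower.hom_cases (T : Tower Q N M) {H : Type*} [Group H] (φ : ↥M →* H)
    (h : N.subgroupOf M ≤ φ.ker) : (∀ m, φ m = 1) ∨ φ.ker = N.subgroupOf M := by
  rcases T.normal_cases h with e | e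
  · exact Or.inl fun m => MonoidHom.mem_ker.1 (e ▸ Subgroup.mem_top m)
  · exact Or.inr e

theorem Tower.hom_trivial (T : Tower Q N M) {H : Type*} [Group H] [Finite H] (φ : ↥M →* H)
    (h : N.subgroupOf M ≤ φ.ker) (hc : Nat.card H < 3265920) : ∀ m, φ m = 1 := by
  haveI : (N.subgroupOf M).Normal := Subgroup.Normal.subgroupOf T.normalN M
  rcases T.hom_cases φ h with e | e
  · exact e
  · exfalso
    have h1 := Subgroup.index_ker φ
    rw [e, Subgroup.index_eq_card, T.card_quot] at h1
    have h2 := Subgroup.card_le_card_group φ.range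
    omega

theorem Tower.exists_seven (T : Tower Q N M) : ∃ g ∈ M, g ∉ Q ∧ orderOf g = 7 := by
  haveI : (N.subgroupOf M).Normal := Subgroup.Normal.subgroupOf T.normalN M
  haveI : Fact (Nat.Prime 7) := ⟨by norm_num⟩
  haveI := Fintype.ofFinite ↥M
  have hd : 7 ∣ Nat.card ↥M := by
    refine dvd_trans ?_ (Subgroup.card_quotient_dvd_card (N.subgroupOf M))
    rw [T.card_quot]; norm_num
  rw [Nat.card_eq_fintype_card] at hd
  obtain ⟨g, hg⟩ := exists_prime_orderOf_dvd_card 7 hd
  by_cases hgQ : (g : C) ∈ Q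
  swap
  · exact ⟨g, g.2, hgQ, (Subgroup.orderOf_coe g).trans hg⟩
  exfalso
  have h2 : orderOf (g : C) ∣ Nat.card Q := Subgroup.orderOf_dvd_natCard Q hgQ
  rw [Subgroup.orderOf_coe, hg, T.cardQ] at h2
  norm_num at h2

end Tower

/-! ### Coordinates on the quotient of the core -/

/-- The action on the quotient of the core in unitary coordinates. -/
structure Pre {C : Type*} [Group C] (Q N M : Subgroup C) (zc : C) where
  π : ↥Q → Vec
  π_mul : ∀ x y, π (x * y) = π x + π y
  surj : Function.Surjective π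
  zero : ∀ x : ↥Q, π x = 0 ↔ (x : C) = 1 ∨ (x : C) = zc
  sq : ∀ x : ↥Q, (x : C) * x = zp zc (wt (π x))
  comm : ∀ x y : ↥Q, (y : C) * x = x * y * zp zc (pol (π x) (π y))
  r : C →* Equiv.Perm Vec
  ker : r.ker = Q
  equi : ∀ (c : C) (x y : ↥Q), (y : C) = c * x * c⁻¹ → π y = r c (π x)
  r_add : ∀ c u v, r c (u + v) = r c u + r c v
  r_wt : ∀ c u, wt (r c u) = wt u
  n₀ : C
  n₀_mem : n₀ ∈ N
  r_n₀ : ∀ u, r n₀ u = ω₄ • u

section Build

variable {C : Type*} [Group C] [Finite C] {Q N M : Subgroup C} [Q.Normal]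
  {U : Type*} [AddCommGroup U] [Module (ZMod 2) U] {Q' : QuadraticForm (ZMod 2) U}

/-- The action of the centraliser on the quadratic space. -/
noncomputable def act (F : FormMap ↥Q U Q') : C →* ↥(Orthogonal.O Q') :=
  F.toIso.comp MulAut.conjNormal

theorem act_apply (F : FormMap ↥Q U Q') (c : C) (x : ↥Q) :
    (act F c : U ≃ₗ[ZMod 2] U) (F.π x) = F.π (MulAut.conjNormal c x) :=
  F.induced_π _ x

theorem act_ker (hQ : Cfsg.IsExtraspecial 2 Q) (hcen : ∀ c : C, (∀ q ∈ Q, q * c = c * q) → c ∈ Q)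
    (F : FormMap ↥Q U Q') : (act F).ker = Q := by
  ext c
  rw [act, ← MonoidHom.comap_ker, F.toIso_ker hQ, Subgroup.mem_comap]
  constructor
  · rintro ⟨q, hq⟩
    have hc : (q : C)⁻¹ * c ∈ Q := hcen _ fun r hr => by
      have := congrArg (fun f : MulAut Q => ((f ⟨r, hr⟩ : Q) : C)) hq
      simp only [MulAut.conj_apply, MulAut.conjNormal_apply, Subgroup.coe_mul,
        InvMemClass.coe_inv] at this
      calc r * ((q : C)⁻¹ * c) = (q : C)⁻¹ * ((q : C) * r * (q : C)⁻¹) * c := by group
        _ = (q : C)⁻¹ * c * r := by rw [this]; group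
    simpa using mul_mem q.2 hc
  · intro hc
    exact ⟨⟨c, hc⟩, MulEquiv.ext fun x => Subtype.ext (by simp [MulAut.conjNormal_apply])⟩

theorem formMap_card [Finite U] (F : FormMap ↥Q U Q') : Nat.card ↥Q = 2 * Nat.card U := by
  let f : ↥Q →* Multiplicative U :=
    MonoidHom.mk' (fun x => Multiplicative.ofAdd (F.π x)) fun x y => by rw [F.π_mul]; rfl
  have hk : Nat.card f.ker = 2 := by
    have hmem : ∀ x, x ∈ f.ker ↔ (x = 1 ∨ x = F.z) := fun x => by
      rw [MonoidHom.mem_ker, ← F.π_eq_zero]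
      exact ofAdd_eq_one
    rw [Nat.card_eq_two_iff' (⟨1, one_mem _⟩ : f.ker)]
    refine ⟨⟨F.z, (hmem _).2 (Or.inr rfl)⟩, fun e => F.hz (congrArg Subtype.val e), ?_⟩
    rintro ⟨x, hx⟩ hx1
    rcases (hmem x).1 hx with e | e
    · exact absurd (Subtype.ext e) hx1
    · exact Subtype.ext e
  rw [← Subgroup.card_mul_index f.ker, hk, Subgroup.index_ker,
    MonoidHom.range_eq_top.2 (fun v => by
      obtain ⟨x, hx⟩ := F.surj (Multiplicative.toAdd v)
      exact ⟨x, show Multiplicative.ofAdd (F.π x) = v by rw [hx]; rfl⟩),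
    Nat.card_congr Subgroup.topEquiv.toEquiv, Nat.card_congr Multiplicative.toAdd]

theorem exists_pre_of_form (T : Tower Q N M) (hQ : Cfsg.IsExtraspecial 2 Q)
    (hcen : ∀ c : C, (∀ q ∈ Q, q * c = c * q) → c ∈ Q) (F : FormMap ↥Q U Q') :
    Nonempty (Pre Q N M (F.z : C)) := by
  classical
  haveI := T.normalN
  haveI := T.normalM
  haveI : (N.subgroupOf M).Normal := Subgroup.Normal.subgroupOf T.normalN M
  haveI : Finite U := Finite.of_surjective F.π F.surj
  have hU : Nat.card U = 2 ^ 12 := by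
    have h := formMap_card F
    rw [T.cardQ] at h
    omega
  let B : U →+ U →+ ZMod 2 :=
    AddMonoidHom.mk' (fun u => AddMonoidHom.mk' (fun v => QuadraticMap.polar (⇑Q') u v)
      (fun v w => Q'.polar_add_right u v w))
      (fun u v => AddMonoidHom.ext fun w => Q'.polar_add_left u v w)
  have h2 : ∀ v : U, v + v = 0 := fun v => by
    rw [← two_smul (ZMod 2) v, show (2 : ZMod 2) = 0 from rfl, zero_smul]
  have hnd : ∀ w, (∀ v, B v w = 0) → w = 0 := by
    intro w h
    obtain ⟨x, rfl⟩ := F.surj w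
    rw [F.π_eq_zero, ← F.mem_center, Subgroup.mem_center_iff]
    intro y
    have := F.comm y x
    rw [show QuadraticMap.polar (⇑Q') (F.π y) (F.π x) = 0 from h (F.π y)] at this
    rw [this]; simp [zp]
  -- the image of the middle subgroup has order three
  let R : Subgroup ↥(Orthogonal.O Q') := N.map (act F)
  have hR : Nat.card R = 3 := by
    have h := Subgroup.card_mul_index ((act F).comp N.subtype).ker
    rw [Subgroup.index_ker, MonoidHom.range_comp, Subgroup.range_subtype, T.cardN,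
      ← MonoidHom.comap_ker, act_ker hQ hcen F] at h
    rw [show Q.comap N.subtype = Q.subgroupOf N from rfl,
      Nat.card_congr (Subgroup.subgroupOfEquivOfLe T.QN).toEquiv, mul_comm 3] at h
    exact Nat.eq_of_mul_eq_mul_left Nat.card_pos h
  haveI : Finite R := Nat.finite_of_card_ne_zero (by rw [hR]; norm_num)
  haveI : Nontrivial R := Finite.one_lt_card_iff_nontrivial.1 (by rw [hR]; norm_num)
  obtain ⟨⟨r0, n₀, hn₀, rfl⟩, hne⟩ := exists_ne (1 : R)
  have hne' : act F n₀ ≠ 1 := fun h => hne (Subtype.ext h)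
  have hcube : act F n₀ * (act F n₀ * act F n₀) = 1 := by
    have h := pow_card_eq_one' (G := ↥R) (x := ⟨act F n₀, Subgroup.mem_map_of_mem _ hn₀⟩)
    rw [hR, pow_succ', pow_two] at h
    exact congrArg Subtype.val h
  let f : U →+ U := (act F n₀ : U ≃ₗ[ZMod 2] U).toLinearMap.toAddMonoidHom
  have rot : Rot (⇑Q') B f := by
    refine ⟨h2, fun v w => ?_, fun v => ?_, fun v => (act F n₀).2 v⟩
    · show Q' (v + w) = Q' v + Q' w + QuadraticMap.polar (⇑Q') v w
      rw [QuadraticMap.polar]; abel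
    · exact congrArg (fun g : ↥(Orthogonal.O Q') => (g : U ≃ₗ[ZMod 2] U) v) hcube
  -- the normal subgroup of index two commutes with the rotation
  have hcommR : ∀ m : ↥M, ∀ x ∈ R, act F m * x * (act F m)⁻¹ = x := by
    have hnorm : ∀ m : C, ∀ x ∈ R, act F m * x * (act F m)⁻¹ ∈ R := by
      rintro m _ ⟨n, hn, rfl⟩
      exact ⟨m * n * m⁻¹, T.normalN.conj_mem n hn m, by simp⟩
    let σ : C → ↥R → ↥R := fun c x => ⟨act F c * x * (act F c)⁻¹, hnorm c x x.2⟩
    have σ_one : ∀ x, σ 1 x = x := fun x => Subtype.ext (by simp [σ])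
    have σ_mul : ∀ c d x, σ (c * d) x = σ c (σ d x) := fun c d x => Subtype.ext (by
      simp [σ, mul_assoc])
    let cj : C →* Equiv.Perm ↥R := MonoidHom.mk'
      (fun c => ⟨σ c, σ c⁻¹, fun x => by rw [← σ_mul, inv_mul_cancel, σ_one],
        fun x => by rw [← σ_mul, mul_inv_cancel, σ_one]⟩)
      fun c d => Equiv.ext fun x => σ_mul c d x
    have hker : N.subgroupOf M ≤ (cj.comp M.subtype).ker := by
      intro m hm
      rw [MonoidHom.mem_ker]
      refine Equiv.ext fun x => Subtype.ext ?_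
      show act F (m : C) * x * (act F (m : C))⁻¹ = x
      have hab : ∀ a b : ↥R, a * b = b * a := by
        haveI : Fact (Nat.Prime 3) := ⟨Nat.prime_three⟩
        haveI : IsCyclic ↥R := isCyclic_of_prime_card hR
        intro a b
        letI := IsCyclic.commGroup (α := ↥R)
        exact mul_comm a b
      have := congrArg Subtype.val (hab ⟨act F (m : C), Subgroup.mem_map_of_mem _ hm⟩ x)
      rw [mul_inv_eq_iff_eq_mul]
      exact this
    have hcard : Nat.card (Equiv.Perm ↥R) < 3265920 := by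
      rw [Nat.card_perm, hR]; decide
    intro m x hx
    have h := T.hom_trivial (cj.comp M.subtype) hker hcard m
    exact congrArg Subtype.val (Equiv.congr_fun h (⟨x, hx⟩ : ↥R))
  have hcomm : ∀ m ∈ M, ∀ v, (act F m : U ≃ₗ[ZMod 2] U) (f v) =
      f ((act F m : U ≃ₗ[ZMod 2] U) v) := by
    intro m hm v
    have h := hcommR ⟨m, hm⟩ _ (Subgroup.mem_map_of_mem _ hn₀)
    rw [mul_inv_eq_iff_eq_mul] at h
    exact congrArg (fun g : ↥(Orthogonal.O Q') => (g : U ≃ₗ[ZMod 2] U) v) h
  -- no vector is fixed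
  have hfree : moveF f = ⊤ := by
    by_contra htop
    have hlt : Nat.card (moveF f) < 2 ^ 12 := by
      rw [← hU]
      rcases (Nat.card_le_card_of_injective (Subtype.val : ↥(moveF f) → U)
        Subtype.val_injective).lt_or_eq with h | h
      · exact h
      · exact absurd (AddSubgroup.eq_top_of_card_eq _ h) htop
    -- some vector is moved
    obtain ⟨u, hu⟩ : ∃ u, f u ≠ u := by
      by_contra hcon
      push Not at hcon
      exact hne' (Subtype.ext (LinearEquiv.ext hcon))
    have hfix : Nat.card (fixF f) ≤ 2 ^ 10 := by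
      have hu' : ∃ w ∈ moveF f, f w ≠ w := by
        obtain ⟨t, ht, hut⟩ := rot.split u
        refine ⟨u + t, hut, fun h => hu ?_⟩
        rw [map_add, (ht : f t = t)] at h
        exact add_right_cancel h
      obtain ⟨w, hw, hfw⟩ := hu'
      let j : ↥(fixF f) × ↥(moveF f) → U := fun p => (p.1 : U) + p.2
      have hj : Function.Injective j := by
        rintro ⟨⟨a, ha⟩, ⟨b, hb⟩⟩ ⟨⟨a', ha'⟩, ⟨b', hb'⟩⟩ h
        have h' : a + b = a' + b' := h
        have hd : a - a' = b' - b := by rw [sub_eq_sub_iff_add_eq_add, h', add_comm]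
        have h1 : a - a' ∈ fixF f := sub_mem ha ha'
        have h2' : a - a' ∈ moveF f := hd ▸ sub_mem hb' hb
        have h0 : a - a' = 0 := by
          have e : (a - a') + f (a - a') + f (f (a - a')) = 0 := h2'
          rw [(h1 : f (a - a') = a - a'), (h1 : f (a - a') = a - a'), h2, zero_add] at e
          exact e
        rw [sub_eq_zero] at h0
        subst h0
        exact Prod.ext rfl (Subtype.ext (add_left_cancel h'))
      have hjc := Nat.card_le_card_of_injective j hj
      rw [Nat.card_prod, hU] at hjc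
      have h4 : 4 ≤ Nat.card (moveF f) := by
        have hcard : ({0, w, f w, f (f w)} : Set U).ncard = 4 := by
          have d1 : w ≠ 0 := fun h => hfw (by rw [h, map_zero])
          have inj : Function.Injective f := (act F n₀ : U ≃ₗ[ZMod 2] U).injective
          have d2 : f w ≠ 0 := fun h => d1 (inj (h.trans (map_zero f).symm))
          have d3 : f (f w) ≠ 0 := fun h => d2 (inj (h.trans (map_zero f).symm))
          have d4 : f (f w) ≠ f w := fun h => hfw (inj h)
          have d5 : f (f w) ≠ w := fun h => hfw (by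
            conv_lhs => rw [← h]
            rw [rot.cube])
          rw [Set.ncard_insert_of_notMem (by
              simp only [Set.mem_insert_iff, Set.mem_singleton_iff, not_or]
              exact ⟨Ne.symm d1, Ne.symm d2, Ne.symm d3⟩),
            Set.ncard_insert_of_notMem (by
              simp only [Set.mem_insert_iff, Set.mem_singleton_iff, not_or]
              exact ⟨Ne.symm hfw, Ne.symm d5⟩), Set.ncard_pair d4.symm]
        rw [← hcard]
        refine le_trans ?_ (Nat.card_coe_set_eq (moveF f : Set U)).ge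
        refine Set.ncard_le_ncard ?_ (Set.toFinite _)
        have hst := (rot.good_move hnd).stable
        rintro x (rfl | rfl | rfl | rfl)
        exacts [zero_mem _, hw, hst _ hw, hst _ (hst _ hw)]
      nlinarith
    -- the simple quotient centralises the fixed vectors
    have hstab : ∀ m : ↥M, ∀ t ∈ fixF f, (act F m : U ≃ₗ[ZMod 2] U) t ∈ fixF f := fun m t ht => by
      show f _ = _
      rw [← hcomm m m.2, (ht : f t = t)]
    let φ : ↥M →* Equiv.Perm ↥(fixF f) := MonoidHom.mk'
      (fun m => Equiv.ofBijective (fun t => ⟨_, hstab m t t.2⟩)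
        (Finite.injective_iff_bijective.1 fun a b h => Subtype.ext
          ((act F m : U ≃ₗ[ZMod 2] U).injective (congrArg Subtype.val h))))
      fun a b => Equiv.ext fun t => Subtype.ext (by simp)
    have hφN : N.subgroupOf M ≤ φ.ker := by
      intro m hm
      rw [MonoidHom.mem_ker]
      refine Equiv.ext fun t => Subtype.ext ?_
      show (act F m : U ≃ₗ[ZMod 2] U) (t : U) = t
      have hmem : act F (m : C) ∈ R := Subgroup.mem_map_of_mem _ hm
      haveI : Fact (Nat.Prime 3) := ⟨Nat.prime_three⟩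
      obtain ⟨k, hk⟩ := Subgroup.mem_zpowers_iff.1 (mem_zpowers_of_prime_card hR hne
        (g' := (⟨_, hmem⟩ : ↥R)))
      have e : act F (m : C) = act F n₀ ^ k := (congrArg Subtype.val hk).symm
      rw [e]
      let S : Subgroup ↥(Orthogonal.O Q') :=
        { carrier := {g | (g : U ≃ₗ[ZMod 2] U) (t : U) = t}
          one_mem' := rfl
          mul_mem' := fun {a b} ha hb => by
            show (a : U ≃ₗ[ZMod 2] U) ((b : U ≃ₗ[ZMod 2] U) (t : U)) = t
            rw [hb, ha]
          inv_mem' := fun {a} ha => by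
            show (a : U ≃ₗ[ZMod 2] U).symm (t : U) = t
            rw [LinearEquiv.symm_apply_eq, ha] }
      exact (zpow_mem (show act F n₀ ∈ S from t.2) k : _ ∈ S)
    have hφ : ∀ m, φ m = 1 := by
      rcases T.hom_cases φ hφN with h | h
      · exact h
      exfalso
      obtain ⟨e⟩ := T.chain
      let ψ := (QuotientGroup.lift (N.subgroupOf M) φ hφN).comp e.symm.toMonoidHom
      refine no_small_action (V := ↥(fixF f)) (fun v => Subtype.ext (h2 v)) hfix ψ
        (fun p a b => ?_) ?_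
      · obtain ⟨m, hm⟩ := QuotientGroup.mk_surjective (e.symm p)
        have hψ : ψ p = φ m := by
          show QuotientGroup.lift _ φ hφN (e.symm p) = _
          rw [← hm]; rfl
        rw [hψ]
        exact Subtype.ext (map_add (act F m : U ≃ₗ[ZMod 2] U) (a : U) b)
      · have hl : Function.Injective (QuotientGroup.lift (N.subgroupOf M) φ hφN) := by
          rw [← MonoidHom.ker_eq_bot_iff, Subgroup.eq_bot_iff_forall]
          intro x hx
          obtain ⟨m, rfl⟩ := QuotientGroup.mk_surjective x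
          have hm : m ∈ φ.ker := hx
          rw [h] at hm
          exact (QuotientGroup.eq_one_iff m).2 hm
        exact hl.comp e.symm.injective
    obtain ⟨g, hgM, hgQ, hg7⟩ := T.exists_seven
    refine hgQ ?_
    rw [← act_ker hQ hcen F, MonoidHom.mem_ker]
    refine Subtype.ext (LinearEquiv.ext fun v => ?_)
    show (act F g : U ≃ₗ[ZMod 2] U) v = v
    let gp : Equiv.Perm U := (act F g : U ≃ₗ[ZMod 2] U).toEquiv
    have hpow : ∀ (k : ℕ) (u : U), (gp ^ k) u = (act F (g ^ k) : U ≃ₗ[ZMod 2] U) u := by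
      intro k
      induction k with
      | zero => intro u; simp
      | succ k ih =>
        intro u
        rw [pow_succ', pow_succ', Equiv.Perm.mul_apply, ih, map_mul]
        rfl
    have h7 : gp ^ 7 = 1 := Equiv.ext fun u => by
      rw [hpow, ← hg7, pow_orderOf_eq_one, map_one]
      rfl
    have hmove : ∀ w ∈ moveF f, gp w = w := by
      refine rot.seven_trivial gp (fun a b => map_add (act F g : U ≃ₗ[ZMod 2] U) a b)
        (fun a => (act F g).2 a) (fun a => hcomm g hgM a) h7 _ _ le_rfl hlt (rot.good_move hnd)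
        fun w hw => ?_
      show (act F g : U ≃ₗ[ZMod 2] U) w + f ((act F g : U ≃ₗ[ZMod 2] U) w) +
        f (f ((act F g : U ≃ₗ[ZMod 2] U) w)) = 0
      rw [← hcomm g hgM, ← hcomm g hgM, ← map_add, ← map_add,
        (hw : w + f w + f (f w) = 0), map_zero]
    obtain ⟨t, ht, hvt⟩ := rot.split v
    have e : v = (v + t) + t := by rw [add_assoc, h2, add_zero]
    have et : (act F g : U ≃ₗ[ZMod 2] U) t = t :=
      congrArg Subtype.val (Equiv.congr_fun (hφ ⟨g, hgM⟩) (⟨t, ht⟩ : ↥(fixF f)))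
    rw [e, map_add, et]
    exact congrArg (· + t) (hmove _ hvt)
  obtain ⟨k, Φ, Fr⟩ := rot.exists_frame _ (moveF f) le_rfl (rot.good_move hnd)
  have hk : k = 6 := by
    have h := Fr.card
    rw [hfree, Nat.card_congr AddSubgroup.topEquiv.toEquiv, hU,
      show (2 : ℕ) ^ 12 = 4 ^ 6 by norm_num] at h
    exact (Nat.pow_right_injective (by norm_num) h).symm
  subst hk
  let e : Vec ≃ U := Equiv.ofBijective Φ ⟨Fr.inj, fun w => (Fr.range w).1 (by rw [hfree]; trivial)⟩
  have hadd : ∀ u v, e.symm (u + v) = e.symm u + e.symm v := fun u v => e.injective (by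
    rw [e.apply_symm_apply]
    show u + v = Φ _
    rw [Fr.add]
    exact congrArg₂ (· + ·) (e.apply_symm_apply u).symm (e.apply_symm_apply v).symm)
  have hnorm : ∀ u, Q' u = wt (e.symm u) := fun u => by
    conv_lhs => rw [← e.apply_symm_apply u]
    exact Fr.norm _
  have hzp : ∀ a, ((zp F.z a : ↥Q) : C) = zp (F.z : C) a := fun a => by
    unfold zp
    split_ifs <;> rfl
  let r : C →* Equiv.Perm Vec := MonoidHom.mk'
    (fun c => (e.trans (act F c : U ≃ₗ[ZMod 2] U).toEquiv).trans e.symm)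
    fun c d => Equiv.ext fun u => by simp
  refine ⟨{
    π := fun x => e.symm (F.π x)
    π_mul := fun x y => by rw [F.π_mul, hadd]
    surj := e.symm.surjective.comp F.surj
    zero := fun x => ?_
    sq := fun x => ?_
    comm := fun x y => ?_
    r := r
    ker := ?_
    equi := fun c x y h => ?_
    r_add := fun c u v => ?_
    r_wt := fun c u => ?_
    n₀ := n₀
    n₀_mem := hn₀
    r_n₀ := fun u => ?_ }⟩
  · have h0 : e.symm 0 = 0 := left_eq_add.1 ((congrArg e.symm (add_zero 0)).symm.trans (hadd 0 0))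
    rw [show e.symm (F.π x) = 0 ↔ F.π x = 0 from
      ⟨fun h => e.symm.injective (h.trans h0.symm), fun h => by rw [h, h0]⟩, F.π_eq_zero]
    constructor
    · rintro (rfl | rfl)
      · exact Or.inl rfl
      · exact Or.inr rfl
    · rintro (h | h)
      · exact Or.inl (Subtype.ext h)
      · exact Or.inr (Subtype.ext h)
  · rw [← Subgroup.coe_mul, F.sq, hzp, hnorm]
  · rw [← Subgroup.coe_mul, ← Subgroup.coe_mul, F.comm, Subgroup.coe_mul, hzp]
    congr 2
    rw [QuadraticMap.polar, hnorm, hnorm, hnorm, hadd, pol]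
    have key : ∀ a b c : ZMod 2, a - b - c = a + b + c := by decide
    exact key _ _ _
  · rw [← act_ker hQ hcen F]
    ext c
    rw [MonoidHom.mem_ker, MonoidHom.mem_ker]
    constructor
    · intro h
      refine Subtype.ext (LinearEquiv.ext fun u => ?_)
      have h' := congrFun (congrArg DFunLike.coe h) (e.symm u)
      have h'' : e.symm ((act F c : U ≃ₗ[ZMod 2] U) (e (e.symm u))) = e.symm u := h'
      rw [e.apply_symm_apply] at h''
      exact e.symm.injective h''
    · intro h
      refine Equiv.ext fun u => ?_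
      show e.symm ((act F c : U ≃ₗ[ZMod 2] U) (e u)) = u
      rw [h]
      exact e.symm_apply_apply u
  · show e.symm (F.π y) = e.symm ((act F c : U ≃ₗ[ZMod 2] U) (e (e.symm (F.π x))))
    rw [e.apply_symm_apply, act_apply,
      show y = MulAut.conjNormal c x from Subtype.ext (by rw [h, MulAut.conjNormal_apply])]
  · show e.symm ((act F c : U ≃ₗ[ZMod 2] U) (Φ (u + v))) = _
    rw [Fr.add, map_add, hadd]
    rfl
  · show wt (e.symm ((act F c : U ≃ₗ[ZMod 2] U) (e u))) = wt u
    rw [← hnorm, (act F c).2, hnorm, e.symm_apply_apply]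
  · show e.symm (f (Φ u)) = ω₄ • u
    rw [← Fr.omega]
    exact e.symm_apply_apply _

end Build

/-! ### The image of the subgroup of index two -/

section Image

variable {C : Type*} [Group C] [Finite C] {Q N M : Subgroup C} {zc : C}

theorem Pre.n₀_not (P : Pre Q N M zc) : P.r P.n₀ ≠ 1 := by
  intro h
  have h' := Equiv.congr_fun h (Pi.single 0 1 : Vec)
  rw [P.r_n₀] at h'
  exact absurd h' (by decide +kernel)

theorem Pre.card_image (T : Tower Q N M) (P : Pre Q N M zc) (S : Subgroup C) (hS : Q ≤ S) :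
    Nat.card Q * Nat.card (S.map P.r) = Nat.card S := by
  have h := Subgroup.card_mul_index (P.r.comp S.subtype).ker
  rw [Subgroup.index_ker, MonoidHom.range_comp, Subgroup.range_subtype, ← MonoidHom.comap_ker,
    P.ker, show Q.comap S.subtype = Q.subgroupOf S from rfl,
    Nat.card_congr (Subgroup.subgroupOfEquivOfLe hS).toEquiv] at h
  exact h

theorem Pre.n₀_cube (T : Tower Q N M) (P : Pre Q N M zc) {x : C} (hx : x ∈ N) :
    P.r x = 1 ∨ P.r x = P.r P.n₀ ∨ P.r x = P.r P.n₀ * P.r P.n₀ := by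
  have h3 : Nat.card (N.map P.r) = 3 := by
    have h := P.card_image T N T.QN
    rw [T.cardN, mul_comm 3] at h
    exact Nat.eq_of_mul_eq_mul_left Nat.card_pos h
  haveI : Fact (Nat.Prime 3) := ⟨Nat.prime_three⟩
  haveI : Finite (N.map P.r) := Nat.finite_of_card_ne_zero (by rw [h3]; norm_num)
  have hg : (⟨P.r P.n₀, Subgroup.mem_map_of_mem _ P.n₀_mem⟩ : ↥(N.map P.r)) ≠ 1 :=
    fun h => P.n₀_not (congrArg Subtype.val h)
  obtain ⟨k, hk⟩ := mem_powers_of_prime_card h3 hg
    (g' := (⟨P.r x, Subgroup.mem_map_of_mem _ hx⟩ : ↥(N.map P.r)))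
  have hc := pow_card_eq_one' (G := ↥(N.map P.r))
    (x := ⟨P.r P.n₀, Subgroup.mem_map_of_mem _ P.n₀_mem⟩)
  rw [h3] at hc
  have e : P.r x = P.r P.n₀ ^ (k % 3) := by
    simp only at hk
    rw [← pow_mod_natCard, h3] at hk
    exact (congrArg Subtype.val hk).symm
  have hlt : k % 3 < 3 := Nat.mod_lt _ (by norm_num)
  rw [e]
  rcases (show k % 3 = 0 ∨ k % 3 = 1 ∨ k % 3 = 2 by omega) with h | h | h <;> rw [h]
  · exact Or.inl (pow_zero _)
  · exact Or.inr (Or.inl (pow_one _))
  · exact Or.inr (Or.inr (pow_two _))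

theorem Pre.semi (T : Tower Q N M) (P : Pre Q N M zc) (c : C) : ∃ θ, Semi θ (P.r c) := by
  have hadd := P.r_add c
  have hzero : P.r c 0 = 0 := left_eq_add.1 ((congrArg (P.r c) (add_zero 0)).symm.trans (hadd 0 0))
  have hw : ∀ u, P.r c (ω₄ • u) = P.r (c * P.n₀ * c⁻¹) (P.r c u) := fun u => by
    rw [← P.r_n₀, ← Equiv.Perm.mul_apply, ← map_mul, ← Equiv.Perm.mul_apply, ← map_mul,
      inv_mul_cancel_right]
  have hne : P.r (c * P.n₀ * c⁻¹) ≠ 1 := fun h => P.n₀_not (by
    rw [map_mul, map_mul, map_inv, mul_inv_eq_one] at h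
    exact mul_left_cancel (h.trans (mul_one _).symm))
  have build : ∀ θ, (∀ u, P.r c (ω₄ • u) = tw θ ω₄ • P.r c u) → Semi θ (P.r c) := by
    intro θ h
    have hcases : ∀ k : K4, k = 0 ∨ k = 1 ∨ k = ω₄ ∨ k = ω₄ * ω₄ := by decide +kernel
    have t0 : tw θ 0 = 0 := by cases θ <;> rfl
    have t2 : tw θ (ω₄ * ω₄) = tw θ ω₄ * tw θ ω₄ := by cases θ <;> decide +kernel
    refine ⟨hadd, fun k u => ?_⟩
    rcases hcases k with rfl | rfl | rfl | rfl
    · rw [zero_smul, t0, zero_smul, hzero]
    · rw [one_smul, tw_one, one_smul]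
    · exact h u
    · rw [← smul_smul, h, h, t2, smul_smul]
  rcases P.n₀_cube T (T.normalN.conj_mem _ P.n₀_mem c) with h | h | h
  · exact absurd h hne
  · exact ⟨false, build false fun u => by rw [hw, h, P.r_n₀]; rfl⟩
  · exact ⟨true, build true fun u => by
      rw [hw, h, Equiv.Perm.mul_apply, P.r_n₀, P.r_n₀, smul_smul]; rfl⟩

theorem Pre.linear (T : Tower Q N M) (P : Pre Q N M zc) (m : ↥M) : Semi false (P.r (m : C)) := by
  haveI := T.normalN
  haveI : (N.subgroupOf M).Normal := Subgroup.Normal.subgroupOf T.normalN M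
  let sgn : ↥M → Multiplicative (ZMod 2) := fun m =>
    if ∀ u, P.r (m : C) (ω₄ • u) = ω₄ • P.r (m : C) u then 1 else Multiplicative.ofAdd 1
  have hval : ∀ m : ↥M, ∀ θ, Semi θ (P.r (m : C)) →
      sgn m = Multiplicative.ofAdd (if θ = true then 1 else 0) := by
    intro m θ h
    cases θ
    · show (if _ then _ else _) = _
      rw [if_pos (show ∀ u, P.r (m : C) (ω₄ • u) = ω₄ • P.r (m : C) u from h.smul ω₄)]
      rfl
    · show (if _ then _ else _) = _
      rw [if_neg]
      · rfl
      · intro hl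
        have e := h.smul ω₄ (Pi.single 0 1)
        rw [hl] at e
        have hu : P.r (m : C) (Pi.single 0 1) ≠ 0 := fun h0 => by
          have := (P.r (m : C)).injective (h0.trans h.map_zero.symm)
          exact absurd this (by decide +kernel)
        obtain ⟨i, hi⟩ := Function.ne_iff.1 hu
        have key : ∀ x : K4, x ≠ 0 → ω₄ * x ≠ tw true ω₄ * x := by decide +kernel
        exact key _ hi (congrFun e i)
  let S : ↥M →* Multiplicative (ZMod 2) := MonoidHom.mk' sgn fun a b => by
    obtain ⟨θ, hθ⟩ := P.semi T (a : C)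
    obtain ⟨θ', hθ'⟩ := P.semi T (b : C)
    have h : Semi (xor θ θ') (P.r ((a * b : ↥M) : C)) := by
      rw [Subgroup.coe_mul, map_mul]
      exact hθ.comp hθ'
    rw [hval _ _ h, hval _ _ hθ, hval _ _ hθ']
    cases θ <;> cases θ' <;> decide
  have hker : N.subgroupOf M ≤ S.ker := by
    intro n hn
    rw [MonoidHom.mem_ker]
    show sgn n = 1
    show (if _ then _ else _) = _
    rw [if_pos]
    intro u
    rw [← P.r_n₀, ← P.r_n₀]
    rcases P.n₀_cube T (x := (n : C)) hn with h | h | h <;> rw [h] <;> rfl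
  have htriv := T.hom_trivial S hker (by
    rw [Nat.card_congr Multiplicative.toAdd, Nat.card_zmod]; norm_num) m
  obtain ⟨θ, hθ⟩ := P.semi T (m : C)
  cases θ
  · exact hθ
  · have := (hval m true hθ).symm.trans htriv
    exact absurd this (by decide)

theorem Pre.det_one (T : Tower Q N M) (P : Pre Q N M zc) (m : ↥M) :
    (matOf (P.r (m : C))).det = 1 := by
  haveI : (N.subgroupOf M).Normal := Subgroup.Normal.subgroupOf T.normalN M
  let D : ↥M →* K4 :=
    { toFun := fun m => (matOf (P.r (m : C))).det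
      map_one' := by rw [OneMemClass.coe_one, map_one, matOf_one, Matrix.det_one]
      map_mul' := fun a b => by
        rw [Subgroup.coe_mul, map_mul, matOf_mul (P.linear T a) (P.linear T b), Matrix.det_mul] }
  have hn₀ : (matOf (P.r P.n₀)).det = 1 := by
    have e : matOf (P.r P.n₀) = ω₄ • (1 : Mat) := by
      refine Matrix.ext fun r c => ?_
      show P.r P.n₀ (eb c) r = _
      rw [P.r_n₀, Pi.smul_apply, Matrix.smul_apply, eb, Pi.single_apply, Matrix.one_apply]
    rw [e, Matrix.det_smul, Matrix.det_one, mul_one, Fintype.card_fin]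
    decide +kernel
  have hker : N.subgroupOf M ≤ D.toHomUnits.ker := by
    intro n hn
    rw [MonoidHom.mem_ker]
    refine Units.ext ?_
    show (matOf (P.r (n : C))).det = 1
    have hl : Semi false (P.r P.n₀) := P.linear T ⟨P.n₀, T.NM P.n₀_mem⟩
    rcases P.n₀_cube T (x := (n : C)) hn with h | h | h <;> rw [h]
    · rw [matOf_one, Matrix.det_one]
    · exact hn₀
    · rw [matOf_mul hl hl, Matrix.det_mul, hn₀, one_mul]
  have h := T.hom_trivial D.toHomUnits hker (lt_of_le_of_lt
    (Nat.card_le_card_of_injective (Units.val : K4ˣ → K4) Units.val_injective) (by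
      rw [Nat.card_eq_fintype_card]; decide +kernel)) m
  exact congrArg Units.val h

theorem Pre.isCover (T : Tower Q N M) (P : Pre Q N M zc) :
    ∃ (F9 : Type) (_ : Field F9) (_ : Fintype F9),
      Fintype.card F9 = 9 ∧ IsCover F9 (M.map P.r) := by
  obtain ⟨F9, i1, i2, i3, h9, ⟨e⟩⟩ := T.quot
  refine ⟨F9, i1, i2, h9, ?_⟩
  let ψ : ↥M →* ↥(M.map P.r) := MonoidHom.mk'
    (fun m => ⟨P.r m, Subgroup.mem_map_of_mem _ m.2⟩)
    fun a b => Subtype.ext (map_mul P.r _ _)
  have hψ : Function.Surjective ψ := by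
    rintro ⟨_, m, hm, rfl⟩
    exact ⟨⟨m, hm⟩, rfl⟩
  set Z := Subgroup.center ↥(M.map P.r) with hZdef
  have hNZ : N.subgroupOf M ≤ Z.comap ψ := by
    intro n hn
    rw [Subgroup.mem_comap, hZdef, Subgroup.mem_center_iff]
    intro x
    obtain ⟨m, rfl⟩ := hψ x
    refine Subtype.ext (Equiv.ext fun u => ?_)
    show P.r (m : C) (P.r (n : C) u) = P.r (n : C) (P.r (m : C) u)
    rcases P.n₀_cube T (x := (n : C)) hn with h | h | h <;> rw [h]
    · rfl
    · rw [P.r_n₀, P.r_n₀, (P.linear T m).smul]; rfl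
    · rw [Equiv.Perm.mul_apply, Equiv.Perm.mul_apply, P.r_n₀, P.r_n₀, P.r_n₀, P.r_n₀,
        (P.linear T m).smul, (P.linear T m).smul]; rfl
  have hcomap : Z.comap ψ = N.subgroupOf M := by
    rcases T.normal_cases hNZ with h | h
    · exfalso
      refine T.not_comm fun a b => ?_
      obtain ⟨a, rfl⟩ := QuotientGroup.mk_surjective a
      obtain ⟨b, rfl⟩ := QuotientGroup.mk_surjective b
      rw [← QuotientGroup.mk_mul, ← QuotientGroup.mk_mul, QuotientGroup.eq]
      show (((a * b)⁻¹ * (b * a) : ↥M) : C) ∈ N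
      refine T.QN ?_
      rw [← P.ker, MonoidHom.mem_ker]
      have hc : ψ b * ψ a = ψ a * ψ b :=
        Subgroup.mem_center_iff.1 (h ▸ Subgroup.mem_top a : a ∈ Z.comap ψ) (ψ b)
      have hc' := congrArg Subtype.val hc
      show P.r (((a : C) * b)⁻¹ * (b * a)) = 1
      rw [map_mul, map_inv, map_mul, map_mul, inv_mul_eq_one]
      exact hc'.symm
    · exact h
  refine ⟨?_, ⟨?_⟩⟩
  · have hk : Nat.card ψ.ker = Nat.card Q := by
      have hQM : Q ≤ M := T.QN.trans T.NM
      rw [← Nat.card_congr (Subgroup.subgroupOfEquivOfLe hQM).toEquiv]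
      refine congrArg (fun S : Subgroup ↥M => Nat.card S) ?_
      ext m
      rw [MonoidHom.mem_ker, Subgroup.mem_subgroupOf]
      refine Subtype.ext_iff.trans ?_
      exact (SetLike.ext_iff.1 P.ker (m : C))
    have h := SUSix.card_comap ψ Z (fun x _ => hψ x)
    rw [hcomap, hk, Nat.card_congr (Subgroup.subgroupOfEquivOfLe T.NM).toEquiv, T.cardN,
      mul_comm 3] at h
    exact (Nat.eq_of_mul_eq_mul_left Nat.card_pos h).symm
  · have hker : ((QuotientGroup.mk' Z).comp ψ).ker = N.subgroupOf M := by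
      rw [← MonoidHom.comap_ker, QuotientGroup.ker_mk', hcomap]
    have hs : Function.Surjective ((QuotientGroup.mk' Z).comp ψ) :=
      (QuotientGroup.mk'_surjective Z).comp hψ
    exact ((QuotientGroup.quotientKerEquivOfSurjective ((QuotientGroup.mk' Z).comp ψ) hs).symm.trans
      (QuotientGroup.quotientMulEquivOfEq hker)).trans e

/-- After a change of coordinates the image of the subgroup of index two is the model. -/
theorem Pre.normalize (T : Tower Q N M) (P : Pre Q N M zc) :
    ∃ P' : Pre Q N M zc, M.map P'.r = Kl := by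
  obtain ⟨F9, i1, i2, h9, hcov⟩ := P.isCover T
  set K' : Subgroup ↥SG := (M.map P.r).comap lin with hK'
  have hle : M.map P.r ≤ lin.range := by
    rintro _ ⟨m, hm, rfl⟩
    exact mem_range_lin (P.linear T ⟨m, hm⟩) (P.r_wt m) (P.det_one T ⟨m, hm⟩)
  have hmap : K'.map lin = M.map P.r := Subgroup.map_comap_eq_self hle
  have hcov' : IsCover F9 K' := isCover_of_equiv
    ((MulEquiv.subgroupCongr hmap.symm).trans (K'.equivMapOfInjective lin lin_injective).symm) hcov
  obtain ⟨Cv⟩ := exists_cov h9 hcov'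
  obtain ⟨g, c, hgc⟩ := classify Cv
  -- the change of coordinates
  let U : Equiv.Perm Vec :=
    { toFun := fun u => ap g⁻¹ (dl c *ᵥ u)
      invFun := fun u => dl (-c) *ᵥ ap g u
      left_inv := fun u => by
        show dl (-c) *ᵥ ap g (ap g⁻¹ (dl c *ᵥ u)) = u
        rw [ap_ap_inv, Matrix.mulVec_mulVec, dl_neg_left, Matrix.one_mulVec]
      right_inv := fun u => by
        show ap g⁻¹ (dl c *ᵥ (dl (-c) *ᵥ ap g u)) = u
        rw [Matrix.mulVec_mulVec, dl_neg_right, Matrix.one_mulVec, ap_inv_ap] }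
  have hUs : Semi false U := ⟨fun a b => by
      show ap g⁻¹ (dl c *ᵥ (a + b)) = _
      rw [Matrix.mulVec_add, ap_add]; rfl,
    fun k a => by
      show ap g⁻¹ (dl c *ᵥ (k • a)) = _
      rw [Matrix.mulVec_smul, ap_smul]; rfl⟩
  have hUw : ∀ u, wt (U u) = wt u := fun u => by
    show wt (lin g⁻¹ (dl c *ᵥ u)) = wt u
    rw [wt_lin]
    have h : iot (wt (dl c *ᵥ u)) = iot (wt u) := by
      rw [← herm_self, ← herm_self, preserves_dl c u u]
    have key : ∀ a b, iot a = iot b → a = b := by decide +kernel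
    exact key _ _ h
  have hUadd : ∀ a b, U.symm (a + b) = U.symm a + U.symm b := fun a b => U.injective (by
    rw [hUs.add, U.apply_symm_apply, U.apply_symm_apply, U.apply_symm_apply])
  have hU0 : U.symm 0 = 0 := U.injective (by rw [U.apply_symm_apply, hUs.map_zero])
  have hUw' : ∀ u, wt (U.symm u) = wt u := fun u => by
    conv_rhs => rw [← U.apply_symm_apply u]
    exact (hUw _).symm
  let r' : C →* Equiv.Perm Vec := (MulAut.conj U⁻¹).toMonoidHom.comp P.r
  have hr' : ∀ x u, r' x u = U.symm (P.r x (U u)) := fun x u => rfl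
  refine ⟨{
    π := fun x => U.symm (P.π x)
    π_mul := fun x y => by rw [P.π_mul, hUadd]
    surj := U.symm.surjective.comp P.surj
    zero := fun x => by
      rw [← P.zero, show U.symm (P.π x) = 0 ↔ P.π x = 0 from
        ⟨fun h => U.symm.injective (h.trans hU0.symm), fun h => by rw [h, hU0]⟩]
    sq := fun x => by rw [hUw']; exact P.sq x
    comm := fun x y => by
      rw [P.comm x y, pol, pol, ← hUadd, hUw', hUw', hUw']
    r := r'
    ker := by
      rw [← P.ker]
      ext x
      simp [r', MonoidHom.mem_ker]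
    equi := fun k x y h => by
      rw [hr', U.apply_symm_apply, P.equi k x y h]
    r_add := fun k a b => by rw [hr', hr', hr', hUs.add, P.r_add, hUadd]
    r_wt := fun k u => by rw [hr', hUw', P.r_wt, hUw]
    n₀ := P.n₀
    n₀_mem := P.n₀_mem
    r_n₀ := fun u => by
      rw [hr', P.r_n₀]
      refine U.injective ?_
      rw [U.apply_symm_apply, hUs.smul]
      rfl }, ?_⟩
  show M.map r' = Kl
  rw [← Subgroup.map_map, ← hmap, Subgroup.map_map, Kl]
  have hK : Kg = K'.map ((cj c).symm.toMonoidHom.comp (MulAut.conj g).toMonoidHom) := by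
    rw [← Subgroup.map_map, hgc, Kc, Subgroup.map_map]
    have : (cj c).symm.toMonoidHom.comp (cj c).toMonoidHom = MonoidHom.id ↥SG := by ext x; simp
    rw [this, Subgroup.map_id]
  rw [hK, Subgroup.map_map]
  congr 1
  refine MonoidHom.ext fun x => Equiv.ext fun u => ?_
  show U.symm (ap x (U u)) = ap (cjFun (-c) (g * x * g⁻¹)) u
  refine U.injective ?_
  rw [U.apply_symm_apply]
  show ap x (ap g⁻¹ (dl c *ᵥ u)) = ap g⁻¹ (dl c *ᵥ (ap (cjFun (-c) (g * x * g⁻¹)) u))
  rw [ap_def (cjFun _ _), mat_cjFun, neg_neg, Matrix.mulVec_mulVec, ← mul_assoc, ← mul_assoc,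
    dl_neg_right, one_mul, ← Matrix.mulVec_mulVec, ← ap_def (g * x * g⁻¹), ap_mul, ap_mul,
    ap_inv_ap]

end Image

/-! ### The setting -/

/-- The working hypotheses. -/
structure LSetup {G : Type*} [Group G] (z : G) (Q : Subgroup G) where
  hzo : orderOf z = 2
  hzQ : z ∈ Q
  le : ∀ q ∈ Q, q * z = z * q
  norm : ∀ c : G, c * z = z * c → ∀ q ∈ Q, c * q * c⁻¹ ∈ Q
  card_Q : Nat.card Q = 2 ^ 13
  π : G → Vec
  π_mul : ∀ a ∈ Q, ∀ b ∈ Q, π (a * b) = π a + π b
  π_surj : ∀ v, ∃ q ∈ Q, π q = v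
  π_zero : ∀ q ∈ Q, π q = 0 ↔ (q = 1 ∨ q = z)
  sq : ∀ q ∈ Q, q * q = zp z (wt (π q))
  comm : ∀ q ∈ Q, ∀ r ∈ Q, r * q = q * r * zp z (pol (π q) (π r))
  ρ : G → Equiv.Perm Vec
  ρ_mul : ∀ c d : G, c * z = z * c → d * z = z * d → ρ (c * d) = ρ c * ρ d
  ρ_π : ∀ c : G, c * z = z * c → ∀ q ∈ Q, π (c * q * c⁻¹) = ρ c (π q)
  ρ_ker : ∀ c : G, c * z = z * c → (ρ c = 1 ↔ c ∈ Q)
  ρ_semi : ∀ c : G, c * z = z * c → ∃ θ, Semi θ (ρ c)
  ρ_cls : ∀ c : G, c * z = z * c → ∀ u, cls (ρ c u) = cls u
  ρ_wt : ∀ c : G, c * z = z * c → ∀ u, wt (ρ c u) = wt u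
  ρ_normK : ∀ c : G, c * z = z * c → ∀ k ∈ Kl, ρ c * k * (ρ c)⁻¹ ∈ Kl
  ρ_surj : ∀ k ∈ Kl, ∃ c : G, c * z = z * c ∧ ρ c = k
  outer : ∃ c : G, c * z = z * c ∧ ρ c ∉ Kl
  two : ∀ c d : G, c * z = z * c → d * z = z * d → (ρ (c * d) ∈ Kl ↔ (ρ c ∈ Kl ↔ ρ d ∈ Kl))
  nwc : ∃ g : G, g * z * g⁻¹ ∈ Q ∧ g * z * g⁻¹ ≠ z

theorem setup_of {G : Type*} [Group G] [Finite G] {z : G}
    (Q : Subgroup (Subgroup.centralizer ({z} : Set G))) [Q.Normal]
    (hF : Cfsg.IsOfLargeFischerTypeAt z Q) :
    Nonempty (LSetup z (Q.map (Subgroup.centralizer ({z} : Set G)).subtype)) := by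
  classical
  obtain ⟨⟨hz, hgf, hQ, hcard, hnwc⟩, N, M, hN, hM, hQN, hNM, hcN, ⟨F9, i1, i2, h9, he⟩, hidx⟩ := hF
  haveI : (N.subgroupOf M).Normal := Subgroup.Normal.subgroupOf hN M
  have T : Tower Q N M := ⟨hQN, hNM, hN, hM, hcN, ⟨F9, i1, i2, inferInstance, h9, he⟩, hcard⟩
  obtain ⟨hzZ, hcenG, -, -⟩ := H92.centralizer_setting (Subgroup.map_subtype_le Q) (by rw [hgf])
  have hcen : ∀ c : ↥(Subgroup.centralizer ({z} : Set G)),
      (∀ q ∈ Q, q * c = c * q) → c ∈ Q := by
    intro c hc
    have h1 : (c : G) ∈ Subgroup.centralizer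
        ((Q.map (Subgroup.centralizer ({z} : Set G)).subtype : Subgroup G) : Set G) :=
      Subgroup.mem_centralizer_iff.mpr fun q hq => by
        obtain ⟨r, hr, rfl⟩ := hq
        exact congrArg Subtype.val (hc r hr)
    rw [hcenG] at h1
    obtain ⟨r, hr, hre⟩ := H92.center_map_le h1
    exact (Subtype.ext hre : r = c) ▸ hr
  have build : ∀ {U : Type} [AddCommGroup U] [Module (ZMod 2) U]
      {Q' : QuadraticForm (ZMod 2) U}, FormMap ↥Q U Q' →
      Nonempty (LSetup z (Q.map (Subgroup.centralizer ({z} : Set G)).subtype)) := by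
    intro U _ _ Q' F
    obtain ⟨P₀⟩ := exists_pre_of_form T hQ hcen F
    obtain ⟨P, hPK⟩ := P₀.normalize T
    have hzlift : ((F.z : ↥(Subgroup.centralizer ({z} : Set G))) : G) = z := by
      have hzQ : z ∈ Q.map (Subgroup.centralizer ({z} : Set G)).subtype := H92.center_map_le hzZ
      obtain ⟨w, hw, hwz⟩ := hzQ
      have hwc : (⟨w, hw⟩ : Q) ∈ Subgroup.center Q := Subgroup.mem_center_iff.mpr fun q =>
        Subtype.ext (Subtype.ext (by
          show ((q : Subgroup.centralizer ({z} : Set G)) : G) * (w : G) =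
            (w : G) * ((q : Subgroup.centralizer ({z} : Set G)) : G)
          rw [show (w : G) = z from hwz]
          exact Subgroup.mem_centralizer_singleton_iff.mp (q : Subgroup.centralizer ({z} : Set G)).2))
      rcases (F.mem_center _).mp hwc with e' | e'
      · exfalso
        have : z = 1 := by
          rw [← hwz, show w = 1 from congrArg Subtype.val e']; rfl
        rw [this, orderOf_one] at hz
        omega
      · exact (congrArg (fun x : Q => ((x : Subgroup.centralizer ({z} : Set G)) : G)) e').symm.trans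
          hwz
    have hmemC : ∀ c : G, c * z = z * c → c ∈ Subgroup.centralizer ({z} : Set G) :=
      fun c hc => Subgroup.mem_centralizer_singleton_iff.mpr hc
    let lift : G → ↥(Subgroup.centralizer ({z} : Set G)) := fun x =>
      if h : x ∈ Subgroup.centralizer ({z} : Set G) then ⟨x, h⟩ else 1
    have lift_eq : ∀ c : ↥(Subgroup.centralizer ({z} : Set G)), lift c = c := fun c => by
      simp [lift, c.2]
    have lift_of : ∀ x (h : x ∈ Subgroup.centralizer ({z} : Set G)), lift x = ⟨x, h⟩ :=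
      fun x h => by simp [lift, h]
    let pi : G → Vec := fun x => if h : lift x ∈ Q then P.π ⟨lift x, h⟩ else 0
    have pi_eq : ∀ q : ↥Q, pi ((q : ↥(Subgroup.centralizer ({z} : Set G))) : G) = P.π q :=
      fun q => by simp [pi, lift_eq]
    have hzp : ∀ a, ((zp (F.z : ↥(Subgroup.centralizer ({z} : Set G))) a :
        ↥(Subgroup.centralizer ({z} : Set G))) : G) = zp z a := fun a => by
      unfold zp
      split_ifs <;> simp [hzlift]
    have hmemM : ∀ c, P.r c ∈ Kl ↔ c ∈ M := by
      intro c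
      refine ⟨fun h => ?_, fun h => hPK ▸ Subgroup.mem_map_of_mem _ h⟩
      rw [← hPK] at h
      obtain ⟨m, hm, e⟩ := h
      have : m⁻¹ * c ∈ Q := by
        rw [← P.ker, MonoidHom.mem_ker, map_mul, map_inv, e, inv_mul_cancel]
      simpa using mul_mem hm (T.NM (T.QN this))
    refine ⟨{
      hzo := hz
      hzQ := H92.center_map_le hzZ
      le := fun q hq => by
        obtain ⟨q, -, rfl⟩ := hq
        exact Subgroup.mem_centralizer_singleton_iff.mp q.2
      norm := fun c hc q hq => by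
        obtain ⟨q, hq, rfl⟩ := hq
        exact ⟨⟨c, hmemC c hc⟩ * q * ⟨c, hmemC c hc⟩⁻¹, ‹Q.Normal›.conj_mem q hq _, rfl⟩
      card_Q := by
        rw [← hcard]
        exact (Nat.card_congr (Q.equivMapOfInjective _
          (Subgroup.subtype_injective _)).toEquiv).symm
      π := pi
      π_mul := ?_, π_surj := ?_, π_zero := ?_, sq := ?_, comm := ?_
      ρ := fun x => P.r (lift x)
      ρ_mul := fun c d hc hd => by
        rw [← map_mul]
        congr 1
        rw [lift_of c (hmemC c hc), lift_of d (hmemC d hd),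
          lift_of _ (mul_mem (hmemC c hc) (hmemC d hd))]
        rfl
      ρ_π := ?_, ρ_ker := ?_
      ρ_semi := fun c _ => P.semi T _
      ρ_cls := ?_
      ρ_wt := fun c _ u => P.r_wt _ u
      ρ_normK := fun c _ k hk => by
        rw [← hPK] at hk
        obtain ⟨m, hm, rfl⟩ := hk
        show P.r (lift c) * P.r m * (P.r (lift c))⁻¹ ∈ Kl
        rw [← map_inv, ← map_mul, ← map_mul, hmemM]
        exact hM.conj_mem m hm _
      ρ_surj := ?_, outer := ?_, two := ?_, nwc := ?_ }⟩
    · rintro - ⟨a, ha, rfl⟩ - ⟨b, hb, rfl⟩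
      show pi (((⟨a, ha⟩ * ⟨b, hb⟩ : ↥Q) : ↥(Subgroup.centralizer ({z} : Set G))) : G) =
        pi (((⟨a, ha⟩ : ↥Q) : ↥(Subgroup.centralizer ({z} : Set G))) : G) +
        pi (((⟨b, hb⟩ : ↥Q) : ↥(Subgroup.centralizer ({z} : Set G))) : G)
      rw [pi_eq, pi_eq, pi_eq, P.π_mul]
    · intro v
      obtain ⟨q, hq⟩ := P.surj v
      exact ⟨_, ⟨q, q.2, rfl⟩, by
        show pi ((q : ↥(Subgroup.centralizer ({z} : Set G))) : G) = v
        rw [pi_eq, hq]⟩
    · rintro - ⟨a, ha, rfl⟩
      show pi (((⟨a, ha⟩ : ↥Q) : ↥(Subgroup.centralizer ({z} : Set G))) : G) = 0 ↔ _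
      rw [pi_eq, P.zero]
      constructor
      · rintro (e' | e')
        · exact Or.inl (congrArg Subtype.val e')
        · exact Or.inr ((congrArg Subtype.val e').trans hzlift)
      · rintro (e' | e')
        · exact Or.inl (Subtype.ext e')
        · exact Or.inr (Subtype.ext (e'.trans hzlift.symm))
    · rintro - ⟨a, ha, rfl⟩
      show ((a * a : ↥(Subgroup.centralizer ({z} : Set G))) : G) =
        zp z (wt (pi (((⟨a, ha⟩ : ↥Q) : ↥(Subgroup.centralizer ({z} : Set G))) : G)))
      rw [pi_eq, P.sq ⟨a, ha⟩, hzp]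
    · rintro - ⟨a, ha, rfl⟩ - ⟨b, hb, rfl⟩
      show ((b * a : ↥(Subgroup.centralizer ({z} : Set G))) : G) =
        ((a * b : ↥(Subgroup.centralizer ({z} : Set G))) : G) *
        zp z (pol (pi (((⟨a, ha⟩ : ↥Q) : ↥(Subgroup.centralizer ({z} : Set G))) : G))
          (pi (((⟨b, hb⟩ : ↥Q) : ↥(Subgroup.centralizer ({z} : Set G))) : G)))
      rw [pi_eq, pi_eq, ← hzp, ← Subgroup.coe_mul, P.comm ⟨a, ha⟩ ⟨b, hb⟩]
    · rintro c hc - ⟨a, ha, rfl⟩
      show pi (c * (a : G) * c⁻¹) =
        P.r (lift c) (pi (((⟨a, ha⟩ : ↥Q) : ↥(Subgroup.centralizer ({z} : Set G))) : G))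
      rw [lift_of c (hmemC c hc), pi_eq,
        show c * (a : G) * c⁻¹ = (((⟨⟨c, hmemC c hc⟩ * a * ⟨c, hmemC c hc⟩⁻¹,
          ‹Q.Normal›.conj_mem a ha _⟩ : ↥Q) : ↥(Subgroup.centralizer ({z} : Set G))) : G) from rfl,
        pi_eq]
      exact P.equi ⟨c, hmemC c hc⟩ ⟨a, ha⟩ _ rfl
    · intro c hc
      show P.r (lift c) = 1 ↔ _
      rw [lift_of c (hmemC c hc), ← MonoidHom.mem_ker, P.ker]
      refine ⟨fun h => ⟨_, h, rfl⟩, fun ⟨x, hx, hxe⟩ => ?_⟩
      exact (Subtype.ext hxe : x = ⟨c, hmemC c hc⟩) ▸ hx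
    · intro c hc u
      refine cls_of_normalizes ?_ ?_ (fun u => ?_) u
      · intro k hk
        rw [← hPK] at hk
        obtain ⟨m, hm, rfl⟩ := hk
        show P.r (lift c) * P.r m * (P.r (lift c))⁻¹ ∈ Kl
        rw [← map_inv, ← map_mul, ← map_mul, hmemM]
        exact hM.conj_mem m hm _
      · obtain ⟨θ, hθ⟩ := P.semi T (lift c)
        exact hθ.map_zero
      · rw [cls_one_iff, cls_one_iff, P.r_wt]
    · intro k hk
      rw [← hPK] at hk
      obtain ⟨m, hm, rfl⟩ := hk
      exact ⟨m, Subgroup.mem_centralizer_singleton_iff.mp m.2, by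
        show P.r (lift m) = P.r m
        rw [lift_eq]⟩
    · obtain ⟨c, hc⟩ : ∃ c, c ∉ M := by
        by_contra hcon
        push Not at hcon
        rw [(Subgroup.eq_top_iff' M).2 hcon, Subgroup.index_top] at hidx
        omega
      exact ⟨c, Subgroup.mem_centralizer_singleton_iff.mp c.2, by
        show P.r (lift c) ∉ Kl
        rw [lift_eq, hmemM]
        exact hc⟩
    · intro c d hc hd
      show P.r (lift (c * d)) ∈ Kl ↔ (P.r (lift c) ∈ Kl ↔ P.r (lift d) ∈ Kl)
      rw [hmemM, hmemM, hmemM, lift_of c (hmemC c hc), lift_of d (hmemC d hd),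
        lift_of _ (mul_mem (hmemC c hc) (hmemC d hd))]
      exact Subgroup.mul_mem_iff_of_index_two hidx (a := (⟨c, hmemC c hc⟩ :
        ↥(Subgroup.centralizer ({z} : Set G)))) (b := ⟨d, hmemC d hd⟩)
    · obtain ⟨g, ⟨hq, hm'⟩, hne⟩ := hnwc
      exact ⟨g, ⟨_, hm', rfl⟩, hne⟩
  rcases exists_formMap hQ 6 (by norm_num) (by rw [hcard]) with ⟨⟨F⟩⟩ | ⟨⟨F⟩⟩
  · exact build F
  · exact build F

end Cfsg.Agent.H41.LFi
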