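import Cfsg.Agent.H41.LFi.Stab

/-!
The centraliser of the element of order three does not split over the centre.
-/

set_option autoImplicit false
set_option linter.unusedSectionVars false
set_option linter.style.haveILetI false
set_option maxRecDepth 20000
set_option maxHeartbeats 1000000

namespace Cfsg.Agent.H41.LFi

open Cfsg Cfsg.Agent.Compute Cfsg.Agent.Unitary Cfsg.Agent.H41.SUSix Matrix

attribute [local irreducible] mapsC sift invPerm H95.UFourThree.u43Chain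

theorem herm_r85 : hermForm 6 K4 2 r85 r85 = 0 := by
  rw [r85, herm_self]
  have : wt (dV 85) = 0 := by decide +kernel
  rw [this]
  rfl

theorem r85_ne : r85 ≠ 0 := by
  rw [r85]
  decide +kernel

theorem omega_r85 : ω₄ • r85 ≠ r85 ∧ ω₄ • r85 ≠ 0 ∧ (ω₄ * ω₄) • r85 = r85 + ω₄ • r85 := by
  rw [r85]
  decide +kernel

theorem cls_smul_r85 : cls (ω₄ • r85) = 3 := by
  rw [r85]
  decide +kernel

theorem vec_add_self (v : Vec) : v + v = 0 := by
  funext i
  have key : ∀ a : K4, a + a = 0 := by decide +kernel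
  exact key _

theorem smul_oP_notMem {j : ℕ} (hj : j < 16) {a : Equiv.Perm Vec}
    (ha : ∀ u, a u = ω₄ • oP j u) : a ∉ Egrp := by
  intro hmem
  have h1 : a r85 = r85 := by
    obtain ⟨i, hi, e | e⟩ := hmem
    · rw [e, aP_r85]
    · rw [e, oP_r85]
  rw [ha, oP_r85] at h1
  exact omega_r85.1 h1

variable {G : Type*} [Group G] [Finite G] {z : G}

namespace LSetup

variable {Q : Subgroup G} (S : LSetup z Q)
include S

theorem mem_meet_iff {g : G} (h : H92.PairSetting Q z g) {a : G} :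
    a ∈ meetD Q g ↔ a ∈ Q ∧ S.π a ∈ S.piImage (meetD Q g) inf_le_left := by
  refine ⟨fun ha => ⟨ha.1, a, ha, rfl⟩, fun ⟨ha, b, hb, e⟩ => ?_⟩
  rcases S.π_eq (hb.1) ha e with e' | e'
  · rwa [e']
  · rw [e']
    exact mul_mem (S.z_mem_D h) hb

theorem meet_eq {g g' : G} (h : H92.PairSetting Q z g) (h' : H92.PairSetting Q z g')
    (e : S.π (g * z * g⁻¹) = S.π (g' * z * g'⁻¹)) : meetD Q g = meetD Q g' := by
  obtain ⟨k, hk, ek⟩ := transitive (Or.inr rfl) (S.cls_eq_three h)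
  have sh := S.shape h hk ek
  have sh' := S.shape h' hk (ek.trans e)
  ext a
  rw [S.mem_meet_iff h, S.mem_meet_iff h', sh.meet, sh'.meet]

variable {x : G}

theorem x_inv_apply (hxz : x * z = z * x) (hω : ∀ u, S.ρ x u = ω₄ • u) (u : Vec) :
    S.ρ x⁻¹ u = (ω₄ * ω₄) • u := by
  rw [S.ρ_inv hxz]
  show (S.ρ x).symm u = _
  rw [Equiv.symm_apply_eq, hω, smul_smul]
  have key : ω₄ * (ω₄ * ω₄) = (1 : K4) := by decide +kernel
  rw [key, one_smul]

/-- A conjugate with root image, and product of its first two images under `x` the third. -/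
theorem exists_base (hP : ∀ g : G, g * z * g⁻¹ ∈ Q → g * z * g⁻¹ ≠ z → H92.PairSetting Q z g)
    (hxz : x * z = z * x) (hω : ∀ u, S.ρ x u = ω₄ • u) :
    ∃ g : G, ∃ _ : H92.PairSetting Q z g, S.π (g * z * g⁻¹) = r85 ∧
      g * z * g⁻¹ * (x * (g * z * g⁻¹) * x⁻¹) = x * x * (g * z * g⁻¹) * (x * x)⁻¹ := by
  obtain ⟨g0, hg0, hne0⟩ := S.nwc
  have h0 := hP g0 hg0 hne0
  obtain ⟨k, hk, ek⟩ := transitive (Or.inr rfl) (S.cls_eq_three h0)
  obtain ⟨c, hc, ec⟩ := S.ρ_surj _ (Kl.inv_mem hk)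
  have e1 : c * g0 * z * (c * g0)⁻¹ = c * (g0 * z * g0⁻¹) * c⁻¹ := by group
  have hπ : S.π (c * g0 * z * (c * g0)⁻¹) = r85 := by
    rw [e1, S.ρ_π c hc _ h0.hs, ec]
    exact k.symm_apply_eq.2 ek.symm
  have hQ : c * g0 * z * (c * g0)⁻¹ ∈ Q := e1 ▸ S.norm c hc _ h0.hs
  have hne : c * g0 * z * (c * g0)⁻¹ ≠ z := fun e => r85_ne (by rw [← hπ, e, S.π_z])
  have h1 := hP _ hQ hne
  set g1 := c * g0 with hg1
  set s := g1 * z * g1⁻¹ with hs
  have hsQ : s ∈ Q := h1.hs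
  have hs'Q : x * s * x⁻¹ ∈ Q := S.norm x hxz s hsQ
  have hxx := S.z_comm_mul hxz hxz
  have hs''Q : x * x * s * (x * x)⁻¹ ∈ Q := S.norm _ hxx s hsQ
  have hπ' : S.π (x * s * x⁻¹) = ω₄ • r85 := by rw [S.ρ_π x hxz s hsQ, hω, hπ]
  have hπ'' : S.π (x * x * s * (x * x)⁻¹) = (ω₄ * ω₄) • r85 := by
    rw [S.ρ_π _ hxx s hsQ, S.ρ_mul x x hxz hxz, Equiv.Perm.mul_apply, hω, hω, smul_smul, hπ]
  have hsum : S.π (x * x * s * (x * x)⁻¹) = S.π (s * (x * s * x⁻¹)) := by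
    rw [hπ'', S.π_mul s hsQ _ hs'Q, hπ, hπ', omega_r85.2.2]
  rcases S.π_eq hs''Q (mul_mem hsQ hs'Q) hsum with e | e
  · exact ⟨g1, h1, hπ, e⟩
  obtain ⟨q, hq, hqs⟩ := S.exists_conj_z hsQ (by rw [hπ]; exact r85_ne)
  have hqz : q * z = z * q := S.le q hq
  have eq1 : q * g1 * z * (q * g1)⁻¹ = z * s := by rw [← hqs, hs]; group
  have hπq : S.π (q * g1 * z * (q * g1)⁻¹) = r85 := by rw [eq1, S.π_zmul hsQ, hπ]
  have hQq : q * g1 * z * (q * g1)⁻¹ ∈ Q := eq1 ▸ mul_mem S.hzQ hsQ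
  have hneq : q * g1 * z * (q * g1)⁻¹ ≠ z := fun e => r85_ne (by rw [← hπq, e, S.π_z])
  refine ⟨q * g1, hP _ hQq hneq, hπq, ?_⟩
  rw [eq1]
  have hzs : z * s = s * z := (S.le s hsQ).symm
  calc z * s * (x * (z * s) * x⁻¹) = z * s * ((x * z) * s * x⁻¹) := by group
    _ = z * (s * z) * (x * s * x⁻¹) := by rw [hxz]; group
    _ = z * (z * s) * (x * s * x⁻¹) := by rw [hzs]
    _ = s * (x * s * x⁻¹) := by rw [← mul_assoc z z s, S.z_sq, one_mul]
    _ = z * (x * x * s * (x * x)⁻¹) := e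
    _ = (z * (x * x)) * s * (x * x)⁻¹ := by group
    _ = x * x * (z * s) * (x * x)⁻¹ := by rw [← hxx]; group

/-- There is no complement to the centre in the centraliser of `x`. -/
theorem no_complement
    (hP : ∀ g : G, g * z * g⁻¹ ∈ Q → g * z * g⁻¹ ≠ z → H92.PairSetting Q z g)
    (hxz : x * z = z * x) (hx3 : x * x * x = 1) (hω : ∀ u, S.ρ x u = ω₄ • u)
    (K : Subgroup G) (hKz : ∀ m ∈ K, m * z = z * m) (hKx : ∀ m ∈ K, m * x = x * m)
    (hKs : ∀ k ∈ Kl, ∃ m ∈ K, S.ρ m = k) (hKi : ∀ m ∈ K, S.ρ m = 1 → m = 1) : False := by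
  classical
  obtain ⟨g, h, hπs, hprod⟩ := S.exists_base hP hxz hω
  set s := g * z * g⁻¹ with hs
  set s' := x * s * x⁻¹ with hs'
  have hsQ : s ∈ Q := h.hs
  have hs'Q : s' ∈ Q := S.norm x hxz s hsQ
  have hxx := S.z_comm_mul hxz hxz
  have hxi : x⁻¹ = x * x := inv_eq_of_mul_eq_one_right (by rw [← mul_assoc]; exact hx3)
  have hπ' : S.π s' = ω₄ • r85 := by rw [hs', S.ρ_π x hxz s hsQ, hω, hπs]
  have sh := S.shape h (one_mem Kl) (by rw [Equiv.Perm.one_apply, hπs])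
  have hshmem : ∀ {a}, a ∈ S.imgE g → a ∈ Egrp := by
    intro a ha
    have := (Shape.mem_img S sh).1 ha
    rwa [inv_one, one_mul, mul_one] at this
  have hshD : ∀ {a}, a ∈ meetD Q g → S.π a ∈ Dset := by
    intro a ha
    have := (sh.meet (S.π a)).1 ⟨a, ha, rfl⟩
    rwa [inv_one, Equiv.Perm.one_apply] at this
  -- the second conjugate seen from the first
  have hs'D : s' ∈ meetD Q g := (S.mem_meet_iff h).2 ⟨hs'Q, (sh.meet _).2 (by
    rw [inv_one, Equiv.Perm.one_apply, hπ']; exact smul_r85_mem_D)⟩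
  have hs'R : g⁻¹ * s' * g ∈ Q := H92.PairSetting.mem_R.1 hs'D.2
  have hs's : s' ≠ s := fun e => omega_r85.1 (by rw [← hπ', e, hπs])
  have hs's2 : s' ≠ 1 := fun e => omega_r85.2.1 (by rw [← hπ', e, S.π_one])
  let g2 := g⁻¹ * x * g
  have eg2 : g2 * z * g2⁻¹ = g⁻¹ * s' * g := by simp only [g2, hs', hs]; group
  have h2 : H92.PairSetting Q z g2 := hP g2 (eg2 ▸ hs'R) (fun e => hs's (by
    rw [eg2] at e
    calc s' = g * (g⁻¹ * s' * g) * g⁻¹ := by group
      _ = s := by rw [e]))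
  let g3 := g⁻¹ * (x * x) * g
  have eg3 : g3 * z * g3⁻¹ = z * (g2 * z * g2⁻¹) := by
    rw [eg2]
    calc g3 * z * g3⁻¹ = g⁻¹ * (x * x * s * (x * x)⁻¹) * g := by simp only [g3, hs]; group
      _ = g⁻¹ * (s * s') * g := by rw [← hprod]
      _ = z * (g⁻¹ * s' * g) := by rw [hs]; group
  have h3 : H92.PairSetting Q z g3 := hP g3 (eg3 ▸ mul_mem S.hzQ h2.hs) (fun e => h2.s_ne_one (by
    rw [eg3] at e
    exact mul_eq_left.1 e))
  have h23 : meetD Q g2 = meetD Q g3 := S.meet_eq h2 h3 (by rw [eg3, S.π_zmul h2.hs])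
  -- the intersection of the two conjugate cores
  let Ast : Subgroup G := (meetD Q g2).map (MulAut.conj g).toMonoidHom
  have hAst : ∀ {a}, a ∈ Ast ↔ g⁻¹ * a * g ∈ Q ∧ g⁻¹ * (x⁻¹ * a * x) * g ∈ Q := by
    intro a
    rw [Subgroup.mem_map_equiv, MulAut.conj_symm_apply, meetD, Subgroup.mem_inf,
      H92.PairSetting.mem_R]
    have e : g2⁻¹ * (g⁻¹ * a * g) * g2 = g⁻¹ * (x⁻¹ * a * x) * g := by simp only [g2]; group
    rw [e]
  have hAst3 : ∀ {a}, a ∈ Ast → g⁻¹ * ((x * x)⁻¹ * a * (x * x)) * g ∈ Q := by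
    intro a ha
    have hm : g⁻¹ * a * g ∈ meetD Q g2 := by
      rwa [Subgroup.mem_map_equiv, MulAut.conj_symm_apply] at ha
    rw [h23, meetD, Subgroup.mem_inf, H92.PairSetting.mem_R] at hm
    have e : g3⁻¹ * (g⁻¹ * a * g) * g3 = g⁻¹ * ((x * x)⁻¹ * a * (x * x)) * g := by
      simp only [g3]; group
    rw [e] at hm
    exact hm.2
  have hAx : ∀ {a}, a ∈ Ast → x * a * x⁻¹ ∈ Ast := by
    intro a ha
    refine hAst.2 ⟨?_, ?_⟩
    · have e : (x * x)⁻¹ * a * (x * x) = x * a * x⁻¹ := by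
        rw [_root_.mul_inv_rev, hxi, show x * x * (x * x) = x * x * x * x by group, hx3, one_mul]
      rw [← e]
      exact hAst3 ha
    · rw [show x⁻¹ * (x * a * x⁻¹) * x = a by group]
      exact (hAst.1 ha).1
  have hAsq : ∀ {a}, a ∈ Ast → a * a = 1 := by
    intro a ha
    obtain ⟨b, hb, rfl⟩ := ha
    rw [← map_mul, S.D_sq h2 hb, map_one]
  have hAcomm : ∀ {a b}, a ∈ Ast → b ∈ Ast → a * b = b * a := by
    intro a b ha hb
    obtain ⟨a', ha', rfl⟩ := ha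
    obtain ⟨b', hb', rfl⟩ := hb
    rw [← map_mul, ← map_mul, S.D_comm h2 ha' hb']
  have hzR : g⁻¹ * z * g ∈ Q := H92.PairSetting.mem_R.1 h.z_mem_R
  have hzA : z ∈ Ast := hAst.2 ⟨hzR, by
    rw [mul_assoc x⁻¹, ← hxz, inv_mul_cancel_left]; exact hzR⟩
  have hAW : ∀ {a}, a ∈ Ast → a ∈ sideW Q z g := fun ha =>
    ⟨H92.PairSetting.mem_R.2 (hAst.1 ha).1,
      Subgroup.mem_centralizer_singleton_iff.2 (hAcomm ha hzA)⟩
  have hAz : ∀ {a}, a ∈ Ast → a * z = z * a := fun ha => hAcomm ha hzA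
  have hxA : ∀ {a}, a ∈ Ast → x⁻¹ * a * x ∈ Ast := by
    intro a ha
    have := hAx (hAx ha)
    rwa [show x * (x * a * x⁻¹) * x⁻¹ = x * x * a * (x * x)⁻¹ by group, ← hxi, inv_inv] at this
  have hAimg : ∀ {a}, a ∈ Ast → S.ρ a ∈ Agrp := by
    intro a ha
    obtain ⟨j, hj, e | e⟩ := hshmem (S.mem_imgE.2 ⟨a, hAW ha, rfl⟩)
    · exact e ▸ aP_mem_A hj
    exfalso
    have h' := hshmem (S.mem_imgE.2 ⟨_, hAW (hxA ha), rfl⟩)
    refine smul_oP_notMem hj (fun u => ?_) h'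
    rw [S.ρ_mul _ _ (S.z_comm_mul (S.z_comm_inv hxz) (hAz ha)) hxz,
      S.ρ_mul _ _ (S.z_comm_inv hxz) (hAz ha), Equiv.Perm.mul_apply, Equiv.Perm.mul_apply, hω,
      S.x_inv_apply hxz hω, e, (semi_oP j).smul, smul_smul]
    congr 1
  -- the kernel of the action on it
  have hker : ∀ {a}, a ∈ Ast → a ∈ Q → ∃ c : K4, S.π a = c • r85 := by
    intro a ha haQ
    have h1 : S.π a ∈ Dset := hshD ⟨haQ, H92.PairSetting.mem_R.2 (hAst.1 ha).1⟩
    have hb : x⁻¹ * a * x ∈ Q := by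
      have := S.norm x⁻¹ (S.z_comm_inv hxz) a haQ
      rwa [inv_inv] at this
    have h2' : S.π (x⁻¹ * a * x) ∈ Dset :=
      hshD ⟨hb, H92.PairSetting.mem_R.2 (hAst.1 (hxA ha)).1⟩
    have hπb : S.π (x⁻¹ * a * x) = (ω₄ * ω₄) • S.π a := by
      have e := S.ρ_π x⁻¹ (S.z_comm_inv hxz) a haQ
      rw [inv_inv] at e
      rw [e, S.x_inv_apply hxz hω]
    rw [hπb] at h2'
    obtain ⟨c, hc⟩ := D_inter h2' (by
      rw [smul_smul]
      have key : ω₄ * (ω₄ * ω₄) = (1 : K4) := by decide +kernel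
      rw [key, one_smul]
      exact h1)
    refine ⟨ω₄ * c, ?_⟩
    rw [← smul_smul, ← hc, smul_smul]
    have key : ω₄ * (ω₄ * ω₄) = (1 : K4) := by decide +kernel
    rw [key, one_smul]
  have hAimage : ∀ b ∈ Agrp, ∃ a ∈ Ast, S.ρ a = b := by
    obtain ⟨k2, hk2, ek2⟩ := transitive (Or.inr rfl) (S.cls_eq_three h2)
    have hc : Nat.card Ast = 2 ^ 7 := by
      rw [← (S.shape h2 hk2 ek2).card_meet]
      exact (Nat.card_congr (Subgroup.equivMapOfInjective _ _ (MulAut.conj g).injective).toEquiv).symm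
    let f : ↥Ast →* ↥Agrp := MonoidHom.mk' (fun a => ⟨S.ρ a, hAimg a.2⟩)
      fun a b => Subtype.ext (S.ρ_mul a b (hAz a.2) (hAz b.2))
    have hk : Nat.card f.ker ≤ 8 := by
      have hP8 : f.ker.map Ast.subtype ≤ Q := by
        rintro _ ⟨a, ha, rfl⟩
        exact (S.ρ_ker _ (hAz a.2)).1 (congrArg Subtype.val (MonoidHom.mem_ker.1 ha))
      have hzk : z ∈ f.ker.map Ast.subtype :=
        ⟨⟨z, hzA⟩, MonoidHom.mem_ker.2 (Subtype.ext ((S.ρ_ker z rfl).2 S.hzQ)), rfl⟩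
      rw [Nat.card_congr (Subgroup.equivMapOfInjective _ _ (Subgroup.subtype_injective Ast)).toEquiv,
        S.card_piImage _ hP8 hzk]
      have : Nat.card (S.piImage _ hP8) ≤ Nat.card K4 := by
        refine Nat.card_le_card_of_surjective (fun c : K4 => if hc : c • r85 ∈ S.piImage _ hP8 then
          (⟨c • r85, hc⟩ : ↥(S.piImage _ hP8)) else 0) ?_
        intro v
        obtain ⟨a, ha, e⟩ := v.2
        obtain ⟨a', ha', rfl⟩ := id ha
        obtain ⟨c, hc⟩ := hker a'.2 (hP8 ha)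
        refine ⟨c, ?_⟩
        have hcv : c • r85 = (v : Vec) := hc.symm.trans e
        dsimp only
        rw [dif_pos (hcv ▸ v.2)]
        exact Subtype.ext hcv
      have h4 : Nat.card K4 = 4 := by rw [Nat.card_eq_fintype_card]; rfl
      omega
    have hm := Subgroup.card_mul_index f.ker
    rw [Subgroup.index_ker, hc] at hm
    have hr : Nat.card f.range ≤ 16 := card_A ▸ Subgroup.card_le_card_group f.range
    have hr' : Nat.card f.range = Nat.card ↥Agrp := by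
      rw [card_A]
      have := Nat.mul_le_mul_right (Nat.card f.range) hk
      rw [hm, show (2 : ℕ) ^ 7 = 8 * 16 by norm_num] at this
      have := Nat.le_of_mul_le_mul_left this (by norm_num)
      omega
    intro b hb
    have htop := Subgroup.eq_top_of_card_eq _ hr'
    obtain ⟨a, ha⟩ : (⟨b, hb⟩ : ↥Agrp) ∈ f.range := htop ▸ Subgroup.mem_top _
    exact ⟨a, a.2, congrArg Subtype.val ha⟩
  -- the elementary abelian subgroup of the complement
  have hL : ∀ {l}, l ∈ K → S.ρ l ∈ Agrp → l ∈ Ast := by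
    intro l hl hlA
    obtain ⟨a, ha, ea⟩ := hAimage _ hlA
    have hb := hAx ha
    have hb' := hAx hb
    set a' := a * (x * a * x⁻¹) * (x * (x * a * x⁻¹) * x⁻¹) with ha'
    have ha'A : a' ∈ Ast := mul_mem (mul_mem ha hb) hb'
    have hfix : x * a' * x⁻¹ = a' := by
      have e1 : x * (x * (x * a * x⁻¹) * x⁻¹) * x⁻¹ = a :=
        calc x * (x * (x * a * x⁻¹) * x⁻¹) * x⁻¹ = (x * x * x) * a * (x * x * x)⁻¹ := by group
          _ = a := by rw [hx3]; group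
      calc x * a' * x⁻¹ = x * a * x⁻¹ * (x * (x * a * x⁻¹) * x⁻¹) *
          (x * (x * (x * a * x⁻¹) * x⁻¹) * x⁻¹) := by rw [ha']; group
        _ = x * a * x⁻¹ * (x * (x * a * x⁻¹) * x⁻¹) * a := by rw [e1]
        _ = a * (x * a * x⁻¹ * (x * (x * a * x⁻¹) * x⁻¹)) := hAcomm (mul_mem hb hb') ha
        _ = a' := by rw [ha']; simp only [mul_assoc]
    have hlin : Semi false (S.ρ l) := semi_of_mem_Kl (A_le hlA).1
    have hconj : ∀ {b}, b * z = z * b → S.ρ b = S.ρ l → S.ρ (x * b * x⁻¹) = S.ρ l := by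
      intro b hbz eb
      refine Equiv.ext fun u => ?_
      rw [S.ρ_mul _ _ (S.z_comm_mul hxz hbz) (S.z_comm_inv hxz), S.ρ_mul _ _ hxz hbz,
        Equiv.Perm.mul_apply, Equiv.Perm.mul_apply, S.x_inv_apply hxz hω, hω, eb, hlin.smul,
        smul_smul]
      have key : ω₄ * tw false (ω₄ * ω₄) = (1 : K4) := by decide +kernel
      rw [key, one_smul]
    have ea' : S.ρ a' = S.ρ l := by
      have c1 := hconj (hAz ha) ea
      have c2 := hconj (hAz hb) c1
      have hll : S.ρ l * S.ρ l = 1 := by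
        rw [← ea, ← S.ρ_mul a a (hAz ha) (hAz ha), hAsq ha, S.ρ_one]
      rw [ha', S.ρ_mul _ _ (hAz (mul_mem ha hb)) (hAz hb'), S.ρ_mul _ _ (hAz ha) (hAz hb), ea, c1,
        c2, hll, one_mul]
    have hq : l⁻¹ * a' ∈ Q := by
      refine (S.ρ_ker _ (S.z_comm_mul (S.z_comm_inv (hKz l hl)) (hAz ha'A))).1 ?_
      rw [S.ρ_mul _ _ (S.z_comm_inv (hKz l hl)) (hAz ha'A), S.ρ_inv (hKz l hl), ea',
        inv_mul_cancel]
    have hqx : x * (l⁻¹ * a') * x⁻¹ = l⁻¹ * a' := by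
      have e1 : x * l⁻¹ = l⁻¹ * x := by
        calc x * l⁻¹ = l⁻¹ * (l * x) * l⁻¹ := by group
          _ = l⁻¹ * (x * l) * l⁻¹ := by rw [hKx l hl]
          _ = l⁻¹ * x := by group
      calc x * (l⁻¹ * a') * x⁻¹ = (x * l⁻¹) * x⁻¹ * (x * a' * x⁻¹) := by group
        _ = l⁻¹ * a' := by rw [hfix, e1]; group
    have hπ0 : S.π (l⁻¹ * a') = 0 := by
      have e := S.ρ_π x hxz _ hq
      rw [hqx, hω] at e
      funext i
      have key : ∀ b : K4, b = ω₄ * b → b = 0 := by decide +kernel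
      exact key _ (congrFun e i)
    rcases (S.π_zero _ hq).1 hπ0 with e | e
    · exact (inv_mul_eq_one.1 e).symm ▸ ha'A
    · have el : l = a' * z := by
        have e' := inv_mul_eq_iff_eq_mul.1 e
        rw [e', mul_assoc, S.z_sq, mul_one]
      exact el ▸ mul_mem ha'A hzA
  -- the change of frame
  obtain ⟨h0, hh0z, eh0⟩ := S.conj_of_cls h2.hs h.hs
    ((S.cls_eq_three h2).trans (S.cls_eq_three h).symm) (Or.inr (S.cls_eq_three h2))
  rw [eg2] at eh0
  set n := h0 * g⁻¹ with hn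
  have hns : n * s * n⁻¹ = z := by
    calc n * s * n⁻¹ = h0 * z * h0⁻¹ := by rw [hn, hs]; group
      _ = z := by rw [hh0z, mul_inv_cancel_right]
  have hns' : n * s' * n⁻¹ = s := by
    calc n * s' * n⁻¹ = h0 * (g⁻¹ * s' * g) * h0⁻¹ := by rw [hn]; group
      _ = s := eh0
  have hnA : ∀ {a}, a ∈ Ast → n * a * n⁻¹ ∈ meetD Q g := by
    intro a ha
    obtain ⟨a1, a2⟩ := hAst.1 ha
    refine ⟨?_, H92.PairSetting.mem_R.2 ?_⟩
    · rw [show n * a * n⁻¹ = h0 * (g⁻¹ * a * g) * h0⁻¹ by rw [hn]; group]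
      exact S.norm h0 hh0z _ a1
    · have he : g⁻¹ * n * x * g * z = z * (g⁻¹ * n * x * g) := by
        have e1 : g⁻¹ * n * x * g * z * (g⁻¹ * n * x * g)⁻¹ = z := by
          calc g⁻¹ * n * x * g * z * (g⁻¹ * n * x * g)⁻¹ = g⁻¹ * (n * s' * n⁻¹) * g := by
                rw [hs', hs]; group
            _ = z := by rw [hns', hs]; group
        calc g⁻¹ * n * x * g * z = (g⁻¹ * n * x * g * z * (g⁻¹ * n * x * g)⁻¹) *
              (g⁻¹ * n * x * g) := by group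
          _ = _ := by rw [e1]
      rw [show g⁻¹ * (n * a * n⁻¹) * g = (g⁻¹ * n * x * g) * (g⁻¹ * (x⁻¹ * a * x) * g) *
        (g⁻¹ * n * x * g)⁻¹ by group]
      exact S.norm _ he _ a2
  -- the part of the complement over the root
  have hfixs : ∀ m ∈ K, S.ρ m r85 = r85 → m * s * m⁻¹ = s ∧ m * s' * m⁻¹ = s' := by
    intro m hm hr
    have hmz := hKz m hm
    have e := S.ρ_π m hmz s hsQ
    rw [hπs, hr] at e
    have hx' : ∀ b, m * (x * b * x⁻¹) * m⁻¹ = x * (m * b * m⁻¹) * x⁻¹ := fun b => by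
      have hxm : x⁻¹ * m⁻¹ = m⁻¹ * x⁻¹ := by
        rw [← _root_.mul_inv_rev, ← _root_.mul_inv_rev, hKx m hm]
      calc m * (x * b * x⁻¹) * m⁻¹ = (m * x) * b * (x⁻¹ * m⁻¹) := by group
        _ = x * (m * b * m⁻¹) * x⁻¹ := by rw [hKx m hm, hxm]; group
    rcases S.π_eq hsQ (S.norm m hmz s hsQ) (hπs.trans e.symm) with e1 | e1
    · exact ⟨e1, by rw [hs', hx', e1]⟩
    · exfalso
      have hzx : z * x = x * z := hxz.symm
      have e2 : m * s' * m⁻¹ = z * s' := by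
        rw [hs', hx', e1]
        calc x * (z * s) * x⁻¹ = (x * z) * s * x⁻¹ := by group
          _ = z * (x * s * x⁻¹) := by rw [hxz]; group
      have e3 : m * (s * s') * m⁻¹ = z * (s * s') := by
        rw [hprod, show m * (x * x * s * (x * x)⁻¹) * m⁻¹ = m * (x * (x * s * x⁻¹) * x⁻¹) * m⁻¹ by
          group, hx', ← hs', e2]
        calc x * (z * s') * x⁻¹ = (x * z) * s' * x⁻¹ := by group
          _ = z * (x * s' * x⁻¹) := by rw [hxz]; group
          _ = z * (x * x * s * (x * x)⁻¹) := by rw [hs']; group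
      have e4 : m * (s * s') * m⁻¹ = s * s' := by
        have hsz : s * z = z * s := S.le s hsQ
        calc m * (s * s') * m⁻¹ = (m * s * m⁻¹) * (m * s' * m⁻¹) := by group
          _ = z * (s * z) * s' := by rw [e1, e2]; group
          _ = (z * z) * (s * s') := by rw [hsz]; group
          _ = s * s' := by rw [S.z_sq, one_mul]
      rw [e4] at e3
      exact S.z_ne (mul_right_cancel ((one_mul (s * s')).trans e3)).symm
  have hm' : ∀ m ∈ K, S.ρ m r85 = r85 →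
      n * m * n⁻¹ * z = z * (n * m * n⁻¹) ∧ S.ρ (n * m * n⁻¹) r85 = r85 := by
    intro m hm hr
    obtain ⟨e1, e2⟩ := hfixs m hm hr
    have hz' : n * m * n⁻¹ * z = z * (n * m * n⁻¹) := by
      rw [← hns]
      calc n * m * n⁻¹ * (n * s * n⁻¹) = n * (m * s * m⁻¹) * (m * n⁻¹) := by group
        _ = n * s * n⁻¹ * (n * m * n⁻¹) := by rw [e1]; group
    refine ⟨hz', ?_⟩
    rw [← hπs, ← S.ρ_π _ hz' s hsQ]
    congr 1
    rw [← hns']
    calc n * m * n⁻¹ * (n * s' * n⁻¹) * (n * m * n⁻¹)⁻¹ = n * (m * s' * m⁻¹) * n⁻¹ := by group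
      _ = n * s' * n⁻¹ := by rw [e2]
  choose κ hκK hκρ using hKs
  have hκ : ∀ k (hk : k ∈ Kl) m, m ∈ K → S.ρ m = k → κ k hk = m := by
    intro k hk m hm e
    have h1 := hKi _ (K.mul_mem (K.inv_mem hm) (hκK k hk)) (by
      rw [S.ρ_mul _ _ (S.z_comm_inv (hKz m hm)) (hKz _ (hκK k hk)), S.ρ_inv (hKz m hm), hκρ, e,
        inv_mul_cancel])
    exact (inv_mul_eq_one.1 h1).symm
  let μ : ↥(stabK r85) → G := fun k => n * κ k k.2.1 * n⁻¹
  have hμ : ∀ k : ↥(stabK r85), μ k * z = z * μ k ∧ S.ρ (μ k) r85 = r85 := fun k =>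
    hm' _ (hκK _ k.2.1) (by rw [hκρ]; exact k.2.2)
  have hμmul : ∀ a b, μ (a * b) = μ a * μ b := by
    intro a b
    have e : κ (a * b : ↥(stabK r85)) (a * b).2.1 = κ a a.2.1 * κ b b.2.1 :=
      hκ _ _ _ (K.mul_mem (hκK _ _) (hκK _ _)) (by
        rw [S.ρ_mul _ _ (hKz _ (hκK _ _)) (hKz _ (hκK _ _)), hκρ, hκρ]; rfl)
    show n * κ _ _ * n⁻¹ = n * κ _ _ * n⁻¹ * (n * κ _ _ * n⁻¹)
    rw [e]; group
  have hdom : ∀ k : ↥(stabK r85), S.ρ (μ k) ∈ dom6 := fun k => by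
    have := S.stab_dom (one_mem Kl) sh (hμ k).1 (by simp only [Equiv.Perm.one_apply]; exact (hμ k).2)
    rwa [inv_one, one_mul, mul_one] at this
  have hpsi : ∀ {c : G} (hc : c * z = z * c) (hr : S.ρ c r85 = r85) (hd : S.ρ c ∈ dom6),
      psi ⟨S.ρ c, hd⟩ ∈ alternatingGroup (Fin 6) ∧ (psi ⟨S.ρ c, hd⟩ = 1 ↔ S.ρ c ∈ S.imgE g) := by
    intro c hc hr hd
    have := S.stab_psi (one_mem Kl) sh hc (by simp only [Equiv.Perm.one_apply]; exact hr)
    simp only [inv_one, one_mul, mul_one] at this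
    exact this
  let dR : ↥(stabK r85) →* ↥dom6 := MonoidHom.mk' (fun k => ⟨S.ρ (μ k), hdom k⟩)
    fun a b => Subtype.ext (by
      show S.ρ (μ (a * b)) = S.ρ (μ a) * S.ρ (μ b)
      rw [hμmul, S.ρ_mul _ _ (hμ a).1 (hμ b).1])
  let ν : ↥(stabK r85) →* ↥(alternatingGroup (Fin 6)) :=
    (psi.comp dR).codRestrict _ fun k => (hpsi (hμ k).1 (hμ k).2 (hdom k)).1
  have hνA : Agrp.subgroupOf (stabK r85) ≤ ν.ker := by
    intro k hk
    rw [MonoidHom.mem_ker]
    refine Subtype.ext ?_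
    have hl : κ k k.2.1 ∈ Ast := hL (hκK _ _) (by rw [hκρ]; exact hk)
    have e1 : S.ρ (μ k) = 1 := (S.ρ_ker _ (hμ k).1).2 (hnA hl).1
    show psi ⟨S.ρ (μ k), hdom k⟩ = 1
    exact psi_eq (show Moves (S.ρ (μ k)) 1 from e1.symm ▸ moves_one)
  haveI := isSimple_alt_six
  have hνbot : ν.ker = Agrp.subgroupOf (stabK r85) := by
    haveI := (MonoidHom.normal_ker ν).map psiA psiA_surjective
    rcases IsSimpleGroup.eq_bot_or_eq_top_of_normal (ν.ker.map psiA) inferInstance with e | e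
    · refine le_antisymm ?_ hνA
      intro k hk
      have := Subgroup.mem_map_of_mem psiA hk
      rw [e, Subgroup.mem_bot] at this
      rw [← psiA_ker]
      exact this
    exfalso
    have hall : ∀ k, ν k = 1 := by
      intro k
      have hkk : ν.ker = ⊤ := (Subgroup.comap_map_eq_self (f := psiA) (H := ν.ker)
        (by rw [psiA_ker]; exact hνA)).symm.trans (by rw [e, Subgroup.comap_top])
      exact MonoidHom.mem_ker.1 (hkk ▸ Subgroup.mem_top k)
    haveI : Fact (Nat.Prime 5) := ⟨Nat.prime_five⟩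
    obtain ⟨k, hk5⟩ := exists_prime_orderOf_dvd_card' (G := ↥(stabK r85)) 5 (by
      rw [card_stab_three]; norm_num)
    have hE := ((hpsi (hμ k).1 (hμ k).2 (hdom k)).2).1 (congrArg Subtype.val (hall k))
    have hsq : μ (k * k) ∈ Q := by
      refine (S.ρ_ker _ (hμ _).1).1 ?_
      rw [hμmul, S.ρ_mul _ _ (hμ k).1 (hμ k).1, S.imgE_sq h hE]
    let μh : ↥(stabK r85) →* G := MonoidHom.mk' μ hμmul
    have h5 : orderOf (k * k) = 5 := by
      rw [← pow_two]
      rw [(show (orderOf k).Coprime 2 by rw [hk5]; norm_num).orderOf_pow, hk5]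
    have hμinj : Function.Injective μh := by
      intro a b e
      have e' : κ a a.2.1 = κ b b.2.1 := mul_left_cancel (mul_right_cancel (show
        n * κ a a.2.1 * n⁻¹ = n * κ b b.2.1 * n⁻¹ from e))
      exact Subtype.ext (by rw [← hκρ a a.2.1, ← hκρ b b.2.1, e'])
    have hd := Subgroup.orderOf_dvd_natCard Q hsq
    rw [show μ (k * k) = μh (k * k) from rfl, orderOf_injective μh hμinj, h5, S.card_Q] at hd
    norm_num at hd
  have hνsurj : Function.Surjective ν := by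
    have hc := Subgroup.card_mul_index ν.ker
    rw [Subgroup.index_ker, hνbot, Nat.card_congr (Subgroup.subgroupOfEquivOfLe A_le).toEquiv,
      card_A, card_stab_three] at hc
    have h360 : Nat.card (alternatingGroup (Fin 6)) = 360 := by
      rw [nat_card_alternatingGroup, Nat.card_fin]; decide
    have htop : ν.range = ⊤ := Subgroup.eq_top_of_card_eq _ (by rw [h360]; omega)
    exact MonoidHom.range_eq_top.1 htop
  -- the subgroup of index two in the intersection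
  let L : Subgroup G :=
    { carrier := {l | l ∈ K ∧ S.ρ l ∈ Agrp}
      one_mem' := ⟨K.one_mem, by rw [S.ρ_one]; exact Agrp.one_mem⟩
      mul_mem' := fun {a b} ha hb => ⟨K.mul_mem ha.1 hb.1, by
        rw [S.ρ_mul _ _ (hKz a ha.1) (hKz b hb.1)]; exact Agrp.mul_mem ha.2 hb.2⟩
      inv_mem' := fun {a} ha => ⟨K.inv_mem ha.1, by
        rw [S.ρ_inv (hKz a ha.1)]; exact Agrp.inv_mem ha.2⟩ }
  have hLD : ∀ {l}, l ∈ L → n * l * n⁻¹ ∈ meetD Q g := fun hl => hnA (hL hl.1 hl.2)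
  have hπadd : ∀ {a b}, a ∈ L → b ∈ L →
      S.π (n * (a * b) * n⁻¹) = S.π (n * a * n⁻¹) + S.π (n * b * n⁻¹) := by
    intro a b ha hb
    rw [show n * (a * b) * n⁻¹ = n * a * n⁻¹ * (n * b * n⁻¹) by group,
      S.π_mul _ (hLD ha).1 _ (hLD hb).1]
  have hLinj : ∀ {l}, l ∈ L → (S.π (n * l * n⁻¹) = 0 ∨ S.π (n * l * n⁻¹) = r85) → l = 1 := by
    intro l hl hc
    have key : S.ρ l = 1 → l = 1 := hKi l hl.1
    have hQ : ∀ q ∈ Q, l = q → l = 1 := fun q hq e =>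
      key ((S.ρ_ker l (hKz l hl.1)).2 (e ▸ hq))
    have back : ∀ b, n * l * n⁻¹ = n * b * n⁻¹ → l = b := fun b e =>
      mul_left_cancel (mul_right_cancel e)
    rcases hc with hc | hc
    · rcases (S.π_zero _ (hLD hl).1).1 hc with e | e
      · exact back 1 (by rw [e]; group)
      · exact hQ s hsQ (back s (e.trans hns.symm))
    · rcases S.π_eq hsQ (hLD hl).1 (hπs.trans hc.symm) with e | e
      · exact hQ s' hs'Q (back s' (e.trans hns'.symm))
      · refine hQ (s * s') (mul_mem hsQ hs'Q) (back _ (e.trans ?_))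
        calc z * s = (n * s * n⁻¹) * (n * s' * n⁻¹) := by rw [hns, hns']
          _ = _ := by group
  let W : AddSubgroup Vec :=
    { carrier := {v | ∃ l ∈ L, v = S.π (n * l * n⁻¹) ∨ v = S.π (n * l * n⁻¹) + r85}
      zero_mem' := ⟨1, L.one_mem, Or.inl (by rw [mul_one, mul_inv_cancel, S.π_one])⟩
      add_mem' := by
        rintro _ _ ⟨a, ha, rfl | rfl⟩ ⟨b, hb, rfl | rfl⟩
        · exact ⟨_, L.mul_mem ha hb, Or.inl (hπadd ha hb).symm⟩
        · exact ⟨_, L.mul_mem ha hb, Or.inr (by rw [hπadd ha hb, add_assoc])⟩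
        · exact ⟨_, L.mul_mem ha hb, Or.inr (by rw [hπadd ha hb, add_right_comm])⟩
        · exact ⟨_, L.mul_mem ha hb, Or.inl (by
            rw [hπadd ha hb, add_add_add_comm, vec_add_self, add_zero])⟩
      neg_mem' := by
        intro v hv
        have e : -v = v := neg_eq_of_add_eq_zero_left (vec_add_self v)
        rwa [e] }
  have hWD : W ≤ Dset := by
    rintro _ ⟨l, hl, rfl | rfl⟩
    · exact hshD (hLD hl)
    · exact add_mem (hshD (hLD hl)) r85_mem_D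
  have hWr : r85 ∈ W := ⟨1, L.one_mem, Or.inr (by
    rw [mul_one, mul_inv_cancel, S.π_one, zero_add])⟩
  have hLcard : Nat.card L = 16 := by
    rw [← card_A]
    refine Nat.card_congr
      { toFun := fun l => ⟨S.ρ l, l.2.2⟩
        invFun := fun a => ⟨κ a (A_le a.2).1, hκK _ _, by rw [hκρ]; exact a.2⟩
        left_inv := fun l => Subtype.ext (hκ _ _ _ l.2.1 rfl)
        right_inv := fun a => Subtype.ext (hκρ _ _) }
  have hWcard : Nat.card W = 32 := by
    have hsub : ∀ a b : ↥L, ∀ ε : Bool,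
        S.π (n * a * n⁻¹) + S.π (n * b * n⁻¹) = cond ε r85 0 → a = b ∧ ε = false := by
      intro a b ε e
      rw [← hπadd a.2 b.2] at e
      have h1 : (a : G) * b = 1 := hLinj (L.mul_mem a.2 b.2) (by
        cases ε
        · exact Or.inl e
        · exact Or.inr e)
      refine ⟨Subtype.ext ?_, ?_⟩
      · have hbb : (b : G) * b = 1 := hAsq (hL b.2.1 b.2.2)
        exact mul_right_cancel (h1.trans hbb.symm)
      · cases ε
        · rfl
        · rw [h1, mul_one, mul_inv_cancel, S.π_one] at e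
          exact absurd e.symm r85_ne
    rw [show (32 : ℕ) = Nat.card (↥L × Bool) by
      rw [Nat.card_prod, hLcard, Nat.card_eq_fintype_card, Fintype.card_bool]]
    refine (Nat.card_eq_of_bijective (fun p : ↥L × Bool =>
      (⟨S.π (n * p.1 * n⁻¹) + cond p.2 r85 0, p.1, p.1.2, by
        cases p.2
        · exact Or.inl (add_zero _)
        · exact Or.inr rfl⟩ : ↥W)) ⟨?_, ?_⟩).symm
    · rintro ⟨a, ε⟩ ⟨b, ε'⟩ e
      have e' : S.π (n * a * n⁻¹) + cond ε r85 0 = S.π (n * b * n⁻¹) + cond ε' r85 0 :=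
        congrArg Subtype.val e
      have e2 : S.π (n * a * n⁻¹) + S.π (n * b * n⁻¹) = cond (xor ε ε') r85 0 := by
        have key : ∀ p q r t : K4, p + q = r + t → p + r = q + t := by decide +kernel
        refine Eq.trans (funext fun i => key _ _ _ _ (congrFun e' i) :
          S.π (n * a * n⁻¹) + S.π (n * b * n⁻¹) = cond ε r85 0 + cond ε' r85 0) ?_
        cases ε <;> cases ε'
        · exact add_zero _
        · exact zero_add _
        · exact add_zero _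
        · exact vec_add_self _
      obtain ⟨e3, e4⟩ := hsub a b _ e2
      refine Prod.ext e3 ?_
      cases ε <;> cases ε' <;> first | rfl | exact Bool.noConfusion e4
    · rintro ⟨_, l, hl, rfl | rfl⟩
      · exact ⟨(⟨l, hl⟩, false), Subtype.ext (add_zero _)⟩
      · exact ⟨(⟨l, hl⟩, true), rfl⟩
  have hEW : ∀ e ∈ S.imgE g, ∀ w ∈ W, e w ∈ W := by
    intro e he w hw
    obtain ⟨we, hwe, rfl⟩ := S.mem_imgE.1 he
    have hwz := sideW_z hwe
    have hfix : S.ρ we r85 = r85 := by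
      have := S.imgE_fix h (S.mem_imgE.2 ⟨we, hwe, rfl⟩)
      rwa [← hs, hπs] at this
    have hd : ∀ d ∈ meetD Q g, S.ρ we (S.π d) = S.π d ∨ S.ρ we (S.π d) = S.π d + r85 := by
      intro d hd
      rw [← S.ρ_π we hwz d hd.1]
      have hcd := h.R_commutator hwe.1 hd.2
      rcases hcd with e | e
      · exact Or.inl (congrArg S.π (mul_inv_eq_one.1 e))
      · right
        have e' : we * d * we⁻¹ = s * d := mul_inv_eq_iff_eq_mul.1 e
        rw [e', S.π_mul s hsQ d hd.1, hπs, add_comm]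
    obtain ⟨sm, ⟨θ, hθ⟩⟩ : ∃ sm : Bool, ∃ θ, Semi θ (S.ρ we) := ⟨true, S.ρ_semi we hwz⟩
    obtain ⟨l, hl, rfl | rfl⟩ := hw
    · rcases hd _ (hLD hl) with e | e <;> rw [e]
      · exact ⟨l, hl, Or.inl rfl⟩
      · exact ⟨l, hl, Or.inr rfl⟩
    · rw [hθ.add, hfix]
      rcases hd _ (hLD hl) with e | e <;> rw [e]
      · exact ⟨l, hl, Or.inr rfl⟩
      · exact ⟨l, hl, Or.inl (by rw [add_assoc, vec_add_self, add_zero])⟩
  have hμW : ∀ k : ↥(stabK r85), ∀ w ∈ W, S.ρ (μ k) w ∈ W := by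
    intro k w hw
    have hl' : ∀ {l}, l ∈ L → S.ρ (μ k) (S.π (n * l * n⁻¹)) =
        S.π (n * (κ k k.2.1 * l * (κ k k.2.1)⁻¹) * n⁻¹) := by
      intro l hl
      rw [← S.ρ_π (μ k) (hμ k).1 _ (hLD hl).1]
      congr 1
      show n * κ k k.2.1 * n⁻¹ * (n * l * n⁻¹) * (n * κ k k.2.1 * n⁻¹)⁻¹ = _
      group
    have hconjL : ∀ {l}, l ∈ L → κ k k.2.1 * l * (κ k k.2.1)⁻¹ ∈ L := by
      intro l hl
      have hk := hκK k k.2.1
      refine ⟨K.mul_mem (K.mul_mem hk hl.1) (K.inv_mem hk), ?_⟩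
      rw [S.ρ_mul _ _ (S.z_comm_mul (hKz _ hk) (hKz _ hl.1)) (S.z_comm_inv (hKz _ hk)),
        S.ρ_mul _ _ (hKz _ hk) (hKz _ hl.1), S.ρ_inv (hKz _ hk), hκρ]
      exact A_normal k.2 hl.2
    obtain ⟨θ, hθ⟩ := S.ρ_semi (μ k) (hμ k).1
    obtain ⟨l, hl, rfl | rfl⟩ := hw
    · rw [hl' hl]
      exact ⟨_, hconjL hl, Or.inl rfl⟩
    · rw [hθ.add, hl' hl, (hμ k).2]
      exact ⟨_, hconjL hl, Or.inr rfl⟩
  refine D_no_invariant hWD hWcard hWr fun l w hw => ?_
  obtain ⟨k, hk⟩ := hνsurj (psiA ⟨lP l, lP_mem l⟩)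
  obtain ⟨c, hc, ec⟩ := S.ρ_surj _ (lP_mem l).1
  have hci := S.z_comm_inv (hμ k).1
  have hdz := S.z_comm_mul hci hc
  have hρd : S.ρ ((μ k)⁻¹ * c) = (S.ρ (μ k))⁻¹ * lP l := by
    rw [S.ρ_mul _ _ hci hc, S.ρ_inv (hμ k).1, ec]
  have hroot : S.ρ ((μ k)⁻¹ * c) r85 = r85 := by
    rw [hρd, Equiv.Perm.mul_apply, show lP l r85 = r85 from (lP_mem l).2]
    exact (S.ρ (μ k)).symm_apply_eq.2 (hμ k).2.symm
  have hdd : S.ρ ((μ k)⁻¹ * c) ∈ dom6 :=
    hρd ▸ dom6.mul_mem (dom6.inv_mem (hdom k)) (stab_le_dom (lP_mem l))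
  have hp1 : psi ⟨_, hdd⟩ = 1 := by
    have e : (⟨_, hdd⟩ : ↥dom6) = (dR k)⁻¹ * ⟨lP l, stab_le_dom (lP_mem l)⟩ := Subtype.ext hρd
    rw [e, map_mul, map_inv, inv_mul_eq_one]
    exact congrArg Subtype.val hk
  have hE := (hpsi hdz hroot hdd).2.1 hp1
  have hlw : lP l w = S.ρ (μ k) (S.ρ ((μ k)⁻¹ * c) w) := by
    rw [hρd, Equiv.Perm.mul_apply]
    exact ((S.ρ (μ k)).apply_symm_apply _).symm
  rw [hlw]
  exact hμW k _ (hEW _ hE w hw)

end LSetup

end Cfsg.Agent.H41.LFi
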