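import Cfsg.Agent.H41.LFi.Stab
import Cfsg.Agent.Unitary.AutCor
import Cfsg.Agent.H93.PairFit

/-!
The stabiliser of a vector of the first isotropic class is the automorphism group of U4(2).
-/

set_option autoImplicit false
set_option linter.unusedSectionVars false
set_option linter.style.haveILetI false
set_option maxRecDepth 20000

namespace Cfsg.Agent.H41.LFi

open Cfsg Cfsg.Agent.Compute Cfsg.Agent.Unitary Cfsg.Agent.H41.SUSix Matrix

attribute [local irreducible] mapsC sift invPerm H95.UFourThree.u43Chain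

theorem card_mulAut_stab : Nat.card (MulAut ↥(stabK r5)) = 51840 := by
  obtain ⟨e⟩ := stab_two_equiv
  haveI : Fact (Nat.Prime 2) := ⟨Nat.prime_two⟩
  have h25 : Nat.card ↥(stabK r5) = 25920 := card_stab_two
  rw [Nat.card_congr (MulAut.congr e).toEquiv,
    card_mulAut_PSU SUSix.hK (by norm_num) (by norm_num) (p := 2) (f := 1) le_rfl (by norm_num),
    ← Nat.card_congr e.toEquiv, h25]
  norm_num

/-- A group of permutations containing the stabiliser with index two, outer elements being
semilinear, is its automorphism group. -/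
theorem equiv_mulAut (St : Subgroup (Equiv.Perm Vec)) (hin : stabK r5 ≤ St)
    (hinK : ∀ x ∈ St, x ∈ Kl → x ∈ stabK r5) (hsemi : ∀ x ∈ St, x ∉ Kl → Semi true x)
    (hnorm : ∀ x ∈ St, ∀ n ∈ stabK r5, x * n * x⁻¹ ∈ stabK r5)
    (htwo : ∀ x ∈ St, ∀ y ∈ St, x ∉ Kl → y ∉ Kl → x * y ∈ Kl) (hout : ∃ a ∈ St, a ∉ Kl) :
    Nonempty (↥St ≃* MulAut ↥(stabK r5)) := by
  classical
  have hn : ((stabK r5).subgroupOf St).Normal := ⟨fun a ha b => hnorm b b.2 a ha⟩
  haveI := hn
  let f : ↥St →* MulAut ↥(stabK r5) :=
    (MulAut.congr (Subgroup.subgroupOfEquivOfLe hin)).toMonoidHom.comp MulAut.conjNormal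
  have hf : ∀ (x : ↥St) (n : ↥(stabK r5)),
      ((f x n : ↥(stabK r5)) : Equiv.Perm Vec) = x * n * (x : Equiv.Perm Vec)⁻¹ := fun x n => rfl
  have hinj : Function.Injective f := by
    rw [← MonoidHom.ker_eq_bot_iff, Subgroup.eq_bot_iff_forall]
    intro x hx
    have hc : ∀ n : ↥(stabK r5), (x : Equiv.Perm Vec) * n = n * x := fun n => by
      have e := congrArg (fun φ : MulAut ↥(stabK r5) => ((φ n : ↥(stabK r5)) : Equiv.Perm Vec))
        (MonoidHom.mem_ker.1 hx)
      change ((f x n : ↥(stabK r5)) : Equiv.Perm Vec) = n at e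
      rw [hf] at e
      exact mul_inv_eq_iff_eq_mul.1 e
    by_cases hK : (x : Equiv.Perm Vec) ∈ Kl
    · haveI := isSimple_stab_two
      let x' : ↥(stabK r5) := ⟨x, hinK x x.2 hK⟩
      have hx' : x' ∈ Subgroup.center ↥(stabK r5) :=
        Subgroup.mem_center_iff.2 fun n => Subtype.ext (hc n).symm
      rcases IsSimpleGroup.eq_bot_or_eq_top_of_normal (Subgroup.center ↥(stabK r5)) inferInstance
        with e | e
      · rw [e, Subgroup.mem_bot] at hx'
        exact Subtype.ext (congrArg Subtype.val hx' :)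
      · exfalso
        letI : CommGroup ↥(stabK r5) := { (inferInstance : Group ↥(stabK r5)) with
          mul_comm := fun a b => Subgroup.mem_center_iff.1 (e ▸ Subgroup.mem_top b) a }
        have hp := IsSimpleGroup.prime_card (α := ↥(stabK r5))
        rw [show Nat.card ↥(stabK r5) = 25920 from card_stab_two] at hp
        norm_num at hp
    · exfalso
      have hs := hsemi x x.2 hK
      obtain ⟨k, hk, hk2, hksep⟩ := sep_elt
      have e := Equiv.congr_fun (hc ⟨k, hk⟩) (eb 2)
      rw [Equiv.Perm.mul_apply, Equiv.Perm.mul_apply] at e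
      change (x : Equiv.Perm Vec) (k (eb 2)) = k ((x : Equiv.Perm Vec) (eb 2)) at e
      rw [hk2, hs.smul] at e
      have := hksep _ e.symm
      have h2 := (x : Equiv.Perm Vec).injective (this.trans hs.map_zero.symm)
      exact absurd h2 (by decide +kernel)
  obtain ⟨a, ha, haK⟩ := hout
  have hcard : 51840 ≤ Nat.card ↥St := by
    let j : ↥(stabK r5) × Bool → ↥St := fun p =>
      ⟨cond p.2 (a * (p.1 : Equiv.Perm Vec)) p.1, by
        cases p.2
        · exact hin p.1.2
        · exact mul_mem ha (hin p.1.2)⟩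
    have hj : Function.Injective j := by
      rintro ⟨n, b⟩ ⟨n', b'⟩ e
      have e' := congrArg Subtype.val e
      cases b <;> cases b'
      · exact Prod.ext (Subtype.ext e') rfl
      · exfalso
        refine haK ?_
        change (n : Equiv.Perm Vec) = a * n' at e'
        rw [show a = (n : Equiv.Perm Vec) * (n' : Equiv.Perm Vec)⁻¹ by rw [e', mul_inv_cancel_right]]
        exact Kl.mul_mem n.2.1 (Kl.inv_mem n'.2.1)
      · exfalso
        refine haK ?_
        change a * (n : Equiv.Perm Vec) = n' at e'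
        rw [show a = (n' : Equiv.Perm Vec) * (n : Equiv.Perm Vec)⁻¹ by rw [← e', mul_inv_cancel_right]]
        exact Kl.mul_mem n'.2.1 (Kl.inv_mem n.2.1)
      · exact Prod.ext (Subtype.ext (mul_left_cancel e')) rfl
    have := Nat.card_le_card_of_injective j hj
    rw [Nat.card_prod, show Nat.card ↥(stabK r5) = 25920 from card_stab_two,
      Nat.card_eq_fintype_card (α := Bool), Fintype.card_bool] at this
    exact this
  haveI : Finite (MulAut ↥(stabK r5)) :=
    Nat.finite_of_card_ne_zero (by rw [card_mulAut_stab]; norm_num)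
  exact ⟨MulEquiv.ofBijective f ((Nat.bijective_iff_injective_and_card _).2
    ⟨hinj, le_antisymm (Nat.card_le_card_of_injective f hinj)
      (card_mulAut_stab ▸ hcard)⟩)⟩

end Cfsg.Agent.H41.LFi
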